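import Mathlib

/-!
# Translations of coordinate vectors by root elements

A root element acts on the characters of an abelian radical by adding to some coordinates a multiple
of one other coordinate. The lemmas here are about predicates on coordinate vectors closed under
such translations: how single coordinates propagate, and how many vectors are produced.
-/

set_option autoImplicit false
set_option linter.unusedSectionVars false

namespace Cfsg.Lib.Chev.SimpDeg

/-- A sign. -/
def sg (F : Type*) [Field F] (b : Bool) : F := bif b then 1 else -1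

theorem sg_ne_zero {F : Type*} [Field F] (b : Bool) : sg F b ≠ 0 := by cases b <;> simp [sg]

theorem sg_not {F : Type*} [Field F] (b : Bool) : sg F (!b) = -sg F b := by cases b <;> simp [sg]

/-- For every root element and every coordinate: the coordinate whose multiple is added to it. -/
abbrev Src (n : ℕ) := ℕ → Fin n → Option (Fin n × Bool)

variable {n : ℕ} {F : Type*} [Field F] (T : Src n)

/-- The translation by a root element. -/
def tau (s : ℕ) (u : F) (a : Fin n → F) : Fin n → F := fun m =>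
  match T s m with
  | none => a m
  | some (j, b) => a m + sg F b * u * a j

theorem tau_none {s : ℕ} {u : F} {a : Fin n → F} {m : Fin n} (h : T s m = none) : tau T s u a m = a m := by
  simp [tau, h]

theorem tau_some {s : ℕ} {u : F} {a : Fin n → F} {m j : Fin n} {b : Bool} (h : T s m = some (j, b)) :
    tau T s u a m = a m + sg F b * u * a j := by
  simp [tau, h]

theorem tau_zero_src {s : ℕ} {u : F} {a : Fin n → F} {m : Fin n}
    (h : ∀ j b, T s m = some (j, b) → a j = 0) : tau T s u a m = a m := by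
  rcases hm : T s m with _ | ⟨j, b⟩
  · exact tau_none T hm
  · rw [tau_some T hm, h j b hm, mul_zero, add_zero]

/-- A predicate closed under the translations by the elements of a list. -/
def Closed (S : List ℕ) (P : (Fin n → F) → Prop) : Prop := ∀ s ∈ S, ∀ u a, P a → P (tau T s u a)

/-- The only coordinate fed by `i` is `j`. -/
def feedsOnly (s : ℕ) (i j : Fin n) : Bool :=
  decide (∀ m, ((T s m).map Prod.fst = some i ↔ m = j))

/-- No coordinate is fed by `i`. -/
def feedsNone (s : ℕ) (i : Fin n) : Bool :=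
  decide (∀ m, (T s m).map Prod.fst ≠ some i)

/-- An edge between two coordinates: one element carries `i` to `j` and one carries `j` to `i`. -/
def edgeOK (i j : Fin n) (s s' : ℕ) : Bool :=
  decide (i ≠ j) && feedsOnly T s i j && feedsNone T s j && feedsOnly T s' j i && feedsNone T s' i

theorem tau_two {s : ℕ} {i j : Fin n} (hij : i ≠ j) (h1 : feedsOnly T s i j = true) (h2 : feedsNone T s j = true) :
    ∃ b : Bool, ∀ (u c d : F), tau T s u (Pi.single i c + Pi.single j d) =
      Pi.single i c + Pi.single j (d + sg F b * u * c) := by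
  simp only [feedsOnly, feedsNone, decide_eq_true_eq] at h1 h2
  obtain ⟨⟨i', b⟩, hb, rfl⟩ := Option.map_eq_some_iff.1 ((h1 j).2 rfl)
  refine ⟨b, fun u c d => funext fun m => ?_⟩
  rcases eq_or_ne m j with rfl | hm
  · rw [tau_some T hb]
    simp [hij, hij.symm]
  · rw [tau_zero_src]
    · simp [hm]
    · intro k b' hk
      have e1 : k ≠ i' := fun e => hm ((h1 m).1 (by rw [hk, ← e]; rfl))
      have e2 : k ≠ j := fun e => h2 m (by rw [hk, ← e]; rfl)
      simp [e1, e2]

theorem single_edge {S : List ℕ} {P : (Fin n → F) → Prop} (hP : Closed T S P) {i j : Fin n} {s s' : ℕ}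
    (hs : s ∈ S) (hs' : s' ∈ S) (h : edgeOK T i j s s' = true) {c : F} (hc : c ≠ 0) (hi : P (Pi.single i c))
    {d : F} (hd : d ≠ 0) : P (Pi.single i d) ∧ P (Pi.single j d) := by
  simp only [edgeOK, Bool.and_eq_true, decide_eq_true_eq] at h
  obtain ⟨⟨⟨⟨hij, h1⟩, h2⟩, h3⟩, h4⟩ := h
  obtain ⟨b, hb⟩ := tau_two (F := F) T hij h1 h2
  obtain ⟨b', hb'⟩ := tau_two (F := F) T hij.symm h3 h4
  have step : ∀ v e f : F, P (Pi.single i e + Pi.single j f) → P (Pi.single i e + Pi.single j (f + v * e)) :=
    fun v e f hp => by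
      have := hP s hs (sg F b * v) _ hp
      rw [hb] at this
      rwa [show sg F b * (sg F b * v) = v by cases b <;> simp [sg]] at this
  have step' : ∀ v e f : F, P (Pi.single i e + Pi.single j f) → P (Pi.single i (e + v * f) + Pi.single j f) :=
    fun v e f hp => by
      have := hP s' hs' (sg F b' * v) _ (add_comm (Pi.single i e : Fin n → F) (Pi.single j f) ▸ hp)
      rw [hb', add_comm] at this
      rwa [show sg F b' * (sg F b' * v) = v by cases b' <;> simp [sg]] at this
  have h0 : P (Pi.single i c + Pi.single j 0) := by simpa using hi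
  have hd1 : P (Pi.single i c + Pi.single j d) := by
    have := step (d / c) c 0 h0
    rwa [zero_add, div_mul_cancel₀ d hc] at this
  refine ⟨?_, ?_⟩
  · have h5 : P (Pi.single i d + Pi.single j d) := by
      have := step' ((d - c) / d) c d hd1
      rwa [div_mul_cancel₀ _ hd, add_sub_cancel] at this
    have := step (-1) d d h5
    simpa using this
  · have := step' (-c / d) c d hd1
    rw [div_mul_cancel₀ _ hd, add_neg_cancel] at this
    simpa using this

/-- A list of edges reaches every coordinate from the bottom one. -/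
def reachOK (S : List ℕ) : List (Fin n × Fin n × ℕ × ℕ) → List (Fin n) → Bool
  | [], known => decide (∀ i, i ∈ known)
  | (i, j, s, s') :: es, known =>
    decide (i ∈ known) && decide (s ∈ S) && decide (s' ∈ S) && edgeOK T i j s s' && reachOK S es (j :: known)

theorem single_all {S : List ℕ} {P : (Fin n → F) → Prop} (hP : Closed T S P) :
    ∀ (es : List (Fin n × Fin n × ℕ × ℕ)) (known : List (Fin n)), reachOK T S es known = true →
      (∀ i ∈ known, ∀ d : F, d ≠ 0 → P (Pi.single i d)) → ∀ i, ∀ d : F, d ≠ 0 → P (Pi.single i d)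
  | [], known, h, hk, i, d, hd => hk i ((of_decide_eq_true h) i) d hd
  | (i, j, s, s') :: es, known, h, hk, m, d, hd => by
    simp only [reachOK, Bool.and_eq_true, decide_eq_true_eq] at h
    obtain ⟨⟨⟨⟨hi, hs⟩, hs'⟩, he⟩, hr⟩ := h
    refine single_all hP es (j :: known) hr (fun x hx e he' => ?_) m d hd
    rcases List.mem_cons.1 hx with rfl | hx
    · exact (single_edge T hP hs hs' he (one_ne_zero' F) (hk i hi 1 one_ne_zero) he').2
    · exact hk x hx e he'

/-- Every translation in the list only feeds lower coordinates from higher ones. -/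
def lowering (s : ℕ) : Bool :=
  decide (∀ m, ∀ p ∈ T s m, m < p.1)

theorem lt_of_lowering {s : ℕ} (h : lowering T s = true) {m j : Fin n} {b : Bool} (hm : T s m = some (j, b)) :
    m < j := by
  simp only [lowering, decide_eq_true_eq] at h
  exact h m (j, b) hm

theorem tau_injective {s : ℕ} (h : lowering T s = true) (u : F) : Function.Injective (tau T s u) := by
  intro a a' e
  funext m
  induction hd : (n - m.1) using Nat.strong_induction_on generalizing m with
  | _ d ih =>
    have he := congrFun e m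
    rcases hm : T s m with _ | ⟨j, b⟩
    · rwa [tau_none T hm, tau_none T hm] at he
    · have hlt : m.1 < j.1 := lt_of_lowering T h hm
      have hjn := j.2
      rw [tau_some T hm, tau_some T hm, ih (n - j.1) (by omega) j rfl] at he
      exact add_right_cancel he

/-- Apply the translations of a list. -/
def multi : ∀ L : List (ℕ × Fin n), (Fin L.length → F) → (Fin n → F) → (Fin n → F)
  | [], _, a => a
  | (s, _) :: L, u, a => tau T s (u 0) (multi L (fun l => u l.succ) a)

theorem multi_closed {S : List ℕ} {P : (Fin n → F) → Prop} (hP : Closed T S P) :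
    ∀ (L : List (ℕ × Fin n)), (∀ p ∈ L, p.1 ∈ S) → ∀ (u : Fin L.length → F) a, P a → P (multi T L u a)
  | [], _, _, a, ha => ha
  | (s, m) :: L, hS, u, a, ha =>
    hP s (hS (s, m) (List.mem_cons_self)) _ _
      (multi_closed hP L (fun p hp => hS p (List.mem_cons_of_mem _ hp)) _ a ha)

theorem multi_injective : ∀ (L : List (ℕ × Fin n)), (∀ p ∈ L, lowering T p.1 = true) →
    ∀ u : Fin L.length → F, Function.Injective (multi T L u)
  | [], _, _ => Function.injective_id
  | (s, m) :: L, h, u => fun a a' e =>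
    multi_injective L (fun p hp => h p (List.mem_cons_of_mem _ hp)) _
      (tau_injective T (h (s, m) (List.mem_cons_self)) _ e)

/-- Outside a support, a translation fed only from inside it changes nothing. -/
def keeps (Z : Fin n → Bool) (s : ℕ) : Bool :=
  decide (∀ m, Z m = true → ∀ p ∈ T s m, Z p.1 = true)

theorem tau_keeps {Z : Fin n → Bool} {s : ℕ} (h : keeps T Z s = true) {u : F} {a : Fin n → F}
    (ha : ∀ m, Z m = true → a m = 0) {m : Fin n} (hm : Z m = true) : tau T s u a m = 0 := by
  simp only [keeps, decide_eq_true_eq] at h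
  rw [tau_zero_src T fun j b hj => ha j (h m hm (j, b) hj), ha m hm]

theorem multi_keeps {Z : Fin n → Bool} : ∀ (L : List (ℕ × Fin n)), (∀ p ∈ L, keeps T Z p.1 = true) →
    ∀ (u : Fin L.length → F) (a : Fin n → F), (∀ m, Z m = true → a m = 0) → ∀ m, Z m = true → multi T L u a m = 0
  | [], _, _, _, ha, m, hm => ha m hm
  | (s, x) :: L, h, u, a, ha, m, hm =>
    tau_keeps T (h (s, x) List.mem_cons_self)
      (multi_keeps L (fun p hp => h p (List.mem_cons_of_mem _ hp)) _ a ha) hm

/-- The list moves the coordinate `i` independently to the coordinates it names, inside vectors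
vanishing on `Z`. -/
def leadOK (Z : Fin n → Bool) (i : Fin n) (L : List (ℕ × Fin n)) : Bool :=
  decide (∀ p ∈ L, keeps T Z p.1 = true ∧ lowering T p.1 = true ∧ (T p.1 p.2).map Prod.fst = some i ∧
    (∀ r ∈ T p.1 i, Z r.1 = true) ∧
    ∀ p' ∈ L, p' ≠ p → ∀ r ∈ T p'.1 p.2, Z r.1 = true) && decide ((L.map Prod.snd).Nodup)

theorem multi_lead {Z : Fin n → Bool} {i : Fin n} (L : List (ℕ × Fin n)) (h : leadOK T Z i L = true)
    (a : Fin n → F) (ha : ∀ m, Z m = true → a m = 0) (u : Fin L.length → F) :
    multi T L u a i = a i ∧ (∀ m, (∀ p ∈ L, p.2 ≠ m → ∀ r ∈ T p.1 m, Z r.1 = true) → m ∉ L.map Prod.snd →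
      multi T L u a m = a m) ∧
      ∀ l : Fin L.length, ∃ b : Bool, T (L.get l).1 (L.get l).2 = some (i, b) ∧
        multi T L u a (L.get l).2 = a (L.get l).2 + sg F b * u l * a i := by
  simp only [leadOK, Bool.and_eq_true, decide_eq_true_eq] at h
  obtain ⟨h, hnd⟩ := h
  induction L with
  | nil => exact ⟨rfl, fun m _ _ => rfl, fun l => l.elim0⟩
  | cons p L ih =>
    obtain ⟨s, x⟩ := p
    obtain ⟨w, hw⟩ : ∃ w : Fin n → F, w = multi T L (fun l => u l.succ) a := ⟨_, rfl⟩
    show tau T s (u 0) _ i = a i ∧ _ ∧ _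
    obtain ⟨hk, hlow, hx, hi, hoth⟩ := h (s, x) List.mem_cons_self
    rw [List.map_cons, List.nodup_cons] at hnd
    have htail : ∀ p ∈ L, keeps T Z p.1 = true ∧ lowering T p.1 = true ∧ (T p.1 p.2).map Prod.fst = some i ∧
        (∀ r ∈ T p.1 i, Z r.1 = true) ∧ ∀ p' ∈ L, p' ≠ p → ∀ r ∈ T p'.1 p.2, Z r.1 = true := fun p hp => by
      obtain ⟨a1, a2, a3, a4, a5⟩ := h p (List.mem_cons_of_mem _ hp)
      exact ⟨a1, a2, a3, a4, fun p' hp' => a5 p' (List.mem_cons_of_mem _ hp')⟩
    obtain ⟨e1, e2, e3⟩ := ih (fun l => u l.succ) htail hnd.2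
    rw [← hw] at e1 e2 e3 ⊢
    have hwZ : ∀ m, Z m = true → w m = 0 := fun m hm => by
      rw [hw]
      exact multi_keeps T L (fun p hp => (htail p hp).1) _ a ha m hm
    have same : ∀ m, (∀ r ∈ T s m, Z r.1 = true) → tau T s (u 0) w m = w m := fun m hm =>
      tau_zero_src T fun j b hj => hwZ j (hm (j, b) hj)
    refine ⟨by rw [same i hi, e1], fun m hm hmem => ?_, ?_⟩
    · rw [List.map_cons, List.mem_cons, not_or] at hmem
      show tau T s (u 0) (multi T L (fun l => u l.succ) a) m = a m
      rw [← hw, same m (hm (s, x) List.mem_cons_self (Ne.symm hmem.1)),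
        e2 m (fun p hp => hm p (List.mem_cons_of_mem _ hp)) hmem.2]
    · intro l
      refine Fin.cases ?_ ?_ l
      · obtain ⟨⟨i', b⟩, hb, hi'⟩ := Option.map_eq_some_iff.1 hx
        obtain rfl : i' = i := hi'
        refine ⟨b, hb, ?_⟩
        show tau T s (u 0) (multi T L (fun l => u l.succ) a) x = a x + sg F b * u 0 * a i'
        rw [← hw, tau_some T hb, e1, e2 x ?_ hnd.1]
        intro p hp hne r hr
        exact hoth p (List.mem_cons_of_mem _ hp) (fun e => hne (by rw [e])) r hr
      · intro l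
        obtain ⟨b, hb, hv⟩ := e3 l
        refine ⟨b, hb, ?_⟩
        show tau T s (u 0) (multi T L (fun l => u l.succ) a) (L.get l).2 = _
        have hlL : L.get l ∈ L := L.get_mem l
        rw [← hw, same _ ((h _ (List.mem_cons_of_mem _ hlL)).2.2.2.2 (s, x) List.mem_cons_self
          (fun e => hnd.1 (List.mem_map.2 ⟨_, hlL, by rw [← e]⟩))), hv]
        rfl

/-- The coordinates above `i`. -/
def above (i : Fin n) : Fin n → Bool := fun m => decide (i < m)

theorem single_above (i : Fin n) (c : F) : ∀ m, above i m = true → (Pi.single i c : Fin n → F) m = 0 := by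
  intro m hm
  simp only [above, decide_eq_true_eq] at hm
  exact Pi.single_eq_of_ne (M := fun _ => F) hm.ne' c

/-- The vectors produced from single coordinates. -/
def leadVec (Ls : Fin n → List (ℕ × Fin n)) (p : Σ i : Fin n, {c : F // c ≠ 0} × (Fin (Ls i).length → F)) :
    Fin n → F :=
  multi T (Ls p.1) p.2.2 (Pi.single p.1 p.2.1.1)

theorem leadVec_injective (Ls : Fin n → List (ℕ × Fin n)) (h : ∀ i, leadOK T (above i) i (Ls i) = true) :
    Function.Injective (leadVec (F := F) T Ls) := by
  rintro ⟨i, ⟨c, hc⟩, u⟩ ⟨i', ⟨c', hc'⟩, u'⟩ e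
  have hZ : ∀ j, ∀ p ∈ Ls j, keeps T (above j) p.1 = true := fun j p hp => by
    have := h j
    simp only [leadOK, Bool.and_eq_true, decide_eq_true_eq] at this
    exact (this.1 p hp).1
  have top : ∀ j d v, ∀ m, j < m → leadVec (F := F) T Ls ⟨j, d, v⟩ m = 0 := fun j d v m hm =>
    multi_keeps T (Ls j) (hZ j) v _ (single_above j d.1) m (decide_eq_true hm)
  have at_i : ∀ j (d : {c : F // c ≠ 0}) v, leadVec (F := F) T Ls ⟨j, d, v⟩ j = d.1 := fun j d v =>
    ((multi_lead T _ (h j) _ (single_above j d.1) v).1).trans (Pi.single_eq_same (M := fun _ => F) j d.1)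
  obtain rfl : i = i' := by
    rcases lt_trichotomy i i' with hl | hl | hl
    · exfalso
      have := top i ⟨c, hc⟩ u i' hl
      rw [e, at_i] at this
      exact hc' this
    · exact hl
    · exfalso
      have := top i' ⟨c', hc'⟩ u' i hl
      rw [← e, at_i] at this
      exact hc this
  obtain rfl : c = c' := by
    have := congrFun e i
    rwa [at_i, at_i] at this
  have hu : u = u' := funext fun l => by
    obtain ⟨b, hb, hv⟩ := (multi_lead T _ (h i) _ (single_above i c) u).2.2 l
    obtain ⟨b', hb', hv'⟩ := (multi_lead T _ (h i) _ (single_above i c) u').2.2 l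
    obtain rfl : b = b' := (Prod.ext_iff.1 (Option.some.inj (hb.symm.trans hb'))).2
    have := congrFun e ((Ls i).get l).2
    rw [leadVec, leadVec, hv, hv', Pi.single_eq_same] at this
    exact mul_left_cancel₀ (sg_ne_zero b) (mul_right_cancel₀ hc (add_left_cancel this))
  rw [hu]

theorem card_leadVec [Fintype F] (Ls : Fin n → List (ℕ × Fin n)) [DecidableEq F] :
    Fintype.card (Σ i : Fin n, {c : F // c ≠ 0} × (Fin (Ls i).length → F)) =
      (Fintype.card F - 1) * ∑ i, Fintype.card F ^ (Ls i).length := by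
  rw [Fintype.card_sigma, Finset.mul_sum]
  refine Finset.sum_congr rfl fun i _ => ?_
  rw [Fintype.card_prod, Fintype.card_fun, Fintype.card_fin, Fintype.card_subtype_compl, Fintype.card_subtype_eq]

theorem leadVec_mem {S : List ℕ} {P : (Fin n → F) → Prop} (hP : Closed T S P) (Ls : Fin n → List (ℕ × Fin n))
    (hS : ∀ i, ∀ p ∈ Ls i, p.1 ∈ S) (hsingle : ∀ i, ∀ c : F, c ≠ 0 → P (Pi.single i c))
    (p : Σ i : Fin n, {c : F // c ≠ 0} × (Fin (Ls i).length → F)) : P (leadVec T Ls p) :=
  multi_closed T hP _ (hS p.1) _ _ (hsingle _ _ p.2.1.2)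

/-- From any non-zero coordinate in `Y` one can climb to `γ`. -/
def climbOK (S : List ℕ) (Y : Fin n → Bool) (γ : Fin n) : Bool :=
  decide (∀ i, Y i = true → i ≠ γ → ∃ s ∈ S, ∃ j, i < j ∧ Y j = true ∧ (T s j).map Prod.fst = some i)

theorem climb {S : List ℕ} {P : (Fin n → F) → Prop} (hP : Closed T S P) {Y : Fin n → Bool} {γ : Fin n}
    (h : climbOK T S Y γ = true) {a : Fin n → F} (ha : P a) {i : Fin n} (hi : Y i = true) (hne : a i ≠ 0) :
    ∃ b, P b ∧ b γ ≠ 0 := by
  simp only [climbOK, decide_eq_true_eq] at h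
  induction hd : (n - i.1) using Nat.strong_induction_on generalizing i a with
  | _ d ih =>
    rcases eq_or_ne i γ with rfl | hiγ
    · exact ⟨a, ha, hne⟩
    obtain ⟨s, hs, j, hij, hj, hsrc⟩ := h i hi hiγ
    have hlt : i.1 < j.1 := hij
    have hjn := j.2
    rcases eq_or_ne (a j) 0 with hj0 | hj0
    · obtain ⟨⟨i', b⟩, hb, hi'⟩ := Option.map_eq_some_iff.1 hsrc
      obtain rfl : i' = i := hi'
      refine ih (n - j.1) (by omega) (hP s hs 1 a ha) hj ?_ rfl
      rw [tau_some T hb, hj0, zero_add, mul_one]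
      exact mul_ne_zero (sg_ne_zero b) hne
    · exact ih (n - j.1) (by omega) ha hj hj0 rfl

theorem exists_preimage [Finite F] {S : List ℕ} {P : (Fin n → F) → Prop} (hP : Closed T S P)
    (L : List (ℕ × Fin n)) (hS : ∀ p ∈ L, p.1 ∈ S) (hlow : ∀ p ∈ L, lowering T p.1 = true)
    (u : Fin L.length → F) {a : Fin n → F} (ha : P a) : ∃ b, P b ∧ multi T L u b = a := by
  obtain ⟨⟨b, hb⟩, e⟩ := Finite.injective_iff_surjective.1
    (show Function.Injective (fun b : {b // P b} => (⟨multi T L u b.1, multi_closed T hP L hS u _ b.2⟩ : {b // P b}))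
      from fun b b' e => Subtype.ext (multi_injective T L hlow u (congrArg Subtype.val e))) ⟨a, ha⟩
  exact ⟨b, hb, congrArg Subtype.val e⟩

/-- The data separating the orbit of a single coordinate from the larger orbits. -/
structure Gen (n : ℕ) where
  top : Fin n
  low : List (ℕ × Fin n)
  mid : Fin n
  side : List (ℕ × Fin n)
  five : List ℕ

/-- The coordinates that the top one feeds. -/
def Gen.zeros (D : Gen n) : Fin n → Bool := fun m => decide (m ∈ D.low.map Prod.snd)

/-- The coordinates left after clearing. -/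
def Gen.rest (D : Gen n) : Fin n → Bool := fun m => !D.zeros m && decide (m ≠ D.top)

/-- The checks on the data. -/
def Gen.ok (D : Gen n) (S : List ℕ) : Bool :=
  climbOK T S (fun _ => true) D.top && leadOK T (fun _ => false) D.top D.low &&
    climbOK T D.five D.rest D.mid && leadOK T D.zeros D.mid D.side &&
    decide ((∀ p ∈ D.low, p.1 ∈ S) ∧ (∀ p ∈ D.side, p.1 ∈ D.five) ∧ D.rest D.mid = true ∧
      (∀ p ∈ D.side, p.2 ≠ D.mid) ∧
      (∀ s ∈ D.five, s ∈ S ∧ keeps T D.zeros s = true ∧ ∀ r ∈ T s D.top, D.zeros r.1 = true))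

/-- A large family of vectors inside a predicate. -/
def Big (P : (Fin n → F) → Prop) (N : ℕ) : Prop :=
  ∃ f : (Fin N → F) → (Fin n → F), Function.Injective f ∧ ∀ x, P (f x) ∧ f x ≠ 0

theorem gen_top [Finite F] {S : List ℕ} {P : (Fin n → F) → Prop} (hP : Closed T S P) (D : Gen n)
    (hD : D.ok T S = true) {a : Fin n → F} (ha : P a) (htop : a D.top ≠ 0) :
    (P (Pi.single D.top (a D.top)) ∧ ∃ u, a = multi T D.low u (Pi.single D.top (a D.top))) ∨
      Big P (D.low.length + D.side.length) := by
  classical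
  simp only [Gen.ok, Bool.and_eq_true, decide_eq_true_eq] at hD
  obtain ⟨⟨⟨⟨-, hlow⟩, hfive⟩, hside⟩, hlS, hsF, hmid, hsmid, hF⟩ := hD
  have hl := hlow
  simp only [leadOK, Bool.and_eq_true, decide_eq_true_eq] at hl
  obtain ⟨hl, hlnd⟩ := hl
  have hzf : ∀ (v : Fin n → F) m, (fun _ => false : Fin n → Bool) m = true → v m = 0 := fun v m hm => by simp at hm
  have hsrc : ∀ l : Fin D.low.length, ∃ b, T (D.low.get l).1 (D.low.get l).2 = some (D.top, b) := fun l => by
    obtain ⟨⟨i, b⟩, hb, hi⟩ := Option.map_eq_some_iff.1 (hl _ (D.low.get_mem l)).2.2.1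
    exact ⟨b, hi ▸ hb⟩
  choose bl hbl using hsrc
  obtain ⟨u, hu⟩ : ∃ u : Fin D.low.length → F,
      u = fun l => a (D.low.get l).2 / (sg F (bl l) * a D.top) := ⟨_, rfl⟩
  obtain ⟨b, hb, eb⟩ := exists_preimage T hP D.low hlS (fun p hp => (hl p hp).2.1) u ha
  obtain ⟨e1, e2, e3⟩ := multi_lead T D.low hlow b (hzf b) u
  rw [eb] at e1 e2 e3
  have hbz : ∀ m, D.zeros m = true → b m = 0 := fun m hm => by
    obtain ⟨p, hp, rfl⟩ := List.mem_map.1 (of_decide_eq_true hm)
    obtain ⟨l, rfl⟩ := List.get_of_mem hp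
    obtain ⟨b', hb', hv⟩ := e3 l
    obtain rfl : b' = bl l := (Prod.ext_iff.1 (Option.some.inj (hb'.symm.trans (hbl l)))).2
    have hu' : sg F (bl l) * u l * a D.top = a (D.low.get l).2 := by
      rw [hu]
      field_simp [sg_ne_zero]
    rw [← e1, hu'] at hv
    exact add_eq_right.1 hv.symm
  by_cases hr : ∀ m, D.rest m = true → b m = 0
  · left
    have hbs : b = Pi.single D.top (a D.top) := by
      funext m
      rcases eq_or_ne m D.top with rfl | hm
      · rw [Pi.single_eq_same, e1]
      · rw [Pi.single_eq_of_ne (M := fun _ => F) hm]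
        by_cases hz : D.zeros m = true
        · exact hbz m hz
        · exact hr m (by simp [Gen.rest, hz, hm])
    exact ⟨hbs ▸ hb, u, by rw [← hbs, eb]⟩
  right
  push Not at hr
  obtain ⟨m₀, hm₀, hne⟩ := hr
  obtain ⟨c, hc⟩ : ∃ c, c = a D.top := ⟨_, rfl⟩
  have hQ : Closed T D.five (fun v => P v ∧ (∀ m, D.zeros m = true → v m = 0) ∧ v D.top = c) :=
    fun s hs x v ⟨h1, h2, h3⟩ => ⟨hP s (hF s hs).1 x v h1, fun m hm => tau_keeps T (hF s hs).2.1 h2 hm,
      by rw [tau_zero_src T fun j b' hj => h2 j ((hF s hs).2.2 (j, b') hj), h3]⟩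
  obtain ⟨b', ⟨hb'P, hb'z, hb't⟩, hb'm⟩ := climb T hQ hfive (a := b) ⟨hb, hbz, by rw [hc, e1]⟩ hm₀ hne
  refine ⟨fun x => multi T D.low (fun l => x (Fin.castAdd _ l))
    (multi T D.side (fun l => x (Fin.natAdd _ l)) b'), fun x y e => ?_, fun x => ?_⟩
  · obtain ⟨w, hw⟩ : ∃ w, w = fun x : Fin (D.low.length + D.side.length) → F =>
        multi T D.side (fun l => x (Fin.natAdd _ l)) b' := ⟨_, rfl⟩
    have hwQ : ∀ x, (∀ m, D.zeros m = true → w x m = 0) ∧ w x D.top = c := fun x => by
      rw [hw]
      exact (multi_closed T hQ D.side hsF _ _ ⟨hb'P, hb'z, hb't⟩).2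
    replace e : multi T D.low (fun l => x (Fin.castAdd D.side.length l)) (w x) =
        multi T D.low (fun l => y (Fin.castAdd D.side.length l)) (w y) := by rw [hw]; exact e
    have hu' : (fun l => x (Fin.castAdd D.side.length l)) = fun l => y (Fin.castAdd D.side.length l) := by
      funext l
      obtain ⟨b1, hb1, hv1⟩ := (multi_lead T D.low hlow (w x) (hzf _) fun l => x (Fin.castAdd _ l)).2.2 l
      obtain ⟨b2, hb2, hv2⟩ := (multi_lead T D.low hlow (w y) (hzf _) fun l => y (Fin.castAdd _ l)).2.2 l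
      obtain rfl : b1 = b2 := (Prod.ext_iff.1 (Option.some.inj (hb1.symm.trans hb2))).2
      have hz : D.zeros (D.low.get l).2 = true := decide_eq_true (List.mem_map_of_mem (D.low.get_mem l))
      rw [e, hv2, (hwQ x).2, (hwQ y).2, (hwQ x).1 _ hz, (hwQ y).1 _ hz, zero_add, zero_add] at hv1
      exact (mul_left_cancel₀ (sg_ne_zero b1) (mul_right_cancel₀ (hc ▸ htop) hv1)).symm
    rw [hu'] at e
    have e' := multi_injective T D.low (fun p hp => (hl p hp).2.1) _ e
    rw [hw] at e'
    funext k
    refine Fin.addCases (fun l => congrFun hu' l) (fun l => ?_) k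
    obtain ⟨b1, hb1, hv1⟩ := (multi_lead T D.side hside b' hb'z fun l => x (Fin.natAdd _ l)).2.2 l
    obtain ⟨b2, hb2, hv2⟩ := (multi_lead T D.side hside b' hb'z fun l => y (Fin.natAdd _ l)).2.2 l
    obtain rfl : b1 = b2 := (Prod.ext_iff.1 (Option.some.inj (hb1.symm.trans hb2))).2
    beta_reduce at e'
    rw [congrFun e' _, hv2] at hv1
    exact (mul_left_cancel₀ (sg_ne_zero b1) (mul_right_cancel₀ hb'm (add_left_cancel hv1))).symm
  · have hS : ∀ p ∈ D.side, p.1 ∈ D.five := hsF
    obtain ⟨h1, -, h3⟩ := multi_closed T hQ D.side hS (fun l => x (Fin.natAdd _ l)) b' ⟨hb'P, hb'z, hb't⟩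
    refine ⟨multi_closed T hP D.low hlS _ _ h1, fun e => htop ?_⟩
    have := congrFun e D.top
    beta_reduce at this
    rwa [(multi_lead T D.low hlow _ (hzf _) _).1, h3, hc] at this

theorem gen_dichotomy [Finite F] {S : List ℕ} {P : (Fin n → F) → Prop} (hP : Closed T S P) (D : Gen n)
    (hD : D.ok T S = true) {a : Fin n → F} (ha : P a) (hne : a ≠ 0) :
    (∃ c, c ≠ 0 ∧ P (Pi.single D.top c)) ∨ Big P (D.low.length + D.side.length) := by
  obtain ⟨i, hi⟩ := Function.ne_iff.1 hne
  have hc : climbOK T S (fun _ => true) D.top = true := by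
    simp only [Gen.ok, Bool.and_eq_true] at hD
    exact hD.1.1.1.1
  obtain ⟨b, hb, hbt⟩ := climb T hP hc ha (rfl : (fun _ => true : Fin n → Bool) i = true) hi
  exact (gen_top T hP D hD hb hbt).imp (fun h => ⟨_, hbt, h.1⟩) id

end Cfsg.Lib.Chev.SimpDeg
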