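import Cfsg.Agent.Lib.Chev.SimplyDegree.Sys
import Mathlib.GroupTheory.GroupAction.Quotient

/-!
# The orbit of a root element inside an elementary abelian group of root elements
-/

set_option autoImplicit false
set_option linter.unusedSectionVars false

namespace Cfsg.Lib.Chev.SimpDeg

variable {G F : Type*} [Group G] [Field F] {tr : ℕ → ℕ → Tr} (Y : Sys G F tr) {n : ℕ} (P : Fin n → ℕ)

/-- The sources for conjugation. -/
def conjSrc (tr : ℕ → ℕ → Tr) : Src n := fun s m =>
  (List.finRange n).findSome? fun i =>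
    match tr s (P i) with
    | .to k b => if k = P m then some (i, b) else none
    | _ => none

/-- The effect of an element on one root of the group. -/
def conjOK (tr : ℕ → ℕ → Tr) (s : ℕ) (i : Fin n) : Bool :=
  (decide (P i = s) && feedsNone (conjSrc P tr) s i) ||
  match tr s (P i) with
  | .bad => false
  | .comm => feedsNone (conjSrc P tr) s i
  | .to k b => decide (∃ j, P j = k ∧ i ≠ j ∧ feedsOnly (conjSrc P tr) s i j = true ∧ conjSrc P tr s j = some (i, b))

/-- The checks for the group and the elements acting on it. -/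
def groupOK (tr : ℕ → ℕ → Tr) (S : List ℕ) : Bool :=
  decide (∀ i j : Fin n, i ≠ j → tr (P i) (P j) = .comm) && S.all fun s => decide (∀ i, conjOK P tr s i = true)

theorem tau_add (T : Src n) (s : ℕ) (u : F) (v w : Fin n → F) : tau T s u (v + w) = tau T s u v + tau T s u w := by
  funext m
  rcases h : T s m with _ | ⟨j, b⟩
  · simp [tau_none T h]
  · simp [tau_some T h]; ring

variable [Finite F]

theorem commute_roots {S : List ℕ} (h : groupOK P tr S = true) :
    Pairwise fun i j => ∀ a b : Multiplicative F, Commute (Y.x (P i) a.toAdd) (Y.x (P j) b.toAdd) := by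
  intro i j hij a b
  simp only [groupOK, Bool.and_eq_true, decide_eq_true_eq] at h
  exact Y.swap_comm (h.1 j i hij.symm) _ _

/-- One root group. -/
noncomputable def rootHom (i : Fin n) : Multiplicative F →* G where
  toFun t := Y.x (P i) t.toAdd
  map_one' := Y.zero _
  map_mul' _ _ := Y.add _ _ _

/-- The group of the root elements. -/
noncomputable def elem {S : List ℕ} (h : groupOK P tr S = true) : Multiplicative (Fin n → F) →* G :=
  (MonoidHom.noncommPiCoprod (rootHom Y P) (commute_roots Y P h)).comp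
    { toFun := fun w i => Multiplicative.ofAdd (w.toAdd i)
      map_one' := rfl
      map_mul' := fun _ _ => rfl }

theorem elem_single {S : List ℕ} (h : groupOK P tr S = true) (i : Fin n) (t : F) :
    elem Y P h (Multiplicative.ofAdd (Pi.single i t)) = Y.x (P i) t := by
  have e : (fun j => Multiplicative.ofAdd ((Pi.single i t : Fin n → F) j)) =
      (Pi.mulSingle i (Multiplicative.ofAdd t) : Fin n → Multiplicative F) := by
    funext j
    rcases eq_or_ne j i with rfl | hj
    · rw [Pi.single_eq_same, Pi.mulSingle_eq_same]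
    · rw [Pi.single_eq_of_ne (M := fun _ => F) hj, Pi.mulSingle_eq_of_ne (M := fun _ => Multiplicative F) hj, ofAdd_zero]
  show MonoidHom.noncommPiCoprod (rootHom Y P) (commute_roots Y P h) (fun j => Multiplicative.ofAdd ((Pi.single i t : Fin n → F) j)) = _
  rw [e]
  exact (MonoidHom.noncommPiCoprod_mulSingle (rootHom Y P) i (Multiplicative.ofAdd t)).trans rfl

theorem elem_conj {S : List ℕ} (h : groupOK P tr S = true) {s : ℕ} (hs : s ∈ S) (u : F) (w : Fin n → F) :
    Y.x s u * elem Y P h (Multiplicative.ofAdd w) * (Y.x s u)⁻¹ =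
      elem Y P h (Multiplicative.ofAdd (tau (conjSrc P tr) s u w)) := by
  classical
  have hc := h
  simp only [groupOK, Bool.and_eq_true, List.all_eq_true, decide_eq_true_eq] at hc
  rw [← Finset.univ_sum_single w]
  induction (Finset.univ : Finset (Fin n)) using Finset.induction_on with
  | empty =>
    rw [Finset.sum_empty, show tau (conjSrc P tr) s u (0 : Fin n → F) = 0 from
      funext fun m => tau_zero_src _ fun j b _ => rfl, ofAdd_zero, map_one, mul_one, mul_inv_cancel]
  | insert i T hi ih =>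
    rw [Finset.sum_insert hi, tau_add, ofAdd_add, ofAdd_add, map_mul, map_mul, ← ih, ← conj_mul, mul_left_inj]
    have hci := hc.2 s hs i
    have none_case : feedsNone (conjSrc P tr) s i = true →
        tau (conjSrc P tr) s u (Pi.single i (w i)) = Pi.single i (w i) := fun hn => funext fun m =>
      tau_zero_src _ fun j b hj => Pi.single_eq_of_ne (M := fun _ => F)
        (fun e => (of_decide_eq_true hn) m (by rw [hj, ← e]; rfl)) _
    simp only [conjOK, Bool.or_eq_true, Bool.and_eq_true, decide_eq_true_eq] at hci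
    rcases hci with ⟨rfl, hn⟩ | hci
    · rw [elem_single, none_case hn, elem_single, Y.comm_self, mul_inv_cancel_right]
    · rcases htr : tr s (P i) with _ | _ | ⟨k, b⟩ <;> simp only [htr, decide_eq_true_eq, Bool.false_eq_true] at hci
      · rw [elem_single, none_case hci, elem_single, Y.comm _ _ htr]
      · obtain ⟨j, rfl, hij, hj, hsrc⟩ := hci
        have e : tau (conjSrc P tr) s u (Pi.single i (w i)) = Pi.single i (w i) + Pi.single j (sg F b * w i * u) := by
          funext m
          simp only [feedsOnly, decide_eq_true_eq] at hj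
          rcases eq_or_ne m j with rfl | hm
          · rw [tau_some _ hsrc]
            simp [hij.symm]
            ring
          · rw [tau_zero_src]
            · simp [hm]
            · intro l b' hl
              exact Pi.single_eq_of_ne (M := fun _ => F) (fun e => hm ((hj m).1 (by rw [hl, ← e]; rfl))) _
        rw [e, ofAdd_add, map_mul, elem_single, elem_single, Y.conj _ _ _ _ htr]

/-- The data for transitivity on the non-zero vectors. -/
def transOK (tr : ℕ → ℕ → Tr) (S : List ℕ) (γ : Fin n) (L : List (ℕ × Fin n))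
    (e : Fin n × Fin n × ℕ × ℕ) (es : List (Fin n × Fin n × ℕ × ℕ)) : Bool :=
  climbOK (conjSrc P tr) S (fun _ => true) γ && leadOK (conjSrc P tr) (fun _ => false) γ L &&
    reachOK (conjSrc P tr) S (e :: es) [γ] && decide ((∀ p ∈ L, p.1 ∈ S) ∧ ∀ m, m ≠ γ → m ∈ L.map Prod.snd)

theorem reach_single {S : List ℕ} {γ : Fin n} {L : List (ℕ × Fin n)} {e : Fin n × Fin n × ℕ × ℕ}
    {es : List (Fin n × Fin n × ℕ × ℕ)} (h : transOK P tr S γ L e es = true) {R : (Fin n → F) → Prop}
    (hR : Closed (conjSrc P tr) S R) {w : Fin n → F} (hw : w ≠ 0) (hRw : R w) :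
    ∀ i, ∀ c : F, c ≠ 0 → R (Pi.single i c) := by
  classical
  simp only [transOK, Bool.and_eq_true, decide_eq_true_eq] at h
  obtain ⟨⟨⟨hclimb, hlead⟩, hre⟩, hLS, hall⟩ := h
  obtain ⟨i₀, hi₀⟩ := Function.ne_iff.1 hw
  obtain ⟨a, ha, hane⟩ := climb (conjSrc P tr) hR hclimb hRw
    (rfl : (fun _ => true : Fin n → Bool) i₀ = true) hi₀
  have hl := hlead
  simp only [leadOK, Bool.and_eq_true, decide_eq_true_eq] at hl
  have hsrc : ∀ l : Fin L.length, ∃ b, conjSrc P tr (L.get l).1 (L.get l).2 = some (γ, b) := fun l => by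
    obtain ⟨⟨i, b⟩, hb, hi⟩ := Option.map_eq_some_iff.1 (hl.1 _ (L.get_mem l)).2.2.1
    exact ⟨b, hi ▸ hb⟩
  choose bl hbl using hsrc
  obtain ⟨u, hu⟩ : ∃ u : Fin L.length → F, u = fun l => a (L.get l).2 / (sg F (bl l) * a γ) := ⟨_, rfl⟩
  obtain ⟨b, hb, eb⟩ := exists_preimage (conjSrc P tr) hR L hLS (fun p hp => (hl.1 p hp).2.1) u ha
  obtain ⟨e1, -, e3⟩ := multi_lead (conjSrc P tr) L hlead b (fun m hm => by simp at hm) u
  rw [eb] at e1 e3
  have hbs : b = Pi.single γ (a γ) := funext fun m => by
    rcases eq_or_ne m γ with rfl | hm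
    · rw [Pi.single_eq_same, e1]
    · rw [Pi.single_eq_of_ne (M := fun _ => F) hm]
      obtain ⟨p, hp, rfl⟩ := List.mem_map.1 (hall m hm)
      obtain ⟨l, rfl⟩ := List.get_of_mem hp
      obtain ⟨b', hb', hv⟩ := e3 l
      obtain rfl : b' = bl l := (Prod.ext_iff.1 (Option.some.inj (hb'.symm.trans (hbl l)))).2
      have hu' : sg F (bl l) * u l * a γ = a (L.get l).2 := by
        rw [hu]
        field_simp [sg_ne_zero]
      rw [← e1, hu'] at hv
      exact add_eq_right.1 hv.symm
  haveI := Fintype.ofFinite F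
  exact single_any hR hre hane (hbs ▸ hb)

/-- The orbit of a root element is every non-trivial element of the group, so its size divides the
order of a subgroup. -/
theorem dvd_card [Finite G] {S : List ℕ} (hG : groupOK P tr S = true) {γ : Fin n} {L : List (ℕ × Fin n)}
    {e : Fin n × Fin n × ℕ × ℕ} {es : List (Fin n × Fin n × ℕ × ℕ)} (h : transOK P tr S γ L e es = true)
    (hne : ∀ t : F, t ≠ 0 → Y.x (P γ) t ≠ 1) (K : Subgroup G) (hK : ∀ s ∈ S, ∀ u, Y.x s u ∈ K) :
    Nat.card F ^ n - 1 ∣ Nat.card K := by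
  classical
  haveI := Fintype.ofFinite F
  obtain ⟨el, hel⟩ : ∃ el : (Fin n → F) → G, ∀ w, el w = elem Y P hG (Multiplicative.ofAdd w) := ⟨_, fun _ => rfl⟩
  have hconj : ∀ s ∈ S, ∀ u w, Y.x s u * el w * (Y.x s u)⁻¹ = el (tau (conjSrc P tr) s u w) :=
    fun s hs u w => by rw [hel, hel, elem_conj Y P hG hs]
  have hker : ∀ w, el w = 1 → w = 0 := fun w hw => by
    by_contra hw0
    have h1 := reach_single P h (R := fun v => el v = 1)
      (fun s hs u v hv => by show el _ = 1; rw [← hconj s hs u v, show el v = 1 from hv, mul_one, mul_inv_cancel]) hw0 hw γ 1 one_ne_zero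
    rw [hel, elem_single] at h1
    exact hne 1 one_ne_zero h1
  have hinj : Function.Injective el := fun v w e => by
    refine sub_eq_zero.1 (hker _ ?_)
    rw [hel] at e ⊢
    rw [sub_eq_add_neg, ofAdd_add, map_mul, e, hel, ← map_mul, ← ofAdd_add, add_neg_cancel, ofAdd_zero, map_one]
  have hone : (Pi.single γ 1 : Fin n → F) ≠ 0 := fun e => one_ne_zero' F (by simpa using congrFun e γ)
  obtain ⟨O, hO⟩ : ∃ O : Set G, O = el '' {w | w ≠ 0} := ⟨_, rfl⟩
  have hgen : ∀ g ∈ Subgroup.closure {g | ∃ s ∈ S, ∃ u, g = Y.x s u},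
      ∀ w, w ≠ 0 → ∃ v, v ≠ 0 ∧ g * el w * g⁻¹ = el v := by
    intro g hg
    induction hg using Subgroup.closure_induction'' with
    | one => exact fun w hw => ⟨w, hw, by simp⟩
    | mem g hg =>
      obtain ⟨s, hs, u, rfl⟩ := hg
      refine fun w hw => ⟨_, fun e => hw (hker w ?_), hconj s hs u w⟩
      have := hconj s hs u w
      rw [e, show el 0 = 1 by rw [hel, ofAdd_zero, map_one], mul_inv_eq_one, mul_eq_left] at this
      exact this
    | inv_mem g hg =>
      obtain ⟨s, hs, u, rfl⟩ := hg
      rw [Y.inv]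
      refine fun w hw => ⟨_, fun e => hw (hker w ?_), hconj s hs (-u) w⟩
      have := hconj s hs (-u) w
      rw [e, show el 0 = 1 by rw [hel, ofAdd_zero, map_one], mul_inv_eq_one, mul_eq_left] at this
      exact this
    | mul g g' _ _ ih ih' =>
      intro w hw
      obtain ⟨v, hv, e⟩ := ih' w hw
      obtain ⟨v', hv', e'⟩ := ih v hv
      exact ⟨v', hv', by rw [← e', ← e]; group⟩
  obtain ⟨H, hH⟩ : ∃ H : Subgroup G, H = Subgroup.closure {g | ∃ s ∈ S, ∃ u, g = Y.x s u} := ⟨_, rfl⟩
  have hHK : H ≤ K := hH ▸ (Subgroup.closure_le K).2 fun g ⟨s, hs, u, e⟩ => e ▸ hK s hs u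
  refine dvd_trans ?_ (Subgroup.card_dvd_of_le hHK)
  letI : MulAction ↥H G := MulAction.compHom G ((MulAut.conj : G →* MulAut G).comp H.subtype)
  have horb : MulAction.orbit ↥H (el (Pi.single γ 1)) = O := by
    refine Set.Subset.antisymm ?_ ?_
    · rintro _ ⟨g, rfl⟩
      obtain ⟨v, hv, e⟩ := hgen g.1 (hH ▸ g.2) _ hone
      rw [hO]
      exact ⟨v, hv, e.symm⟩
    · rw [hO]
      rintro _ ⟨w, hw, rfl⟩
      have h1 := reach_single P h (R := fun v => el v ∈ MulAction.orbit ↥H (el w))
        (fun s hs u v hv => by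
          obtain ⟨g, hg⟩ := hv
          refine ⟨⟨Y.x s u, hH ▸ Subgroup.subset_closure ⟨s, hs, u, rfl⟩⟩ * g, ?_⟩
          show _ • el w = _
          rw [mul_smul, show g • el w = el v from hg]
          exact hconj s hs u v) hw (MulAction.mem_orbit_self _) γ 1 one_ne_zero
      exact MulAction.mem_orbit_symm.1 h1
  have hdvd : Nat.card (MulAction.orbit ↥H (el (Pi.single γ 1))) ∣ Nat.card ↥H := by
    rw [Nat.card_congr (MulAction.orbitEquivQuotientStabilizer ↥H (el (Pi.single γ 1)))]
    exact Subgroup.card_quotient_dvd_card _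
  rw [horb, hO, Nat.card_image_of_injective hinj] at hdvd
  refine (dvd_of_eq ?_).trans hdvd
  show _ = Nat.card {w : Fin n → F // w ≠ 0}
  rw [Nat.card_eq_fintype_card, Nat.card_eq_fintype_card, Fintype.card_subtype_compl, Fintype.card_subtype_eq,
    Fintype.card_fun, Fintype.card_fin]

end Cfsg.Lib.Chev.SimpDeg
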