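import Mathlib

/-!
# The degrees just below the target do not divide the order
-/

set_option autoImplicit false
set_option maxRecDepth 100000

namespace Cfsg.Lib.Chev.SimpDeg.E6

/-- The order of E6 times the order of its centre. -/
def ordE (q : ℕ) : ℕ := q ^ 36 * ((q ^ 2 - 1) * (q ^ 5 - 1) * (q ^ 6 - 1) * (q ^ 8 - 1) * (q ^ 9 - 1) * (q ^ 12 - 1))

/-- The small cases. -/
def smallOK (q : ℕ) : Bool :=
  (List.range' 1 6).all fun j => Nat.blt 0 (ordE q % (q * (q ^ 6 + q ^ 3 + 1) * (q ^ 4 + 1) - j)) ||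
    (Nat.beq q 2 && Nat.beq j 2) || (Nat.beq q 4 && Nat.beq j 4)

theorem small_all : (List.range' 2 3798).all smallOK = true := by decide +kernel

theorem big1 (x : ℤ) (hx : 3800 ≤ x) : ¬ (x ^ 11 + x ^ 8 + x ^ 7 + x ^ 5 + x ^ 4 + x - 1) ∣
    1 * ((x ^ 2 - 1) * (x ^ 5 - 1) * (x ^ 6 - 1) * (x ^ 8 - 1) * (x ^ 9 - 1) * (x ^ 12 - 1)) := by
  rintro ⟨z, hz⟩
  obtain ⟨R, hR⟩ : ∃ R : ℤ, R = -26 + 12 * x + 18 * x ^ 2 + 6 * x ^ 3 + 36 * x ^ 4 + 33 * x ^ 5 + 5 * x ^ 6 + 5 * x ^ 7 + 7 * x ^ 8 - 19 * x ^ 9 - 27 * x ^ 10 := ⟨_, rfl⟩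
  have hd : (x ^ 11 + x ^ 8 + x ^ 7 + x ^ 5 + x ^ 4 + x - 1) ∣ 1 * (-R) :=
    ⟨1 * (-27 - 15 * x + 4 * x ^ 2 + 10 * x ^ 3 + 19 * x ^ 4 + 11 * x ^ 5 + 6 * x ^ 6 - 3 * x ^ 7 - 9 * x ^ 8 - 8 * x ^ 9 - 5 * x ^ 10 - 2 * x ^ 11 + 2 * x ^ 12 + 6 * x ^ 13 + 3 * x ^ 14 + 3 * x ^ 15 - 1 * x ^ 16 - 1 * x ^ 17 - 3 * x ^ 18 - 3 * x ^ 19 + 1 * x ^ 22 + 2 * x ^ 23 + 2 * x ^ 24 - 1 * x ^ 27 - 1 * x ^ 28 - 1 * x ^ 29 + 1 * x ^ 31) - z, by rw [hR]; linear_combination (-1 : ℤ) * hz⟩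
  have hp : ∀ i, 0 ≤ x ^ i := fun i => pow_nonneg (by omega) i
  have hm : ∀ i, i ≤ 9 → x ^ i ≤ x ^ 9 := fun i hi => pow_le_pow_right₀ (by omega) hi
  have h10 : 3800 * x ^ 9 ≤ x ^ 10 := by rw [pow_succ' x 9]; exact mul_le_mul_of_nonneg_right hx (hp 9)
  have h11 : 3800 * x ^ 10 ≤ x ^ 11 := by rw [pow_succ' x 10]; exact mul_le_mul_of_nonneg_right hx (hp 10)
  have h9 : 1 ≤ x ^ 9 := one_le_pow₀ (by omega)
  have h1 : x ≤ x ^ 9 := le_self_pow₀ (by omega) (by norm_num)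
  have := hp 2; have := hp 3; have := hp 4; have := hp 5; have := hp 6; have := hp 7; have := hp 8; have := hp 11
  have := hm 2 (by norm_num); have := hm 3 (by norm_num); have := hm 4 (by norm_num); have := hm 5 (by norm_num)
  have := hm 6 (by norm_num); have := hm 7 (by norm_num); have := hm 8 (by norm_num)
  have := Int.le_of_dvd (by rw [hR]; linarith) hd
  rw [hR] at this
  linarith

theorem big2 (x : ℤ) (hx : 3800 ≤ x) : ¬ (x ^ 11 + x ^ 8 + x ^ 7 + x ^ 5 + x ^ 4 + x - 2) ∣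
    2 * ((x ^ 2 - 1) * (x ^ 5 - 1) * (x ^ 6 - 1) * (x ^ 8 - 1) * (x ^ 9 - 1) * (x ^ 12 - 1)) := by
  rintro ⟨z, hz⟩
  obtain ⟨R, hR⟩ : ∃ R : ℤ, R = -115 + 24 * x + 74 * x ^ 2 + 33 * x ^ 3 + 111 * x ^ 4 + 64 * x ^ 5 - 21 * x ^ 6 - 25 * x ^ 7 - 26 * x ^ 8 - 80 * x ^ 9 - 83 * x ^ 10 := ⟨_, rfl⟩
  have hd : (x ^ 11 + x ^ 8 + x ^ 7 + x ^ 5 + x ^ 4 + x - 2) ∣ 2 * (-R) :=
    ⟨2 * (-58 - 17 * x + 29 * x ^ 2 + 31 * x ^ 3 + 42 * x ^ 4 + 16 * x ^ 5 + 4 * x ^ 6 - 10 * x ^ 7 - 19 * x ^ 8 - 14 * x ^ 9 - 9 * x ^ 10 - 1 * x ^ 11 + 6 * x ^ 12 + 11 * x ^ 13 + 5 * x ^ 14 + 4 * x ^ 15 - 3 * x ^ 16 - 3 * x ^ 17 - 4 * x ^ 18 - 3 * x ^ 19 + 1 * x ^ 20 + 1 * x ^ 22 + 2 * x ^ 23 + 2 * x ^ 24 - 1 * x ^ 27 - 1 * x ^ 28 - 1 * x ^ 29 + 1 * x ^ 31) - z, by rw [hR]; linear_combination (-1 : ℤ) * hz⟩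
  have hp : ∀ i, 0 ≤ x ^ i := fun i => pow_nonneg (by omega) i
  have hm : ∀ i, i ≤ 9 → x ^ i ≤ x ^ 9 := fun i hi => pow_le_pow_right₀ (by omega) hi
  have h10 : 3800 * x ^ 9 ≤ x ^ 10 := by rw [pow_succ' x 9]; exact mul_le_mul_of_nonneg_right hx (hp 9)
  have h11 : 3800 * x ^ 10 ≤ x ^ 11 := by rw [pow_succ' x 10]; exact mul_le_mul_of_nonneg_right hx (hp 10)
  have h9 : 1 ≤ x ^ 9 := one_le_pow₀ (by omega)
  have h1 : x ≤ x ^ 9 := le_self_pow₀ (by omega) (by norm_num)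
  have := hp 2; have := hp 3; have := hp 4; have := hp 5; have := hp 6; have := hp 7; have := hp 8; have := hp 11
  have := hm 2 (by norm_num); have := hm 3 (by norm_num); have := hm 4 (by norm_num); have := hm 5 (by norm_num)
  have := hm 6 (by norm_num); have := hm 7 (by norm_num); have := hm 8 (by norm_num)
  have := Int.le_of_dvd (by rw [hR]; linarith) hd
  rw [hR] at this
  linarith

theorem big3 (x : ℤ) (hx : 3800 ≤ x) : ¬ (x ^ 11 + x ^ 8 + x ^ 7 + x ^ 5 + x ^ 4 + x - 3) ∣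
    3 * ((x ^ 2 - 1) * (x ^ 5 - 1) * (x ^ 6 - 1) * (x ^ 8 - 1) * (x ^ 9 - 1) * (x ^ 12 - 1)) := by
  rintro ⟨z, hz⟩
  obtain ⟨R, hR⟩ : ∃ R : ℤ, R = -278 + 72 * x + 228 * x ^ 2 + 112 * x ^ 3 + 238 * x ^ 4 + 75 * x ^ 5 - 95 * x ^ 6 - 95 * x ^ 7 - 99 * x ^ 8 - 177 * x ^ 9 - 167 * x ^ 10 := ⟨_, rfl⟩
  have hd : (x ^ 11 + x ^ 8 + x ^ 7 + x ^ 5 + x ^ 4 + x - 3) ∣ 3 * (-R) :=
    ⟨3 * (-93 - 7 * x + 74 * x ^ 2 + 62 * x ^ 3 + 69 * x ^ 4 + 15 * x ^ 5 - 4 * x ^ 6 - 19 * x ^ 7 - 29 * x ^ 8 - 18 * x ^ 9 - 13 * x ^ 10 + 10 * x ^ 12 + 16 * x ^ 13 + 7 * x ^ 14 + 5 * x ^ 15 - 5 * x ^ 16 - 5 * x ^ 17 - 5 * x ^ 18 - 3 * x ^ 19 + 2 * x ^ 20 + 1 * x ^ 22 + 2 * x ^ 23 + 2 * x ^ 24 - 1 * x ^ 27 - 1 * x ^ 28 - 1 * x ^ 29 + 1 * x ^ 31) - z, by rw [hR]; linear_combination (-1 : ℤ) * hz⟩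
  have hp : ∀ i, 0 ≤ x ^ i := fun i => pow_nonneg (by omega) i
  have hm : ∀ i, i ≤ 9 → x ^ i ≤ x ^ 9 := fun i hi => pow_le_pow_right₀ (by omega) hi
  have h10 : 3800 * x ^ 9 ≤ x ^ 10 := by rw [pow_succ' x 9]; exact mul_le_mul_of_nonneg_right hx (hp 9)
  have h11 : 3800 * x ^ 10 ≤ x ^ 11 := by rw [pow_succ' x 10]; exact mul_le_mul_of_nonneg_right hx (hp 10)
  have h9 : 1 ≤ x ^ 9 := one_le_pow₀ (by omega)
  have h1 : x ≤ x ^ 9 := le_self_pow₀ (by omega) (by norm_num)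
  have := hp 2; have := hp 3; have := hp 4; have := hp 5; have := hp 6; have := hp 7; have := hp 8; have := hp 11
  have := hm 2 (by norm_num); have := hm 3 (by norm_num); have := hm 4 (by norm_num); have := hm 5 (by norm_num)
  have := hm 6 (by norm_num); have := hm 7 (by norm_num); have := hm 8 (by norm_num)
  have := Int.le_of_dvd (by rw [hR]; linarith) hd
  rw [hR] at this
  linarith

theorem big4 (x : ℤ) (hx : 3800 ≤ x) : ¬ (x ^ 11 + x ^ 8 + x ^ 7 + x ^ 5 + x ^ 4 + x - 4) ∣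
    4 * ((x ^ 2 - 1) * (x ^ 5 - 1) * (x ^ 6 - 1) * (x ^ 8 - 1) * (x ^ 9 - 1) * (x ^ 12 - 1)) := by
  rintro ⟨z, hz⟩
  obtain ⟨R, hR⟩ : ∃ R : ℤ, R = -527 + 192 * x + 540 * x ^ 2 + 273 * x ^ 3 + 429 * x ^ 4 + 48 * x ^ 5 - 235 * x ^ 6 - 211 * x ^ 7 - 212 * x ^ 8 - 304 * x ^ 9 - 279 * x ^ 10 := ⟨_, rfl⟩
  have hd : (x ^ 11 + x ^ 8 + x ^ 7 + x ^ 5 + x ^ 4 + x - 4) ∣ 4 * (-R) :=
    ⟨4 * (-132 + 15 * x + 139 * x ^ 2 + 103 * x ^ 3 + 100 * x ^ 4 + 8 * x ^ 5 - 18 * x ^ 6 - 30 * x ^ 7 - 39 * x ^ 8 - 20 * x ^ 9 - 17 * x ^ 10 + 1 * x ^ 11 + 14 * x ^ 12 + 21 * x ^ 13 + 9 * x ^ 14 + 6 * x ^ 15 - 7 * x ^ 16 - 7 * x ^ 17 - 6 * x ^ 18 - 3 * x ^ 19 + 3 * x ^ 20 + 1 * x ^ 22 + 2 * x ^ 23 + 2 * x ^ 24 - 1 * x ^ 27 - 1 * x ^ 28 - 1 * x ^ 29 + 1 * x ^ 31) - z, by rw [hR]; linear_combination (-1 : ℤ) * hz⟩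
  have hp : ∀ i, 0 ≤ x ^ i := fun i => pow_nonneg (by omega) i
  have hm : ∀ i, i ≤ 9 → x ^ i ≤ x ^ 9 := fun i hi => pow_le_pow_right₀ (by omega) hi
  have h10 : 3800 * x ^ 9 ≤ x ^ 10 := by rw [pow_succ' x 9]; exact mul_le_mul_of_nonneg_right hx (hp 9)
  have h11 : 3800 * x ^ 10 ≤ x ^ 11 := by rw [pow_succ' x 10]; exact mul_le_mul_of_nonneg_right hx (hp 10)
  have h9 : 1 ≤ x ^ 9 := one_le_pow₀ (by omega)
  have h1 : x ≤ x ^ 9 := le_self_pow₀ (by omega) (by norm_num)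
  have := hp 2; have := hp 3; have := hp 4; have := hp 5; have := hp 6; have := hp 7; have := hp 8; have := hp 11
  have := hm 2 (by norm_num); have := hm 3 (by norm_num); have := hm 4 (by norm_num); have := hm 5 (by norm_num)
  have := hm 6 (by norm_num); have := hm 7 (by norm_num); have := hm 8 (by norm_num)
  have := Int.le_of_dvd (by rw [hR]; linarith) hd
  rw [hR] at this
  linarith

theorem big5 (x : ℤ) (hx : 3800 ≤ x) : ¬ (x ^ 11 + x ^ 8 + x ^ 7 + x ^ 5 + x ^ 4 + x - 5) ∣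
    5 * ((x ^ 2 - 1) * (x ^ 5 - 1) * (x ^ 6 - 1) * (x ^ 8 - 1) * (x ^ 9 - 1) * (x ^ 12 - 1)) := by
  rintro ⟨z, hz⟩
  obtain ⟨R, hR⟩ : ∃ R : ℤ, R = -874 + 420 * x + 1070 * x ^ 2 + 546 * x ^ 3 + 696 * x ^ 4 - 35 * x ^ 5 - 459 * x ^ 6 - 379 * x ^ 7 - 365 * x ^ 8 - 455 * x ^ 9 - 419 * x ^ 10 := ⟨_, rfl⟩
  have hd : (x ^ 11 + x ^ 8 + x ^ 7 + x ^ 5 + x ^ 4 + x - 5) ∣ 5 * (-R) :=
    ⟨5 * (-175 + 49 * x + 224 * x ^ 2 + 154 * x ^ 3 + 135 * x ^ 4 - 5 * x ^ 5 - 38 * x ^ 6 - 43 * x ^ 7 - 49 * x ^ 8 - 20 * x ^ 9 - 21 * x ^ 10 + 2 * x ^ 11 + 18 * x ^ 12 + 26 * x ^ 13 + 11 * x ^ 14 + 7 * x ^ 15 - 9 * x ^ 16 - 9 * x ^ 17 - 7 * x ^ 18 - 3 * x ^ 19 + 4 * x ^ 20 + 1 * x ^ 22 + 2 * x ^ 23 + 2 * x ^ 24 - 1 * x ^ 27 - 1 * x ^ 28 - 1 * x ^ 29 + 1 * x ^ 31) - z, by rw [hR]; linear_combination (-1 : ℤ) * hz⟩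
  have hp : ∀ i, 0 ≤ x ^ i := fun i => pow_nonneg (by omega) i
  have hm : ∀ i, i ≤ 9 → x ^ i ≤ x ^ 9 := fun i hi => pow_le_pow_right₀ (by omega) hi
  have h10 : 3800 * x ^ 9 ≤ x ^ 10 := by rw [pow_succ' x 9]; exact mul_le_mul_of_nonneg_right hx (hp 9)
  have h11 : 3800 * x ^ 10 ≤ x ^ 11 := by rw [pow_succ' x 10]; exact mul_le_mul_of_nonneg_right hx (hp 10)
  have h9 : 1 ≤ x ^ 9 := one_le_pow₀ (by omega)
  have h1 : x ≤ x ^ 9 := le_self_pow₀ (by omega) (by norm_num)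
  have := hp 2; have := hp 3; have := hp 4; have := hp 5; have := hp 6; have := hp 7; have := hp 8; have := hp 11
  have := hm 2 (by norm_num); have := hm 3 (by norm_num); have := hm 4 (by norm_num); have := hm 5 (by norm_num)
  have := hm 6 (by norm_num); have := hm 7 (by norm_num); have := hm 8 (by norm_num)
  have := Int.le_of_dvd (by rw [hR]; linarith) hd
  rw [hR] at this
  linarith

theorem big6 (x : ℤ) (hx : 3800 ≤ x) : ¬ (x ^ 11 + x ^ 8 + x ^ 7 + x ^ 5 + x ^ 4 + x - 6) ∣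
    6 * ((x ^ 2 - 1) * (x ^ 5 - 1) * (x ^ 6 - 1) * (x ^ 8 - 1) * (x ^ 9 - 1) * (x ^ 12 - 1)) := by
  rintro ⟨z, hz⟩
  obtain ⟨R, hR⟩ : ∃ R : ℤ, R = -1331 + 792 * x + 1878 * x ^ 2 + 961 * x ^ 3 + 1051 * x ^ 4 - 192 * x ^ 5 - 785 * x ^ 6 - 605 * x ^ 7 - 558 * x ^ 8 - 624 * x ^ 9 - 587 * x ^ 10 := ⟨_, rfl⟩
  have hd : (x ^ 11 + x ^ 8 + x ^ 7 + x ^ 5 + x ^ 4 + x - 6) ∣ 6 * (-R) :=
    ⟨6 * (-222 + 95 * x + 329 * x ^ 2 + 215 * x ^ 3 + 174 * x ^ 4 - 24 * x ^ 5 - 64 * x ^ 6 - 58 * x ^ 7 - 59 * x ^ 8 - 18 * x ^ 9 - 25 * x ^ 10 + 3 * x ^ 11 + 22 * x ^ 12 + 31 * x ^ 13 + 13 * x ^ 14 + 8 * x ^ 15 - 11 * x ^ 16 - 11 * x ^ 17 - 8 * x ^ 18 - 3 * x ^ 19 + 5 * x ^ 20 + 1 * x ^ 22 + 2 * x ^ 23 + 2 * x ^ 24 - 1 * x ^ 27 - 1 * x ^ 28 - 1 * x ^ 29 + 1 * x ^ 31) - z, by rw [hR]; linear_combination (-1 : ℤ) * hz⟩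
  have hp : ∀ i, 0 ≤ x ^ i := fun i => pow_nonneg (by omega) i
  have hm : ∀ i, i ≤ 9 → x ^ i ≤ x ^ 9 := fun i hi => pow_le_pow_right₀ (by omega) hi
  have h10 : 3800 * x ^ 9 ≤ x ^ 10 := by rw [pow_succ' x 9]; exact mul_le_mul_of_nonneg_right hx (hp 9)
  have h11 : 3800 * x ^ 10 ≤ x ^ 11 := by rw [pow_succ' x 10]; exact mul_le_mul_of_nonneg_right hx (hp 10)
  have h9 : 1 ≤ x ^ 9 := one_le_pow₀ (by omega)
  have h1 : x ≤ x ^ 9 := le_self_pow₀ (by omega) (by norm_num)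
  have := hp 2; have := hp 3; have := hp 4; have := hp 5; have := hp 6; have := hp 7; have := hp 8; have := hp 11
  have := hm 2 (by norm_num); have := hm 3 (by norm_num); have := hm 4 (by norm_num); have := hm 5 (by norm_num)
  have := hm 6 (by norm_num); have := hm 7 (by norm_num); have := hm 8 (by norm_num)
  have := Int.le_of_dvd (by rw [hR]; linarith) hd
  rw [hR] at this
  linarith

theorem ordE_not_dvd {q : ℕ} (hq : IsPrimePow q) {j : ℕ} (hj1 : 1 ≤ j) (hj6 : j ≤ 6)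
    (h2 : ¬ (q = 2 ∧ j = 2)) (h4 : ¬ (q = 4 ∧ j = 4)) :
    ¬ (q * (q ^ 6 + q ^ 3 + 1) * (q ^ 4 + 1) - j) ∣ ordE q := by
  intro hd
  have hq2 := hq.two_le
  rcases lt_or_ge q 3800 with hlt | hge
  · have h := (List.all_eq_true.1 (List.all_eq_true.1 small_all q (List.mem_range'_1.2 ⟨hq2, by omega⟩)) j
      (List.mem_range'_1.2 ⟨hj1, by omega⟩))
    simp only [Bool.or_eq_true, Bool.and_eq_true, Nat.beq_eq, Nat.blt_eq] at h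
    rw [Nat.mod_eq_zero_of_dvd hd] at h
    simp [h2, h4] at h
  · obtain ⟨T, hT⟩ : ∃ T, T = q * (q ^ 6 + q ^ 3 + 1) * (q ^ 4 + 1) := ⟨_, rfl⟩
    obtain ⟨P, hP⟩ : ∃ P, P = (q ^ 2 - 1) * (q ^ 5 - 1) * (q ^ 6 - 1) * (q ^ 8 - 1) * (q ^ 9 - 1) * (q ^ 12 - 1) :=
      ⟨_, rfl⟩
    rw [ordE, ← hP, ← hT] at hd
    have hqT : q ∣ T := hT ▸ (dvd_mul_right q _).trans (dvd_mul_right _ _)
    have hTge : q ≤ T := Nat.le_of_dvd (by rw [hT]; positivity) hqT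
    obtain ⟨p, f, hp, hf, rfl⟩ := hq
    obtain ⟨g, hg⟩ : ∃ g, g = Nat.gcd (T - j) ((p ^ f) ^ 36) := ⟨_, rfl⟩
    have hgp : g ∣ (p ^ f) ^ 36 := hg ▸ Nat.gcd_dvd_right _ _
    obtain ⟨a, -, ha⟩ := (Nat.dvd_prime_pow hp.nat_prime).1 (by rwa [← pow_mul] at hgp : g ∣ p ^ (f * 36))
    have hgk : g ∣ T - j := hg ▸ Nat.gcd_dvd_left _ _
    have haf : a < f := by
      by_contra hge'
      have : p ^ f ∣ T - j := (Nat.pow_dvd_pow p (by omega)).trans (ha ▸ hgk)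
      have h' : p ^ f ∣ T - (T - j) := Nat.dvd_sub hqT this
      rw [Nat.sub_sub_self (by omega)] at h'
      have := Nat.le_of_dvd (by omega) h'
      omega
    have hgj : g ∣ j := by
      have : g ∣ T := (ha ▸ Nat.pow_dvd_pow p haf.le).trans hqT
      have h' := Nat.dvd_sub this hgk
      rwa [Nat.sub_sub_self (by omega)] at h'
    have h1 : T - j ∣ g * P := hg ▸ Nat.dvd_gcd_mul_iff_dvd_mul.2 hd
    have h2 : T - j ∣ j * P := h1.trans (Nat.mul_dvd_mul_right hgj P)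
    have h3 := Int.natCast_dvd_natCast.2 h2
    have e : ∀ n, 1 ≤ (p ^ f) ^ n := fun n => Nat.one_le_pow _ _ (by omega)
    rw [Nat.cast_sub (by omega : j ≤ T), hT, hP] at h3
    push_cast [Nat.cast_sub (e 2), Nat.cast_sub (e 5), Nat.cast_sub (e 6), Nat.cast_sub (e 8), Nat.cast_sub (e 9),
      Nat.cast_sub (e 12)] at h3
    obtain ⟨x, hx⟩ : ∃ x : ℤ, x = (p : ℤ) ^ f := ⟨_, rfl⟩
    have hxge : 3800 ≤ x := by rw [hx]; exact_mod_cast hge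
    rw [← hx, show x * (x ^ 6 + x ^ 3 + 1) * (x ^ 4 + 1) = x ^ 11 + x ^ 8 + x ^ 7 + x ^ 5 + x ^ 4 + x by ring] at h3
    interval_cases j <;> push_cast at h3
    · exact big1 x hxge h3
    · exact big2 x hxge h3
    · exact big3 x hxge h3
    · exact big4 x hxge h3
    · exact big5 x hxge h3
    · exact big6 x hxge h3

end Cfsg.Lib.Chev.SimpDeg.E6
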