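import Cfsg.Agent.Lib.Chev.SimplyDegree.E6Data

/-!
# The lower bound for the degree of a representation of E6 from the nested radicals

Either the degree reaches the target, or it misses it by at most six and the trace of a long root
element is the degree less the eleventh power of the size of the field.
-/

set_option autoImplicit false
set_option maxRecDepth 100000

namespace Cfsg.Lib.Chev.SimpDeg.E6

open Cfsg.Lie Module

/-- The target. -/
def target (q : ℕ) : ℕ := q * (q ^ 6 + q ^ 3 + 1) * (q ^ 4 + 1)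

theorem target_le_pow {q : ℕ} (hq : 2 ≤ q) : target q ≤ q ^ 14 := by
  have h : ∀ m, m ≤ 11 → q ^ m ≤ q ^ 11 := fun m hm => Nat.pow_le_pow_right (by omega) hm
  have e : target q = q ^ 11 + q ^ 8 + q ^ 7 + q ^ 5 + q ^ 4 + q ^ 1 := by rw [target]; ring
  have h3 : 8 ≤ q ^ 3 := le_trans (by norm_num) (Nat.pow_le_pow_left hq 3)
  have h14 : q ^ 14 = q ^ 11 * q ^ 3 := by ring
  have := h 8 (by omega); have := h 7 (by omega); have := h 5 (by omega); have := h 4 (by omega)
  have := h 1 (by omega)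
  rw [e, h14]
  nlinarith

/-- The contributions of the levels. -/
theorem levels_sum {q : ℕ} (hq : 2 ≤ q) :
    (q - 1) * (∑ i, q ^ (lows1 i).length) + (q - 1) * (∑ i, q ^ (lows2 i).length) +
      (q - 1) * (∑ i, q ^ (lows3 i).length) + (q - 1) * (∑ i, q ^ (lows4 i).length) +
      (q - 1) * (∑ i, q ^ (lows5 i).length) + (q - 1) + 6 = target q := by
  obtain ⟨p, rfl⟩ : ∃ p, q = p + 1 := ⟨q - 1, by omega⟩
  simp [Fin.sum_univ_succ, lows1, lows2, lows3, lows4, lows5, target]
  ring

theorem twice_le {q : ℕ} (hq : 2 ≤ q) : target q ≤ 2 * ((q - 1) * ∑ i, q ^ (lows1 i).length) := by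
  obtain ⟨p, rfl⟩ : ∃ p, q = p + 2 := ⟨q - 2, by omega⟩
  simp [Fin.sum_univ_succ, lows1, target]
  ring_nf
  omega

section

variable {G F : Type*} [Group G] [Field F] [Fintype F] (Y : Sys G F tb)
variable {V : Type*} [AddCommGroup V] [Module ℂ V] [FiniteDimensional ℂ V] (ρ : G →* Module.End ℂ V)

theorem all_trivial (h : ∀ t, ρ (Y.x 71 t) = 1) : ∀ r < 72, ∀ t, ρ (Y.x r t) = 1 := by
  obtain ⟨-, hall, hstep⟩ := spread_ok
  suffices H : ∀ n ≤ spread.length, ∀ r ∈ 71 :: (spread.take n).map (fun p => p.2.2), ∀ t, ρ (Y.x r t) = 1 from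
    fun r hr => H spread.length le_rfl r (by rw [List.take_length]; exact hall r hr)
  intro n hn
  induction n with
  | zero => intro r hr; simp at hr; exact hr ▸ h
  | succ n ih =>
    intro r hr t
    rw [List.take_add_one, List.getElem?_eq_getElem hn, Option.toList_some, List.map_append, ← List.cons_append,
      List.mem_append] at hr
    rcases hr with hr | hr
    · exact ih (by omega) r hr t
    · rw [List.map_cons, List.map_nil, List.mem_singleton] at hr
      obtain ⟨⟨b, hb⟩, hmem⟩ := hstep ⟨n, hn⟩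
      simp only [List.get_eq_getElem] at hb hmem
      have e := congrArg ρ (Y.conj _ _ _ b hb (t / sg F b) 1)
      rw [map_mul, map_mul, map_mul, ih (by omega) _ hmem (t / sg F b), mul_one, one_mul, ← map_mul,
        mul_inv_cancel, map_one, mul_one, mul_div_cancel₀ _ (sg_ne_zero b)] at e
      rw [hr]
      exact e.symm

theorem fix_nil : Fix Y ρ (up 72) = ⊤ := by
  refine eq_top_iff.2 fun v _ r hr t => ?_
  simp [up] at hr

variable (θ : AddChar F ℂ)

theorem exists_char (hθ : θ ≠ 1) (hnt : ∃ r < 72, ∃ t, ρ (Y.x r t) ≠ 1) :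
    ∃ a : Fin 16 → F, a ≠ 0 ∧ 1 ≤ finrank ℂ (eig Y ρ (iv 56 16) θ (up 72) a) := by
  classical
  by_contra! hall
  obtain ⟨r, hr, t, ht⟩ := hnt
  refine ht (all_trivial Y ρ (fun u => ?_) r hr t)
  have hab : abelianOn (iv 56 16) tb (up 72) = true := by
    have := level1_ok
    simp only [levelOK, Bool.and_eq_true] at this
    exact this.1.1.1
  have e := sum_finrank_eig Y ρ (iv 56 16) θ (up 72) hθ hab
  rw [Finset.sum_eq_single (0 : Fin 16 → F) (fun a _ ha => by have := hall a ha; omega) (by simp),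
    eig_zero, fix_nil, finrank_top] at e
  refine LinearMap.ext fun v => ?_
  have hv : v ∈ Fix Y ρ (up 72 ++ List.ofFn (iv 56 16)) := by
    rw [Submodule.eq_top_of_finrank_eq e]; trivial
  exact hv 71 (List.mem_append_right _ (List.mem_ofFn.2 ⟨15, rfl⟩)) u

theorem level1_mult (hθ : θ ≠ 1) {d : ℕ} {bot : Fin 16}
    {edges : List (Fin 16 × Fin 16 × ℕ × ℕ)} (hedges : edges = edges1 ∧ bot = 0 ∨ edges = edgesTop ∧ bot = 15)
    {c : F} (hc : c ≠ 0) (hd : d ≤ finrank ℂ (eig Y ρ (iv 56 16) θ (up 72) (Pi.single bot c))) :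
    d * ((Fintype.card F - 1) * ∑ i, Fintype.card F ^ (lows1 i).length) +
      finrank ℂ (Fix Y ρ (up 56)) ≤ finrank ℂ V := by
  have e : Fix Y ρ (up 72 ++ List.ofFn (iv 56 16)) = Fix Y ρ (up 56) := by
    refine congrArg _ ?_
    decide +kernel
  rw [← e, ← finrank_top ℂ V, ← fix_nil Y ρ]
  rcases hedges with ⟨rfl, rfl⟩ | ⟨rfl, rfl⟩
  · exact level_le Y ρ (iv 56 16) θ (up 72) hθ level1_ok hc hd
  · exact level_le Y ρ (iv 56 16) θ (up 72) hθ level1_top_ok hc hd

theorem closed1 (d : ℕ) : Closed (src (iv 56 16) tb) (levi 56)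
    fun a : Fin 16 → F => d ≤ finrank ℂ (eig Y ρ (iv 56 16) θ (up 72) a) := by
  refine closed_finrank Y ρ (iv 56 16) θ (up 72) ?_ d
  have := level1_ok
  simp only [levelOK, Bool.and_eq_true] at this
  exact this.1.1.2

theorem big_le (hθ : θ ≠ 1) (hb : Big (fun a : Fin 16 → F => 1 ≤ finrank ℂ (eig Y ρ (iv 56 16) θ (up 72) a))
    (gen1.low.length + gen1.side.length)) : Fintype.card F ^ 14 ≤ finrank ℂ V := by
  classical
  obtain ⟨f, hf, hP⟩ := hb
  have hab : abelianOn (iv 56 16) tb (up 72) = true := by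
    have := level1_ok
    simp only [levelOK, Bool.and_eq_true] at this
    exact this.1.1.1
  have h := finset_le Y ρ (iv 56 16) θ (up 72) hθ hab (d := 1) (Finset.univ.image f) fun a ha => by
    obtain ⟨x, -, rfl⟩ := Finset.mem_image.1 ha
    exact ⟨(hP x).2, (hP x).1⟩
  rw [one_mul, Finset.card_image_of_injective _ hf, Finset.card_univ, Fintype.card_fun, Fintype.card_fin,
    fix_nil, finrank_top, show gen1.low.length + gen1.side.length = 14 from rfl] at h
  omega

variable (hθ : θ ≠ 1) (hnt : ∃ r < 72, ∃ t, ρ (Y.x r t) ≠ 1)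
  (hk : finrank ℂ V < target (Fintype.card F))
include hθ hnt hk

/-- Below the target every single coordinate has multiplicity one. -/
theorem single_eq_one (i : Fin 16) {c : F} (hc : c ≠ 0) :
    finrank ℂ (eig Y ρ (iv 56 16) θ (up 72) (Pi.single i c)) = 1 := by
  have hq : 2 ≤ Fintype.card F := Fintype.one_lt_card
  obtain ⟨a, ha, ha1⟩ := exists_char Y ρ θ hθ hnt
  rcases gen_dichotomy (src (iv 56 16) tb) (closed1 Y ρ θ 1) gen1 gen1_ok ha1 ha with ⟨c₀, hc₀, hP⟩ | hb
  swap
  · have := big_le Y ρ θ hθ hb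
    have := target_le_pow hq
    omega
  have hre : reachOK (src (iv 56 16) tb) (levi 56) edgesTop [15] = true := by
    have := level1_top_ok
    simp only [levelOK, Bool.and_eq_true] at this
    exact this.1.2
  have h1 := single_any (closed1 Y ρ θ 1) hre hc₀ hP i c hc
  refine le_antisymm ?_ h1
  by_contra h2
  push Not at h2
  have hre0 : reachOK (src (iv 56 16) tb) (levi 56) edgesTop [15] = true := hre
  have : 2 ≤ finrank ℂ (eig Y ρ (iv 56 16) θ (up 72) (Pi.single i c)) := h2
  -- carry the multiplicity to the top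
  rcases gen_dichotomy (src (iv 56 16) tb) (closed1 Y ρ θ 2) gen1 gen1_ok this
      (fun e => hc (by simpa using congrFun e i)) with ⟨c₁, hc₁, hP₁⟩ | hb
  · have := level1_mult Y ρ θ hθ (Or.inr ⟨rfl, rfl⟩) hc₁ hP₁
    have := twice_le hq
    omega
  · obtain ⟨f, hf, hf'⟩ := hb
    have := big_le Y ρ θ hθ ⟨f, hf, fun x => ⟨le_trans one_le_two (hf' x).1, (hf' x).2⟩⟩
    have := target_le_pow hq
    omega

/-- The bottom characters are fixed by all the other positive roots. -/
theorem bot_fixed {c : F} (hc : c ≠ 0) :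
    eig Y ρ (iv 56 16) θ (up 72) (Pi.single 0 c) ≤ eig Y ρ ![56] θ (posBut 56) ![c] := by
  intro v hv
  obtain ⟨hfst, hdec⟩ := dec_ok
  have hS : (levi 56).all (actsOn (iv 56 16) tb (up 72)) = true := by
    have := level1_ok
    simp only [levelOK, Bool.and_eq_true] at this
    exact this.1.1.2
  rw [List.all_eq_true] at hS
  have hone := single_eq_one Y ρ θ hθ hnt hk 0 hc
  -- an element fixing the character acts by a scalar
  have scalar : ∀ s ∈ levi 56, (∀ m, (src (iv 56 16) tb s m).map Prod.fst ≠ some 0) → ∀ u, v ≠ 0 →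
      ∃ l : ℂ, l ≠ 0 ∧ ρ (Y.x s u) v = l • v := by
    intro s hs hsrc u hv0
    have h := eig_map Y ρ (iv 56 16) θ (up 72) (hS s hs) u _ hv
    rw [show tau (src (iv 56 16) tb) s u (Pi.single 0 c) = (Pi.single 0 c : Fin 16 → F) from
      funext fun m => tau_zero_src _ fun j b hj => Pi.single_eq_of_ne (M := fun _ => F)
        (fun e => hsrc m (by rw [hj, ← e]; rfl)) c] at h
    obtain ⟨l, hl⟩ := (finrank_eq_one_iff_of_nonzero' (⟨v, hv⟩ : eig Y ρ (iv 56 16) θ (up 72) (Pi.single 0 c))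
      (fun e => hv0 (congrArg Subtype.val e))).1 hone ⟨_, h⟩
    refine ⟨l, fun hl0 => hv0 ?_, (congrArg Subtype.val hl).symm⟩
    have e := (congrArg Subtype.val hl).symm
    simp only [hl0, zero_smul, Submodule.coe_zero] at e
    have := congrArg (ρ (Y.x s (-u))) e
    rwa [← Module.End.mul_apply, ← map_mul, ← Y.add, neg_add_cancel, Y.zero, map_one, Module.End.one_apply,
      map_zero] at this
  have hfix : ∀ r ∈ List.range' 36 20, ∀ t, ρ (Y.x r t) v = v := by
    intro r hr t
    rcases eq_or_ne v 0 with rfl | hv0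
    · simp
    rw [← hfst] at hr
    obtain ⟨p, hp, rfl⟩ := List.mem_map.1 hr
    obtain ⟨ha, hb, ⟨e, he⟩, hsrc⟩ := hdec p hp
    obtain ⟨u, hu⟩ : ∃ u : F, sg F e * 1 * u = t := ⟨t / sg F e, by rw [mul_one, mul_div_cancel₀ _ (sg_ne_zero e)]⟩
    obtain ⟨la, hla0, hla⟩ := scalar p.2.1 ha (fun m => (hsrc m).2.1) u hv0
    obtain ⟨la', hla0', hla'⟩ := scalar p.2.1 ha (fun m => (hsrc m).2.1) (-u) hv0
    obtain ⟨lb, hlb0, hlb⟩ := scalar p.2.2 hb (fun m => (hsrc m).2.2) 1 hv0
    obtain ⟨ls, hls0, hls⟩ := scalar p.1 (by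
      have : p.1 ∈ List.range' 36 20 := hfst ▸ List.mem_map_of_mem hp
      rw [levi]
      simp only [List.mem_range'_1] at this ⊢
      omega) (fun m => (hsrc m).1) t hv0
    have hinv : la * la' = 1 := by
      have h1 : ρ (Y.x p.2.1 u * Y.x p.2.1 (-u)) v = (la * la') • v := by
        rw [map_mul, Module.End.mul_apply, hla', map_smul, hla, smul_smul, mul_comm]
      rw [← Y.add, add_neg_cancel, Y.zero, map_one, Module.End.one_apply] at h1
      exact (smul_left_injective ℂ hv0 (h1.symm.trans (one_smul ℂ v).symm))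
    have h2 := congrArg (fun g => ρ g v) (Y.conj p.2.1 p.2.2 p.1 e he 1 u)
    simp only [Y.inv, hu, map_mul, Module.End.mul_apply, hla', hlb, hls, map_smul, hla, smul_smul] at h2
    have h3 := smul_left_injective ℂ hv0 h2
    have : ls = 1 := by
      have h4 : lb * ls = lb * 1 := by linear_combination -h3 + lb * hinv
      exact mul_left_cancel₀ hlb0 h4
    rw [hls, this, one_smul]
  refine ⟨fun r hr t => ?_, fun i t => ?_⟩
  · simp only [posBut, List.mem_filter, List.mem_range'_1, bne_iff_ne] at hr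
    rcases lt_or_ge r 56 with h | h
    · exact hfix r (List.mem_range'_1.2 ⟨by omega, by omega⟩) t
    · obtain ⟨j, hj, rfl⟩ : ∃ j : Fin 16, j ≠ 0 ∧ r = iv 56 16 j :=
        ⟨⟨r - 56, by omega⟩, fun e => by
          have := congrArg Fin.val e
          simp at this
          omega, by simp [iv]; omega⟩
      rw [hv.2, Pi.single_eq_of_ne (M := fun _ => F) hj, zero_mul, AddChar.map_zero_eq_one, one_smul]
  · fin_cases i
    simpa [iv] using hv.2 0 t

/-- The vectors fixed by all positive roots but one outnumber the others by `q - 1`. -/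
theorem posBut_le : ∀ i ∈ ([56, 46, 42, 39, 37, 36] : List ℕ),
    Fintype.card F - 1 + finrank ℂ (Fix Y ρ (up 36)) ≤ finrank ℂ (Fix Y ρ (posBut i)) := by
  classical
  have h56 : Fintype.card F - 1 + finrank ℂ (Fix Y ρ (up 36)) ≤ finrank ℂ (Fix Y ρ (posBut 56)) := by
    have h := finset_le Y ρ ![56] θ (posBut 56) hθ (single_ok 56 (by simp)) (d := 1)
      ((Finset.univ.filter fun c : F => c ≠ 0).image fun c => ![c]) fun a ha => by
        obtain ⟨c, hc, rfl⟩ := Finset.mem_image.1 ha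
        have hc' := (Finset.mem_filter.1 hc).2
        refine ⟨fun e => hc' (congrFun e 0), ?_⟩
        rw [← single_eq_one Y ρ θ hθ hnt hk 0 hc']
        exact Submodule.finrank_mono (bot_fixed Y ρ θ hθ hnt hk hc')
    rw [one_mul, Finset.card_image_of_injective _ (fun c c' e => congrFun e 0), Finset.filter_ne' Finset.univ (0 : F),
      Finset.card_erase_of_mem (Finset.mem_univ _), Finset.card_univ,
      Fix_congr Y ρ (Q' := up 36) (by
        intro r
        simp [posBut, up, List.mem_range'_1]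
        omega)] at h
    exact h
  have step : ∀ a b c na nb, pairOK tb (rad a b c) a b c na nb = true →
      (∀ r, r ∈ rad a b c ++ [b, c] ↔ r ∈ posBut a) → (∀ r, r ∈ rad a b c ++ [a, c] ↔ r ∈ posBut b) →
      finrank ℂ (Fix Y ρ (posBut a)) = finrank ℂ (Fix Y ρ (posBut b)) := fun a b c na nb h ha hb => by
    rw [← Fix_congr Y ρ ha, ← Fix_congr Y ρ hb]
    exact finrank_pair Y ρ _ h
  obtain ⟨p1, p2, p3, p4, p5⟩ := pairs_ok
  have mem : ∀ (a b c : ℕ), (36 ≤ a ∧ a < 72 ∧ 36 ≤ b ∧ b < 72 ∧ 36 ≤ c ∧ c < 72 ∧ a ≠ b ∧ a ≠ c ∧ b ≠ c) →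
      (∀ r, r ∈ rad a b c ++ [b, c] ↔ r ∈ posBut a) ∧ (∀ r, r ∈ rad a b c ++ [a, c] ↔ r ∈ posBut b) :=
    fun a b c h => ⟨fun r => by simp [rad, posBut, List.mem_range'_1]; omega,
      fun r => by simp [rad, posBut, List.mem_range'_1]; omega⟩
  have e1 := step 56 42 57 15 29 p1 (mem 56 42 57 (by omega)).1 (mem 56 42 57 (by omega)).2
  have e2 := step 42 39 43 29 32 p2 (mem 42 39 43 (by omega)).1 (mem 42 39 43 (by omega)).2
  have e3 := step 39 37 40 32 34 p3 (mem 39 37 40 (by omega)).1 (mem 39 37 40 (by omega)).2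
  have e4 := step 39 46 47 32 25 p4 (mem 39 46 47 (by omega)).1 (mem 39 46 47 (by omega)).2
  have e5 := step 37 36 38 34 35 p5 (mem 37 36 38 (by omega)).1 (mem 37 36 38 (by omega)).2
  intro i hi
  simp only [List.mem_cons, List.not_mem_nil, or_false] at hi
  rcases hi with rfl | rfl | rfl | rfl | rfl | rfl <;> omega

/-- A level below the first. -/
theorem lower_level {st n b : ℕ} [NeZero n] (hb : st + n = b) {S : List ℕ} {e : Fin n × Fin n × ℕ × ℕ}
    {es : List (Fin n × Fin n × ℕ × ℕ)} {Ls : Fin n → List (ℕ × Fin n)}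
    (h : levelOK (iv st n) tb (up (st + n)) S (e :: es) Ls 0 = true)
    (hst : st ∈ ([56, 46, 42, 39, 37, 36] : List ℕ)) (hle : 36 ≤ st ∧ st + n ≤ 72) :
    (Fintype.card F - 1) * (∑ i, Fintype.card F ^ (Ls i).length) + finrank ℂ (Fix Y ρ (up st)) ≤
      finrank ℂ (Fix Y ρ (up b)) := by
  classical
  subst hb
  have hn : 0 < n := Nat.pos_of_ne_zero (NeZero.ne n)
  have hm := posBut_le Y ρ θ hθ hnt hk st hst
  have hab := single_ok st hst
  have hq : 2 ≤ Fintype.card F := Fintype.one_lt_card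
  obtain ⟨c, hc, hc1⟩ : ∃ c : F, c ≠ 0 ∧ 1 ≤ finrank ℂ (eig Y ρ ![st] θ (posBut st) ![c]) := by
    by_contra! hall
    have e' := sum_finrank_eig Y ρ ![st] θ (posBut st) hθ hab
    rw [Finset.sum_eq_single (0 : Fin 1 → F) (fun a _ ha => by
      have := hall (a 0) (fun e => ha (funext (Fin.forall_fin_one.2 e)))
      rw [show ![a 0] = a from funext (Fin.forall_fin_one.2 rfl)] at this
      omega) (by simp), eig_zero, Fix_congr Y ρ (Q' := up 36) (by
        intro r
        simp [posBut, up, List.mem_range'_1]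
        omega)] at e'
    omega
  have hle' : eig Y ρ ![st] θ (posBut st) ![c] ≤ eig Y ρ (iv st n) θ (up (st + n)) (Pi.single 0 c) := by
    intro v hv
    refine ⟨fun r hr t => hv.1 r ?_ t, fun i t => ?_⟩
    · simp [up, posBut, List.mem_range'_1] at hr ⊢
      omega
    · rcases eq_or_ne i 0 with rfl | hi
      · simpa [iv] using hv.2 0 t
      · have hiv : (i : ℕ) ≠ 0 := fun e => hi (Fin.ext (by simpa using e))
        have := i.2
        rw [Pi.single_eq_of_ne (M := fun _ => F) hi, zero_mul, AddChar.map_zero_eq_one, one_smul]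
        exact hv.1 _ (by simp [iv, posBut, List.mem_range'_1]; omega) t
  have h' := level_le Y ρ (iv st n) θ (up (st + n)) hθ h hc (d := 1) (hc1.trans (Submodule.finrank_mono hle'))
  rwa [one_mul, Fix_congr Y ρ (Q' := up st) (by
    intro r
    simp [up, iv, List.mem_range'_1, List.mem_ofFn]
    constructor
    · rintro (h | ⟨i, rfl⟩)
      · omega
      · have := i.2; omega
    · intro hr
      rcases lt_or_ge r (st + n) with h | h
      · exact Or.inr ⟨⟨r - st, by omega⟩, by simp; omega⟩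
      · exact Or.inl (by omega))] at h'

/-- The degree is within six of the target. -/
theorem near_target : target (Fintype.card F) ≤ finrank ℂ V + 6 := by
  have hq : 2 ≤ Fintype.card F := Fintype.one_lt_card
  have h1 := level1_mult Y ρ θ hθ (Or.inl ⟨rfl, rfl⟩) (one_ne_zero' F)
    (single_eq_one Y ρ θ hθ hnt hk 0 one_ne_zero).ge
  have h2 := lower_level Y ρ θ hθ hnt hk (st := 46) (n := 10) (b := 56) rfl level2_ok (by simp) (by omega)
  have h3 := lower_level Y ρ θ hθ hnt hk (st := 42) (n := 4) (b := 46) rfl level3_ok (by simp) (by omega)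
  have h4 := lower_level Y ρ θ hθ hnt hk (st := 39) (n := 3) (b := 42) rfl level4_ok (by simp) (by omega)
  have h5 := lower_level Y ρ θ hθ hnt hk (st := 37) (n := 2) (b := 39) rfl level5_ok (by simp) (by omega)
  have h6 : Fintype.card F - 1 ≤ finrank ℂ (Fix Y ρ (up 37)) := by
    have e : ∀ r, r ∈ posBut 36 ↔ r ∈ up 37 := fun r => by simp [posBut, up, List.mem_range'_1]; omega
    have := posBut_le Y ρ θ hθ hnt hk 36 (by simp)
    rw [Fix_congr Y ρ e] at this
    omega
  have := levels_sum hq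
  omega

/-- The trace of the highest root element. -/
theorem trace_top : LinearMap.trace ℂ V (ρ (Y.x 71 1)) = (finrank ℂ V : ℂ) - (Fintype.card F : ℂ) ^ 11 := by
  classical
  have hq : 2 ≤ Fintype.card F := Fintype.one_lt_card
  have hab : abelianOn (iv 56 16) tb (up 72) = true := by
    have := level1_ok
    simp only [levelOK, Bool.and_eq_true] at this
    exact this.1.1.1
  obtain ⟨d, hd⟩ : ∃ d : (Fin 16 → F) → ℕ, ∀ a, d a = finrank ℂ (eig Y ρ (iv 56 16) θ (up 72) a) := ⟨_, fun _ => rfl⟩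
  obtain ⟨g, hg⟩ : ∃ g : {c : F // c ≠ 0} × (Fin (lows1 15).length → F) → (Fin 16 → F),
      g = fun p => leadVec (src (iv 56 16) tb) lows1 ⟨15, p⟩ := ⟨_, rfl⟩
  have hL : ∀ i, leadOK (src (iv 56 16) tb) (above i) i (lows1 i) = true := fun i => by
    have := level1_ok
    simp only [levelOK, Bool.and_eq_true, decide_eq_true_eq] at this
    exact (this.2 i).1
  have hLS : ∀ i, ∀ p ∈ lows1 i, p.1 ∈ levi 56 := fun i => by
    have := level1_ok
    simp only [levelOK, Bool.and_eq_true, decide_eq_true_eq] at this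
    exact (this.2 i).2
  have hginj : Function.Injective g := fun p p' e => by
    rw [hg] at e
    exact eq_of_heq (Sigma.mk.inj_iff.1 (leadVec_injective (src (iv 56 16) tb) lows1 hL e)).2
  have hgtop : ∀ p, g p 15 = p.1.1 := fun p => by
    rw [hg]
    exact ((multi_lead _ _ (hL 15) _ (single_above 15 p.1.1) p.2).1).trans (Pi.single_eq_same (M := fun _ => F) 15 _)
  have hge : ∀ p, 1 ≤ d (g p) := fun p => by
    rw [hd, hg]
    exact multi_closed _ (closed1 Y ρ θ 1) _ (hLS 15) p.2 _ (single_eq_one Y ρ θ hθ hnt hk 15 p.1.2).ge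
  have honly : ∀ a, a 15 ≠ 0 → 1 ≤ d a → d a = 1 ∧ ∃ p, g p = a := by
    intro a ha hd1
    have htop : gen1.top = 15 := rfl
    rcases gen_top (src (iv 56 16) tb) (P := fun b => d a ≤ finrank ℂ (eig Y ρ (iv 56 16) θ (up 72) b))
        (closed1 Y ρ θ (d a)) gen1 gen1_ok (a := a) (hd a).le ha with ⟨hP, u, hu⟩ | ⟨f, hf, hf'⟩
    · refine ⟨le_antisymm (hP.trans_eq (single_eq_one Y ρ θ hθ hnt hk 15 ha)) hd1, (⟨a 15, ha⟩, u), ?_⟩
      rw [hg]
      exact hu.symm
    · exfalso
      have := big_le Y ρ θ hθ ⟨f, hf, fun x => ⟨le_trans hd1 (hf' x).1, (hf' x).2⟩⟩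
      have := target_le_pow hq
      omega
  have hsum : ∀ φ : (Fin 16 → F) → ℂ,
      ∑ a with a 15 ≠ 0, φ a * (d a : ℂ) = ∑ p, φ (g p) := by
    intro φ
    rw [← Finset.sum_image (f := φ) (s := Finset.univ) (g := g) (fun p _ p' _ e => hginj e)]
    symm
    refine Finset.sum_congr_of_eq_on_inter ?_ ?_ ?_
    · intro a ha hn
      obtain ⟨p, -, rfl⟩ := Finset.mem_image.1 ha
      exact absurd (Finset.mem_filter.2 ⟨Finset.mem_univ _, (hgtop p).symm ▸ p.1.2⟩) hn
    · intro a ha hn
      rcases Nat.eq_zero_or_pos (d a) with h0 | h0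
      · rw [h0, Nat.cast_zero, mul_zero]
      · obtain ⟨-, p, rfl⟩ := honly a (Finset.mem_filter.1 ha).2 h0
        exact absurd (Finset.mem_image_of_mem _ (Finset.mem_univ _)) hn
    · intro a ha ha'
      obtain ⟨p, -, rfl⟩ := Finset.mem_image.1 ha
      rw [(honly _ (Finset.mem_filter.1 ha').2 (hge p)).1, Nat.cast_one, mul_one]
  have htop : (Y.x 71 1) = Y.x (iv 56 16 15) 1 := rfl
  have hall : ∀ v ∈ (⊤ : Submodule ℂ V), ρ (Y.x 71 1) v ∈ (⊤ : Submodule ℂ V) := fun _ _ => trivial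
  have hfix := fix_nil Y ρ
  have e1 : LinearMap.trace ℂ V (ρ (Y.x 71 1)) = ∑ a, θ (a 15 * 1) * (d a : ℂ) := by
    simp only [hd]
    rw [← trace_opHom Y ρ (iv 56 16) θ (up 72) hθ hab 15 1, htop]
    exact (LinearMap.trace_restrict_eq_of_forall_mem (Fix Y ρ (up 72)) _ (fun v => hfix.symm ▸ trivial)).symm
  have e2 : (finrank ℂ V : ℂ) = ∑ a, (d a : ℂ) := by
    simp only [hd]
    rw [← Nat.cast_sum, sum_finrank_eig Y ρ (iv 56 16) θ (up 72) hθ hab, hfix, finrank_top]
  have hsplit : ∀ φ : (Fin 16 → F) → ℂ, ∑ a, φ a = (∑ a with a 15 ≠ 0, φ a) + ∑ a with ¬(a 15 ≠ 0), φ a :=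
    fun φ => (Finset.sum_filter_add_sum_filter_not _ _ _).symm
  rw [e1, e2, hsplit, hsplit fun a => (d a : ℂ)]
  have hz : ∑ a with ¬(a 15 ≠ 0), θ (a 15 * 1) * (d a : ℂ) = ∑ a with ¬(a 15 ≠ 0), (d a : ℂ) :=
    Finset.sum_congr rfl fun a ha => by
      rw [not_not.1 (Finset.mem_filter.1 ha).2, zero_mul, AddChar.map_zero_eq_one, one_mul]
  have hone : ∑ a with a 15 ≠ 0, (d a : ℂ) = ∑ p : {c : F // c ≠ 0} × (Fin (lows1 15).length → F), (1 : ℂ) := by
    simpa using hsum fun _ => 1
  rw [hz, hsum fun a => θ (a 15 * 1), hone]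
  simp only [hgtop, mul_one, Fintype.sum_prod_type, Finset.sum_const, Finset.card_univ, Fintype.card_fun,
    Fintype.card_fin, show (lows1 15).length = 10 from rfl, nsmul_eq_mul, Nat.cast_pow]
  rw [← Finset.mul_sum]
  have hθ0 : ∑ c : {c : F // c ≠ 0}, θ c.1 = -1 := by
    have h0 := AddChar.sum_eq_zero_of_ne_one (ψ := θ) hθ
    rw [← Finset.sum_erase_add _ _ (Finset.mem_univ (0 : F)), AddChar.map_zero_eq_one] at h0
    rw [show ∑ c : {c : F // c ≠ 0}, θ c.1 = ∑ c ∈ Finset.univ.erase (0 : F), θ c from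
      (Finset.sum_subtype _ (fun c => by simp) _).symm]
    linear_combination h0
  rw [hθ0, Fintype.card_prod, Fintype.card_subtype_compl, Fintype.card_subtype_eq, Fintype.card_fun,
    Fintype.card_fin, Nat.cast_mul, Nat.cast_sub Fintype.card_pos, Nat.cast_pow, Nat.cast_one]
  ring

end

end Cfsg.Lib.Chev.SimpDeg.E6
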