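import Cfsg.Agent.Lib.Chev.SimplyDegree.Sys
import Cfsg.Agent.Lib.Chev.TwSimply

/-!
# The root elements of a Chevalley group as root elements obeying a table
-/

set_option autoImplicit false

namespace Cfsg.Lib.Chev.SimpDeg

open Cfsg.Lie

/-- The simply laced table read off the packed table. -/
def trOf (T : Tbl) (s r : ℕ) : Tr :=
  if r < T.nroots ∧ s < T.nroots ∧ s ≠ r ∧ s ≠ T.neg r then
    match tTerms T r s with
    | [] => .comm
    | [(k, c, 1, 1)] =>
      if k < T.nroots ∧ k ≠ s ∧ k ≠ T.neg s ∧ tTerms T s k = [] then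
        (if c = 1 then .to k false else if c = -1 then .to k true else .bad)
      else .bad
    | _ => .bad
  else .bad

variable {F : Type*} [Field F] {D : ChevalleyDatum} {T : Tbl}

theorem conj_one (C : Cert D T) (K : CommCert D T) {r s k : ℕ} {c : ℤ} (hr : r < D.nroots) (hs : s < D.nroots)
    (h1 : s ≠ r) (h2 : s ≠ T.neg r) (he : tTerms T r s = [(k, c, 1, 1)]) (hk : k < D.nroots) (h3 : k ≠ s)
    (h4 : k ≠ T.neg s) (he' : tTerms T s k = []) (t u : F) :
    xg C s u * xg C r t * (xg C s u)⁻¹ = xg C r t * xg C k (-((c : F) * t * u)) := by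
  have h := comm_formula K (F := F) hr hs h1 h2 t u
  rw [ChevalleyDatum.commWord, commTerms_eq C hr hs, he] at h
  have e : xg C s u * xg C r t = xg C r t * xg C s u * xg C k (-((c : F) * t * u)) := by
    refine Units.ext ?_
    simp only [Units.val_mul, coe_xg]
    rw [h]
    simp [ChevalleyDatum.wordMat]
  rw [e, mul_inv_eq_iff_eq_mul, mul_assoc, (xg_commute C K hs hk h3 h4 he' u _).eq]
  group

/-- The root elements of the group. -/
noncomputable def sysOf (C : Cert D T) (K : CommCert D T) : Sys ↥(D.group F) F (trOf T) where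
  x r t := ⟨xg C r t, xg_mem_group C r t⟩
  add r s t := Subtype.ext (xg_add C r s t).symm
  comm s r h t u := by
    refine Subtype.ext ?_
    show xg C s u * xg C r t * (xg C s u)⁻¹ = xg C r t
    unfold trOf at h
    split_ifs at h with hb
    · simp only [C.spec.shape.nroots_eq] at hb
      split at h
      · rename_i he
        rw [← (xg_commute C K hb.1 hb.2.1 hb.2.2.1 hb.2.2.2 he t u).eq, mul_inv_cancel_right]
      · split_ifs at h
      · cases h
  conj s r k b h t u := by
    refine Subtype.ext ?_
    show xg C s u * xg C r t * (xg C s u)⁻¹ = xg C r t * xg C k (sg F b * t * u)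
    unfold trOf at h
    split_ifs at h with hb
    · simp only [C.spec.shape.nroots_eq] at hb h
      split at h
      · cases h
      · rename_i k' c he
        split_ifs at h with hk hc hc'
        · cases h
          rw [conj_one C K hb.1 hb.2.1 hb.2.2.1 hb.2.2.2 he hk.1 hk.2.1 hk.2.2.1 hk.2.2.2, hc]
          congr 2
          simp [sg]
        · cases h
          rw [conj_one C K hb.1 hb.2.1 hb.2.2.1 hb.2.2.2 he hk.1 hk.2.1 hk.2.2.1 hk.2.2.2, hc']
          congr 2
          simp [sg]
      · cases h

theorem sysOf_x (C : Cert D T) (K : CommCert D T) (r : ℕ) (t : F) :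
    ((sysOf C K).x r t : GL D.Idx F) = xg C r t := rfl

end Cfsg.Lib.Chev.SimpDeg
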