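import Cfsg.Agent.Lib.Chev.SimplyDegree.Pair
import Cfsg.Agent.Lib.Chev.SimplyDegree.Table
import Cfsg.Agent.Lib.Chev.TblE6

/-!
# The nested radicals of the type E6

The positive roots of E6, listed lexicographically, fall into six intervals, each of them the
abelian radical of a parabolic of the Levi part spanned by the ones below it.
-/

set_option autoImplicit false
set_option maxRecDepth 100000

namespace Cfsg.Lib.Chev.SimpDeg.E6

open Cfsg.Lie

/-- The table. -/
def tb : ℕ → ℕ → Tr := trOf tblE6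

/-- The roots of a level. -/
def iv (st n : ℕ) : Fin n → ℕ := fun i => st + i

/-- The roots above a level. -/
def up (b : ℕ) : List ℕ := List.range' b (72 - b)

/-- The roots of the Levi part below a level. -/
def levi (b : ℕ) : List ℕ := List.range' (72 - b) (2 * b - 72)

/-- The positive roots other than one. -/
def posBut (i : ℕ) : List ℕ := (List.range' 36 36).filter (· != i)

/-- The positive roots other than the three of a pair. -/
def rad (a b c : ℕ) : List ℕ := (List.range' 36 36).filter fun r => r != a && r != b && r != c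

/-- Edges of level 1. -/
def edges1 : List (Fin 16 × Fin 16 × ℕ × ℕ) := [(0, 1, 29, 42), (0, 2, 28, 43), (0, 3, 27, 44), (0, 4, 26, 45), (0, 5, 21, 50), (0, 6, 20, 51), (0, 7, 19, 52), (0, 8, 18, 53), (0, 9, 17, 54), (0, 10, 16, 55), (1, 11, 18, 53), (1, 12, 17, 54), (1, 13, 16, 55), (2, 14, 16, 55), (5, 15, 16, 55)]

/-- Edges of level 1 from the top. -/
def edgesTop : List (Fin 16 × Fin 16 × ℕ × ℕ) := [(15, 5, 55, 16), (15, 6, 54, 17), (15, 7, 53, 18), (15, 8, 52, 19), (15, 9, 51, 20), (15, 10, 50, 21), (15, 11, 49, 22), (15, 12, 48, 23), (15, 13, 47, 24), (15, 14, 46, 25), (5, 0, 50, 21), (5, 1, 47, 24), (5, 2, 46, 25), (6, 3, 46, 25), (7, 4, 46, 25)]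

/-- The elements lowering each coordinate of level 1. -/
def lows1 : Fin 16 → List (ℕ × Fin 16) :=
  ![[], [(42, 0)], [(43, 0), (39, 1)], [(44, 0), (40, 1), (37, 2)], [(45, 0), (41, 1), (38, 2), (36, 3)], [(50, 0), (47, 1), (46, 2)], [(51, 0), (48, 1), (46, 3), (37, 5)], [(52, 0), (49, 1), (46, 4), (38, 5), (36, 6)], [(53, 0), (48, 2), (47, 3), (40, 5), (39, 6)], [(54, 0), (49, 2), (47, 4), (41, 5), (39, 7), (36, 8)], [(55, 0), (49, 3), (48, 4), (41, 6), (40, 7), (38, 8), (37, 9)], [(53, 1), (51, 2), (50, 3), (44, 5), (43, 6), (42, 8)], [(54, 1), (52, 2), (50, 4), (45, 5), (43, 7), (42, 9), (36, 11)], [(55, 1), (52, 3), (51, 4), (45, 6), (44, 7), (42, 10), (38, 11), (37, 12)], [(55, 2), (54, 3), (53, 4), (45, 8), (44, 9), (43, 10), (41, 11), (40, 12), (39, 13)], [(55, 5), (54, 6), (53, 7), (52, 8), (51, 9), (50, 10), (49, 11), (48, 12), (47, 13), (46, 14)]]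

/-- Edges of level 2. -/
def edges2 : List (Fin 10 × Fin 10 × ℕ × ℕ) := [(0, 1, 32, 39), (0, 2, 31, 40), (0, 3, 30, 41), (0, 4, 28, 43), (0, 5, 27, 44), (0, 6, 26, 45), (1, 7, 27, 44), (1, 8, 26, 45), (2, 9, 26, 45)]

/-- The elements lowering each coordinate of level 2. -/
def lows2 : Fin 10 → List (ℕ × Fin 10) :=
  ![[], [(39, 0)], [(40, 0), (37, 1)], [(41, 0), (38, 1), (36, 2)], [(43, 0), (42, 1)], [(44, 0), (42, 2), (37, 4)], [(45, 0), (42, 3), (38, 4), (36, 5)], [(44, 1), (43, 2), (40, 4), (39, 5)], [(45, 1), (43, 3), (41, 4), (39, 6), (36, 7)], [(45, 2), (44, 3), (41, 5), (40, 6), (38, 7), (37, 8)]]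

/-- Edges of level 3. -/
def edges3 : List (Fin 4 × Fin 4 × ℕ × ℕ) := [(0, 1, 32, 39), (0, 2, 31, 40), (0, 3, 30, 41)]

/-- The elements lowering each coordinate of level 3. -/
def lows3 : Fin 4 → List (ℕ × Fin 4) :=
  ![[], [(39, 0)], [(40, 0), (37, 1)], [(41, 0), (38, 1), (36, 2)]]

/-- Edges of level 4. -/
def edges4 : List (Fin 3 × Fin 3 × ℕ × ℕ) := [(0, 1, 34, 37), (0, 2, 33, 38)]

/-- The elements lowering each coordinate of level 4. -/
def lows4 : Fin 3 → List (ℕ × Fin 3) :=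
  ![[], [(37, 0)], [(38, 0), (36, 1)]]

/-- Edges of level 5. -/
def edges5 : List (Fin 2 × Fin 2 × ℕ × ℕ) := [(0, 1, 35, 36)]

/-- The elements lowering each coordinate of level 5. -/
def lows5 : Fin 2 → List (ℕ × Fin 2) :=
  ![[], [(36, 0)]]

/-- The data for the large orbits. -/
def gen1 : Gen 16 := ⟨15, lows1 15, 4, [(45, 0), (41, 1), (38, 2), (36, 3)], [26, 27, 28, 29, 30, 31, 32, 33, 34, 35, 36, 37, 38, 39, 40, 41, 42, 43, 44, 45]⟩

/-- Each positive root of the Levi part as a sum of two roots fixing the bottom character. -/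
def decs : List (ℕ × ℕ × ℕ) := [(36, 23, 49), (37, 24, 48), (38, 24, 49), (39, 25, 47), (40, 25, 48), (41, 25, 49), (42, 22, 52), (43, 22, 54), (44, 22, 55), (45, 23, 55), (46, 30, 49), (47, 33, 49), (48, 35, 49), (49, 36, 48), (50, 30, 54), (51, 30, 55), (52, 31, 55), (53, 33, 55), (54, 34, 55), (55, 37, 54)]

/-- Steps reaching every root from the highest one. -/
def spread : List (ℕ × ℕ × ℕ) := [(1, 71, 46), (2, 71, 47), (3, 71, 48), (4, 71, 49), (5, 71, 50), (6, 71, 51), (7, 71, 52), (8, 71, 53), (9, 71, 54), (10, 71, 55), (16, 71, 61), (17, 71, 62), (18, 71, 63), (19, 71, 64), (20, 71, 65), (21, 71, 66), (22, 71, 67), (23, 71, 68), (24, 71, 69), (25, 71, 70), (0, 46, 1), (8, 46, 11), (9, 46, 12), (10, 46, 13), (19, 46, 26), (20, 46, 27), (21, 46, 28), (22, 46, 30), (23, 46, 31), (24, 46, 32), (0, 47, 2), (10, 47, 14), (21, 47, 29), (22, 47, 33), (23, 47, 34), (25, 47, 39), (0, 48, 3), (22, 48, 35), (24, 48, 37), (25, 48, 40), (0, 49, 4), (23, 49,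 36), (24, 49, 38), (25, 49, 41), (0, 50, 5), (10, 50, 15), (24, 50, 42), (25, 50, 43), (0, 51, 6), (25, 51, 44), (0, 52, 7), (25, 52, 45), (0, 53, 8), (0, 54, 9), (0, 55, 10), (0, 61, 16), (21, 61, 56), (24, 61, 57), (25, 61, 58), (0, 62, 17), (25, 62, 59), (0, 63, 18), (25, 63, 60), (0, 64, 19), (0, 65, 20), (0, 66, 21), (0, 67, 22), (0, 68, 23), (0, 69, 24), (0, 70, 25), (25, 1, 0)]

theorem level1_ok : levelOK (iv 56 16) tb (up 72) (levi 56) edges1 lows1 0 = true := by decide +kernel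

theorem level1_top_ok : levelOK (iv 56 16) tb (up 72) (levi 56) edgesTop lows1 15 = true := by decide +kernel

theorem level2_ok : levelOK (iv 46 10) tb (up 56) (levi 46) edges2 lows2 0 = true := by decide +kernel

theorem level3_ok : levelOK (iv 42 4) tb (up 46) (levi 42) edges3 lows3 0 = true := by decide +kernel

theorem level4_ok : levelOK (iv 39 3) tb (up 42) (levi 39) edges4 lows4 0 = true := by decide +kernel

theorem level5_ok : levelOK (iv 37 2) tb (up 39) (levi 37) edges5 lows5 0 = true := by decide +kernel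

theorem gen1_ok : gen1.ok (src (iv 56 16) tb) (levi 56) = true := by decide +kernel

theorem single_ok : ∀ i ∈ ([56, 46, 42, 39, 37, 36] : List ℕ), abelianOn ![i] tb (posBut i) = true := by
  decide +kernel

theorem pairs_ok : pairOK tb (rad 56 42 57) 56 42 57 15 29 = true ∧ pairOK tb (rad 42 39 43) 42 39 43 29 32 = true ∧
    pairOK tb (rad 39 37 40) 39 37 40 32 34 = true ∧ pairOK tb (rad 39 46 47) 39 46 47 32 25 = true ∧
    pairOK tb (rad 37 36 38) 37 36 38 34 35 = true := by decide +kernel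

theorem dec_ok : decs.map Prod.fst = List.range' 36 20 ∧ ∀ p ∈ decs, p.2.1 ∈ levi 56 ∧ p.2.2 ∈ levi 56 ∧
    (∃ b : Bool, tb p.2.1 p.2.2 = .to p.1 b) ∧ ∀ m, (src (iv 56 16) tb p.1 m).map Prod.fst ≠ some 0 ∧
      (src (iv 56 16) tb p.2.1 m).map Prod.fst ≠ some 0 ∧ (src (iv 56 16) tb p.2.2 m).map Prod.fst ≠ some 0 := by
  decide +kernel

theorem spread_ok : (71 :: spread.map fun p => p.2.2).length = 72 ∧
    (∀ r < 72, r ∈ 71 :: spread.map fun p => p.2.2) ∧
    ∀ i : Fin spread.length, (∃ b : Bool, tb (spread.get i).1 (spread.get i).2.1 = .to (spread.get i).2.2 b) ∧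
      (spread.get i).2.1 ∈ 71 :: (spread.take i).map fun p => p.2.2 := by
  decide +kernel

end Cfsg.Lib.Chev.SimpDeg.E6
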