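import Cfsg.Agent.Lib.Chev.SimplyDegree.E6Bound
import Cfsg.Agent.Lib.Chev.SimplyDegree.E6Arith
import Cfsg.Agent.Lib.Chev.SimplyDegree.ConjOrbit
import Cfsg.Agent.Lib.Chev.FullAll
import Cfsg.Agent.Lib.Chev.OrderE6
import Cfsg.Agent.Lib.Char.Central

/-!
# The smallest degree of a representation of E6
-/

set_option autoImplicit false
set_option maxRecDepth 100000

namespace Cfsg.Lib.Chev.SimpDeg.E6

open Cfsg.Lie Module

/-- The elements lowering the fifth coordinate, for conjugation. -/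
def sideConj : List (ℕ × Fin 5) := [(26, 0), (30, 1), (33, 2), (35, 3)]

theorem five_ok : groupOK (iv 56 5) tb gen1.five = true ∧
    transOK (iv 56 5) tb gen1.five 4 sideConj (4, 0, 26, 45) [(4, 1, 30, 41), (4, 2, 33, 38), (4, 3, 35, 36)] = true ∧
    ∀ s ∈ gen1.five, tb s 71 = .comm := by decide +kernel

variable {F : Type*} [Field F] [Fintype F]

theorem card_dvd_ordE : Nat.card ↥(chevE6.group F) ∣ ordE (Fintype.card F) := by
  have h := order_formula (F := F) certE6 fullCertE6 chkWeylE6 torusCertE6 (polyE6 Nat.card_pos)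
  refine ⟨∏ k, (Nat.card F - 1).gcd ((![1, 1, 1, 1, 1, 3] : Fin 6 → ℕ) k), ?_⟩
  rw [mul_comm]
  refine Eq.trans ?_ h.symm
  rw [ordE, show chevE6.nroots / 2 = 36 from rfl, Nat.card_eq_fintype_card]

theorem nontrivial_root {k : ℕ} (ρ : Representation ℂ ↥(chevE6.group F) (Fin k → ℂ)) (hρ : ρ.IsIrreducible)
    (hk : 2 ≤ k) : ∃ r < 72, ∃ t, ρ ((sysOf certE6 fullCertE6.comm).x r t) ≠ 1 := by
  by_contra! hall
  have htriv : ∀ g, ρ g = 1 := by
    rintro ⟨g, hg⟩
    induction hg using Subgroup.closure_induction with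
    | mem g hg =>
      obtain ⟨r, t, e⟩ := hg
      have hgr : g = xg certE6 r.1 t := Units.ext (by rw [e, coe_xg, ChevalleyDatum.x, dif_pos r.2])
      subst hgr
      exact hall r.1 r.2 t
    | one => exact map_one ρ
    | mul a b ha hb iha ihb => exact (map_mul ρ ⟨a, ha⟩ ⟨b, hb⟩).trans (by rw [iha, ihb, mul_one])
    | inv a ha ih =>
      have h := (map_mul ρ ⟨a, ha⟩⁻¹ ⟨a, ha⟩).symm
      rw [inv_mul_cancel, map_one, ih, mul_one] at h
      exact h
  haveI := hρ
  obtain ⟨v, hv⟩ : ∃ v : Fin k → ℂ, v ≠ 0 := by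
    haveI : Nonempty (Fin k) := ⟨⟨0, by omega⟩⟩
    exact exists_ne 0
  let W : Subrepresentation ρ := ⟨ℂ ∙ v, fun g w hw => by rw [htriv]; exact hw⟩
  rcases IsSimpleOrder.eq_bot_or_eq_top W with h0 | h0
  · exact hv (Submodule.span_singleton_eq_bot.mp (congrArg Subrepresentation.toSubmodule h0))
  · have h1 : (ℂ ∙ v) = ⊤ := congrArg Subrepresentation.toSubmodule h0
    have h2 := finrank_span_singleton (K := ℂ) hv
    rw [h1, finrank_top, Module.finrank_fin_fun] at h2
    omega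

/-- The smallest degree. -/
theorem degree_le (k : ℕ) (ρ : Representation ℂ ↥(chevE6.group F) (Fin k → ℂ)) (hρ : ρ.IsIrreducible)
    (hk : 2 ≤ k) : target (Fintype.card F) ≤ k := by
  classical
  by_contra! hlt
  obtain ⟨Y, hY⟩ : ∃ Y : Sys ↥(chevE6.group F) F tb, Y = sysOf (F := F) certE6 fullCertE6.comm := ⟨_, rfl⟩
  obtain ⟨θ, hθ⟩ := Fintype.exists_ne_of_one_lt_card
    (show 1 < Fintype.card (AddChar F ℂ) by rw [AddChar.card_eq]; exact Fintype.one_lt_card) (1 : AddChar F ℂ)
  have hnt := nontrivial_root ρ hρ hk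
  rw [← hY] at hnt
  obtain ⟨σ, hσ⟩ : ∃ σ : ↥(chevE6.group F) →* Module.End ℂ (Fin k → ℂ), ∀ g, σ g = ρ g := ⟨ρ, fun _ => rfl⟩
  have hnt' : ∃ r < 72, ∃ t, σ (Y.x r t) ≠ 1 := by simpa only [hσ] using hnt
  have hV : finrank ℂ (Fin k → ℂ) = k := Module.finrank_fin_fun ℂ
  have hk' : finrank ℂ (Fin k → ℂ) < target (Fintype.card F) := by rw [hV]; exact hlt
  have hnear := near_target Y σ θ hθ hnt' hk'
  have htr := trace_top Y σ θ hθ hnt' hk'
  rw [hV] at hnear htr
  haveI := hρ
  letI : Fintype ↥(chevE6.group F) := Fintype.ofFinite _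
  have hχ := Cfsg.Lib.Char.isIrrCharacter_character ρ
  have hd : k ∣ Nat.card ↥(chevE6.group F) :=
    Cfsg.Lib.Char.degree_dvd_card hχ (by rw [Representation.char_one, Module.finrank_fin_fun])
  obtain ⟨j, hj⟩ : ∃ j, j = target (Fintype.card F) - k := ⟨_, rfl⟩
  have hdiv : Fintype.card F * (Fintype.card F ^ 6 + Fintype.card F ^ 3 + 1) * (Fintype.card F ^ 4 + 1) - j ∣
      ordE (Fintype.card F) := by
    have e : target (Fintype.card F) - j = k := by omega
    rw [target] at e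
    rw [e]
    exact hd.trans card_dvd_ordE
  -- the two exceptions
  obtain ⟨g, hg⟩ : ∃ g, g = Y.x 71 1 := ⟨_, rfl⟩
  have hcent : Fintype.card F ^ 5 - 1 ∣ Nat.card (Subgroup.centralizer ({g} : Set ↥(chevE6.group F))) := by
    obtain ⟨hG, hT, hcomm⟩ := five_ok
    rw [← Nat.card_eq_fintype_card]
    refine dvd_card Y (iv 56 5) hG hT (fun t ht h1 => ?_) _ fun s hs u => ?_
    · obtain ⟨c, hc⟩ : ∃ c, θ c ≠ 1 := by
        by_contra! h
        exact hθ (DFunLike.ext _ _ fun c => by rw [h c, AddChar.one_apply])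
      have hc0 : c / t ≠ 0 := fun e => hc (by
        rw [div_eq_zero_iff, or_iff_left ht] at e
        rw [e, AddChar.map_zero_eq_one])
      have hone := single_eq_one Y σ θ hθ hnt' hk' 4 hc0
      obtain ⟨v, hv, hv0⟩ := Submodule.exists_mem_ne_zero_of_ne_bot
        (p := eig Y σ (iv 56 16) θ (up 72) (Pi.single 4 (c / t))) (fun e => by rw [Submodule.finrank_eq_zero.2 e] at hone; omega)
      have h2 := hv.2 4 t
      rw [Pi.single_eq_same, div_mul_cancel₀ _ ht,
        show Y.x (iv 56 16 4) t = Y.x (iv 56 5 4) t from rfl, h1, map_one, Module.End.one_apply] at h2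
      exact hc (smul_left_injective ℂ hv0 ((h2.symm).trans (one_smul ℂ v).symm))
    · rw [Subgroup.mem_centralizer_singleton_iff, hg]
      exact (Y.swap_comm (hcomm s hs) 1 u).symm
  have hint := hχ.isIntegral_class g
  obtain ⟨m, hm⟩ : ∃ m, m = k - Fintype.card F ^ 11 := ⟨_, rfl⟩
  have hge : Fintype.card F ^ 11 + 6 ≤ target (Fintype.card F) := by
    have e : target (Fintype.card F) = Fintype.card F ^ 11 + Fintype.card F ^ 8 + Fintype.card F ^ 7 +
      Fintype.card F ^ 5 + Fintype.card F ^ 4 + Fintype.card F := by rw [target]; ring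
    have := Nat.pow_le_pow_left (Fintype.one_lt_card : 1 < Fintype.card F) 8
    have : 2 ^ 8 ≤ Fintype.card F ^ 8 := Nat.pow_le_pow_left Fintype.one_lt_card 8
    omega
  have hchar : ρ.character g = ((m : ℕ) : ℂ) := by
    rw [hm, Nat.cast_sub (by omega), Nat.cast_pow, ← htr, ← hg]
    show LinearMap.trace ℂ _ (ρ g) = _
    rw [hσ]
  rw [Representation.char_one, Module.finrank_fin_fun, hchar] at hint
  have hkm : k ∣ (Cfsg.Lib.Char.classFinset g).card * m :=
    Cfsg.Lib.Char.natCast_dvd_of_isIntegral (by omega) (by push_cast; exact hint)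
  have hcls := Subgroup.card_mul_index (Subgroup.centralizer ({g} : Set ↥(chevE6.group F)))
  rw [← Cfsg.Lib.Char.card_classFinset g] at hcls
  have excl : 31 ∣ Fintype.card F ^ 5 - 1 → 31 ∣ k → ¬ 31 ∣ m → ¬ 31 * 31 ∣ ordE (Fintype.card F) → False := by
    intro h5 hk31 hm31 hord
    have h1 : 31 ∣ (Cfsg.Lib.Char.classFinset g).card :=
      ((Nat.Prime.dvd_mul (by norm_num)).1 (hk31.trans hkm)).resolve_right hm31
    exact hord ((Nat.mul_dvd_mul (h5.trans hcent) h1).trans (hcls ▸ card_dvd_ordE))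
  by_cases h2 : Fintype.card F = 2 ∧ j = 2
  · obtain ⟨hq, hj2⟩ := h2
    simp only [hq, target] at hlt hnear hj hm excl
    refine excl (by norm_num) ?_ ?_ (by decide +kernel)
    · rw [show k = 2480 by omega]; norm_num
    · rw [show m = 432 by omega]; norm_num
  by_cases h4 : Fintype.card F = 4 ∧ j = 4
  · obtain ⟨hq, hj4⟩ := h4
    simp only [hq, target] at hlt hnear hj hm excl
    refine excl (by norm_num) ?_ ?_ (by decide +kernel)
    · rw [show k = 4277504 by omega]; norm_num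
    · rw [show m = 83200 by omega]; norm_num
  exact ordE_not_dvd (FiniteField.isPrimePow_card F) (j := j) (by omega) (by omega) h2 h4 hdiv

end Cfsg.Lib.Chev.SimpDeg.E6
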