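import Mathlib

/-!
# The degrees just below the target do not divide the order of E8
-/

set_option autoImplicit false
set_option maxRecDepth 100000

namespace Cfsg.Lib.Chev.SimpDeg.E8

/-- The order of E8. -/
def ordE8 (q : ℕ) : ℕ :=
  q ^ 120 * ((q ^ 2 - 1) * (q ^ 8 - 1) * (q ^ 12 - 1) * (q ^ 14 - 1) * (q ^ 18 - 1) * (q ^ 20 - 1) * (q ^ 24 - 1) *
    (q ^ 30 - 1))

/-- The small cases of one gap. -/
def smallOK (j q : ℕ) : Bool :=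
  Nat.blt 0 (ordE8 q % (q * (q ^ 12 + 1) * (q ^ 10 + 1) * (q ^ 6 + 1) - j))

/-- The part of the order prime to `q`. -/
def ordP (x : ℤ) : ℤ :=
  (x ^ 2 - 1) * (x ^ 8 - 1) * (x ^ 12 - 1) * (x ^ 14 - 1) * (x ^ 18 - 1) * (x ^ 20 - 1) * (x ^ 24 - 1) * (x ^ 30 - 1)

/-- The target less `j`. -/
def gapDiv (x j : ℤ) : ℤ := x ^ 29 + x ^ 23 + x ^ 19 + x ^ 17 + x ^ 13 + x ^ 11 + x ^ 7 + x - j

/-- The value of a list of coefficients, the constant one first. -/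
def pev (x : ℤ) : List ℤ → ℤ
  | [] => 0
  | a :: l => a + x * pev x l

theorem pev_le {x : ℤ} (hx : 1 ≤ x) : ∀ l : List ℤ, |pev x l| * x ≤ (l.map (|·|)).sum * x ^ l.length
  | [] => by simp [pev]
  | a :: l => by
    have ih := pev_le hx l
    have h0 : 0 ≤ |a| := abs_nonneg a
    have h1 : x ≤ x ^ (l.length + 1) := le_self_pow₀ hx (Nat.succ_ne_zero _)
    have h2 : |a + x * pev x l| ≤ |a| + x * |pev x l| :=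
      (abs_add_le _ _).trans (by rw [abs_mul, abs_of_nonneg (show (0 : ℤ) ≤ x by omega)])
    calc |pev x (a :: l)| * x ≤ (|a| + x * |pev x l|) * x := mul_le_mul_of_nonneg_right h2 (by omega)
      _ = |a| * x + x * (|pev x l| * x) := by ring
      _ ≤ |a| * x ^ (l.length + 1) + x * ((l.map (|·|)).sum * x ^ l.length) :=
        add_le_add (mul_le_mul_of_nonneg_left h1 h0) (mul_le_mul_of_nonneg_left ih (by omega))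
      _ = ((a :: l).map (|·|)).sum * x ^ (a :: l).length := by
        simp only [List.map_cons, List.sum_cons, List.length_cons]
        ring

/-- A remainder of degree 28 that is small against the divisor rules divisibility out. -/
theorem no_dvd {x j c S : ℤ} {lo : List ℤ} {qu : ℤ} (hlen : lo.length = 28) (hS : (lo.map (|·|)).sum = S)
    (heq : ordP x = gapDiv x j * qu + pev x lo - c * x ^ 28) (hj : 1 ≤ j) (hc : 0 ≤ c) (hjx : j ≤ x)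
    (h1 : S < c * x) (h2 : j * c * x + j * S < x * x) : ¬ gapDiv x j ∣ j * ordP x := by
  rintro ⟨z, hz⟩
  have hd : gapDiv x j ∣ j * (c * x ^ 28 - pev x lo) :=
    ⟨j * qu - z, by linear_combination j * heq - hz⟩
  have hb := pev_le (show 1 ≤ x by omega) lo
  rw [hlen, hS] at hb
  have hp : 0 < x ^ 28 := pow_pos (by omega) _
  have hlt : ∀ i, 0 ≤ x ^ i := fun i => pow_nonneg (by omega) i
  have hbx := abs_le.1 (show |pev x lo * x| ≤ S * x ^ 28 by rwa [abs_mul, abs_of_nonneg (show (0 : ℤ) ≤ x by omega)])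
  have hpos : 0 < c * x ^ 28 - pev x lo := by
    refine pos_of_mul_pos_left (b := x) ?_ (by omega)
    nlinarith [mul_lt_mul_of_pos_right h1 hp]
  have := Int.le_of_dvd (mul_pos (by omega) hpos) hd
  have hge : x ^ 29 ≤ gapDiv x j := by
    rw [gapDiv]
    linarith [hlt 23, hlt 19, hlt 17, hlt 13, hlt 11, hlt 7]
  have h3 : j * (c * x ^ 28 - pev x lo) * x < x ^ 29 * x := by
    have e1 := mul_lt_mul_of_pos_right h2 hp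
    have e2 := mul_le_mul_of_nonneg_left hbx.1 (show (0 : ℤ) ≤ j by omega)
    have e3 : x ^ 29 * x = x * x * x ^ 28 := by ring
    nlinarith
  have h4 := lt_of_mul_lt_mul_right h3 (by omega)
  omega

theorem small1 : (List.range' 2 45).all (smallOK 1) = true := by decide +kernel

theorem big1 (x : ℤ) (hx : 47 ≤ x) : ¬ gapDiv x 1 ∣ 1 * ordP x :=
  no_dvd (lo := [-3, 15, -27, 7, 1, 35, -35, 13, -11, 34, -4, -5, -23, 24, -2, -5, -25, 7, -35, 2, -31, 8, -28, -5, -48, 13, -10, -9]) (c := 35) (S := 465)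
    (qu := -4 + 11 * x ^ 1 - 15 * x ^ 2 - 8 * x ^ 3 - 7 * x ^ 4 + 28 * x ^ 5 - 7 * x ^ 6 + 2 * x ^ 7 + 3 * x ^ 8 + 22 * x ^ 9 + 9 * x ^ 10 - 7 * x ^ 11 + 10 * x ^ 12 + 8 * x ^ 13 + 11 * x ^ 14 - 13 * x ^ 15 + 3 * x ^ 16 + 1 * x ^ 17 + 1 * x ^ 18 - 10 * x ^ 19 - 7 * x ^ 20 + 2 * x ^ 21 - 5 * x ^ 22 - 6 * x ^ 23 - 9 * x ^ 24 + 7 * x ^ 25 - 5 * x ^ 26 - 2 * x ^ 27 - 3 * x ^ 28 + 4 * x ^ 29 + 4 * x ^ 30 - 2 * x ^ 31 + 3 * x ^ 32 + 2 * x ^ 33 + 8 * x ^ 34 - 2 * x ^ 35 + 3 * x ^ 36 + 1 * x ^ 37 + 4 * x ^ 38 - 1 * x ^ 39 - 3 * x ^ 40 + 3 * x ^ 41 - 1 * x ^ 42 - 1 * x ^ 43 - 5 * x ^ 44 - 1 * x ^ 46 - 3 * x ^ 48 - 2 * x ^ 49 + 1 * x ^ 50 - 1 * x ^ 52 + 3 * x ^ 54 - 1 * x ^ 55 + 1 * x ^ 56 + 2 * x ^ 57 + 2 * x ^ 58 - 1 * x ^ 60 + 1 * x ^ 61 + 1 * x ^ 62 + 1 * x ^ 63 - 2 * x ^ 64 - 1 * x ^ 68 - 1 * x ^ 69 + 1 * x ^ 70 - 2 *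 x ^ 71 - 1 * x ^ 75 + 1 * x ^ 79 + 1 * x ^ 83 + 1 * x ^ 85 - 1 * x ^ 93 - 1 * x ^ 97 + 1 * x ^ 99)
    rfl rfl (by simp only [ordP, gapDiv, pev]; ring) (by norm_num) (by norm_num) (by omega) (by omega)
    (by nlinarith)

theorem small2 : (List.range' 2 302).all (smallOK 2) = true := by decide +kernel

theorem big2 (x : ℤ) (hx : 304 ≤ x) : ¬ gapDiv x 2 ∣ 2 * ordP x :=
  no_dvd (lo := [93, 48, -144, -16, 40, 226, -191, 8, -44, 218, -31, -118, -83, 72, -8, -94, -103, -22, -143, -80, -124, 34, -115, -88, -192, 104, -40, -30]) (c := 143) (S := 2509)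
    (qu := 46 + 47 * x ^ 1 - 48 * x ^ 2 - 32 * x ^ 3 + 4 * x ^ 4 + 115 * x ^ 5 - 38 * x ^ 6 + 8 * x ^ 7 + 6 * x ^ 8 + 88 * x ^ 9 + 12 * x ^ 10 - 28 * x ^ 11 + 26 * x ^ 12 + 29 * x ^ 13 + 22 * x ^ 14 - 55 * x ^ 15 + 6 * x ^ 16 + 4 * x ^ 17 + 2 * x ^ 18 - 43 * x ^ 19 - 14 * x ^ 20 + 8 * x ^ 21 - 10 * x ^ 22 - 21 * x ^ 23 - 18 * x ^ 24 + 28 * x ^ 25 - 10 * x ^ 26 - 2 * x ^ 27 - 6 * x ^ 28 + 19 * x ^ 29 + 8 * x ^ 30 - 8 * x ^ 31 + 6 * x ^ 32 + 8 * x ^ 33 + 16 * x ^ 34 - 11 * x ^ 35 + 6 * x ^ 36 + 1 * x ^ 37 + 8 * x ^ 38 - 4 * x ^ 39 - 6 * x ^ 40 + 6 * x ^ 41 - 2 * x ^ 42 - 1 * x ^ 43 - 10 * x ^ 44 - 2 * x ^ 46 - 6 * x ^ 48 - 2 * x ^ 49 + 2 * x ^ 50 - 2 * x ^ 52 + 6 * x ^ 54 - 1 * x ^ 55 + 2 * x ^ 56 + 2 * x ^ 57 + 4 * x ^ 58 - 2 * x ^ 60 + 1 * x ^ 61 + 2 * x ^ 62 + 1 * x ^ 63 - 4 * x ^ 64 - 2 * x ^ 68 - 1 * x ^ 69 + 2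 * x ^ 70 - 2 * x ^ 71 - 1 * x ^ 75 + 1 * x ^ 79 + 1 * x ^ 83 + 1 * x ^ 85 - 1 * x ^ 93 - 1 * x ^ 97 + 1 * x ^ 99)
    rfl rfl (by simp only [ordP, gapDiv, pev]; ring) (by norm_num) (by norm_num) (by omega) (by omega)
    (by nlinarith)

theorem small3 : (List.range' 2 992).all (smallOK 3) = true := by decide +kernel

theorem big3 (x : ℤ) (hx : 994 ≤ x) : ¬ gapDiv x 3 ∣ 3 * ordP x :=
  no_dvd (lo := [613, 117, -459, -99, 225, 729, -611, -33, -99, 702, -116, -447, -143, 168, -18, -351, -233, -123, -323, -330, -279, 96, -260, -327, -432, 351, -90, -75]) (c := 323) (S := 7849)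
    (qu := 204 + 107 * x ^ 1 - 117 * x ^ 2 - 72 * x ^ 3 + 51 * x ^ 4 + 260 * x ^ 5 - 117 * x ^ 6 + 18 * x ^ 7 + 9 * x ^ 8 + 198 * x ^ 9 + 3 * x ^ 10 - 63 * x ^ 11 + 54 * x ^ 12 + 64 * x ^ 13 + 33 * x ^ 14 - 125 * x ^ 15 + 9 * x ^ 16 + 9 * x ^ 17 + 3 * x ^ 18 - 98 * x ^ 19 - 21 * x ^ 20 + 18 * x ^ 21 - 15 * x ^ 22 - 46 * x ^ 23 - 27 * x ^ 24 + 63 * x ^ 25 - 15 * x ^ 26 - 2 * x ^ 27 - 9 * x ^ 28 + 44 * x ^ 29 + 12 * x ^ 30 - 18 * x ^ 31 + 9 * x ^ 32 + 18 * x ^ 33 + 24 * x ^ 34 - 26 * x ^ 35 + 9 * x ^ 36 + 1 * x ^ 37 + 12 * x ^ 38 - 9 * x ^ 39 - 9 * x ^ 40 + 11 * x ^ 41 - 3 * x ^ 42 - 1 * x ^ 43 - 15 * x ^ 44 - 3 * x ^ 46 - 9 * x ^ 48 - 2 * x ^ 49 + 3 * x ^ 50 - 3 * x ^ 52 + 9 * x ^ 54 - 1 * x ^ 55 + 3 * x ^ 56 + 2 * x ^ 57 + 6 * x ^ 58 - 3 * x ^ 60 + 1 * x ^ 61 + 3 * x ^ 62 + 1 * x ^ 63 - 6 * x ^ 64 - 3 * x ^ 68 - 1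 * x ^ 69 + 3 * x ^ 70 - 2 * x ^ 71 - 1 * x ^ 75 + 1 * x ^ 79 + 1 * x ^ 83 + 1 * x ^ 85 - 1 * x ^ 93 - 1 * x ^ 97 + 1 * x ^ 99)
    rfl rfl (by simp only [ordP, gapDiv, pev]; ring) (by norm_num) (by norm_num) (by omega) (by omega)
    (by nlinarith)

theorem small4 : (List.range' 2 2331).all (smallOK 4) = true := by decide +kernel

theorem big4 (x : ℤ) (hx : 2333 ≤ x) : ¬ gapDiv x 4 ∣ 4 * ordP x :=
  no_dvd (lo := [2097, 240, -1152, -272, 736, 1700, -1535, -128, -176, 1636, -319, -1100, -143, 336, -32, -860, -415, -332, -575, -832, -496, 212, -463, -800, -768, 832, -160, -156]) (c := 575) (S := 18503)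
    (qu := 524 + 191 * x ^ 1 - 240 * x ^ 2 - 128 * x ^ 3 + 152 * x ^ 4 + 463 * x ^ 5 - 268 * x ^ 6 + 32 * x ^ 7 + 12 * x ^ 8 + 352 * x ^ 9 - 24 * x ^ 10 - 112 * x ^ 11 + 100 * x ^ 12 + 113 * x ^ 13 + 44 * x ^ 14 - 223 * x ^ 15 + 12 * x ^ 16 + 16 * x ^ 17 + 4 * x ^ 18 - 175 * x ^ 19 - 28 * x ^ 20 + 32 * x ^ 21 - 20 * x ^ 22 - 81 * x ^ 23 - 36 * x ^ 24 + 112 * x ^ 25 - 20 * x ^ 26 - 2 * x ^ 27 - 12 * x ^ 28 + 79 * x ^ 29 + 16 * x ^ 30 - 32 * x ^ 31 + 12 * x ^ 32 + 32 * x ^ 33 + 32 * x ^ 34 - 47 * x ^ 35 + 12 * x ^ 36 + 1 * x ^ 37 + 16 * x ^ 38 - 16 * x ^ 39 - 12 * x ^ 40 + 18 * x ^ 41 - 4 * x ^ 42 - 1 * x ^ 43 - 20 * x ^ 44 - 4 * x ^ 46 - 12 * x ^ 48 - 2 * x ^ 49 + 4 * x ^ 50 - 4 * x ^ 52 + 12 * x ^ 54 - 1 * x ^ 55 + 4 * x ^ 56 + 2 * x ^ 57 + 8 * x ^ 58 - 4 * x ^ 60 + 1 * x ^ 61 + 4 * x ^ 62 + 1 * x ^ 63 - 8 * x ^ 64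 - 4 * x ^ 68 - 1 * x ^ 69 + 4 * x ^ 70 - 2 * x ^ 71 - 1 * x ^ 75 + 1 * x ^ 79 + 1 * x ^ 83 + 1 * x ^ 85 - 1 * x ^ 93 - 1 * x ^ 97 + 1 * x ^ 99)
    rfl rfl (by simp only [ordP, gapDiv, pev]; ring) (by norm_num) (by norm_num) (by omega) (by omega)
    (by nlinarith)

theorem small5 : (List.range' 2 4535).all (smallOK 5) = true := by decide +kernel

theorem big5 (x : ℤ) (hx : 4537 ≤ x) : ¬ gapDiv x 5 ∣ 5 * ordP x :=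
  no_dvd (lo := [5301, 435, -2475, -565, 1825, 3295, -3299, -295, -275, 3170, -724, -2185, 1, 600, -50, -1705, -649, -685, -899, -1670, -775, 400, -724, -1585, -1200, 1625, -250, -285]) (c := 899) (S := 36947)
    (qu := 1060 + 299 * x ^ 1 - 435 * x ^ 2 - 200 * x ^ 3 + 325 * x ^ 4 + 724 * x ^ 5 - 515 * x ^ 6 + 50 * x ^ 7 + 15 * x ^ 8 + 550 * x ^ 9 - 75 * x ^ 10 - 175 * x ^ 11 + 170 * x ^ 12 + 176 * x ^ 13 + 55 * x ^ 14 - 349 * x ^ 15 + 15 * x ^ 16 + 25 * x ^ 17 + 5 * x ^ 18 - 274 * x ^ 19 - 35 * x ^ 20 + 50 * x ^ 21 - 25 * x ^ 22 - 126 * x ^ 23 - 45 * x ^ 24 + 175 * x ^ 25 - 25 * x ^ 26 - 2 * x ^ 27 - 15 * x ^ 28 + 124 * x ^ 29 + 20 * x ^ 30 - 50 * x ^ 31 + 15 * x ^ 32 + 50 * x ^ 33 + 40 * x ^ 34 - 74 * x ^ 35 + 15 * x ^ 36 + 1 * x ^ 37 + 20 * x ^ 38 - 25 * x ^ 39 - 15 * x ^ 40 + 27 * x ^ 41 - 5 * x ^ 42 - 1 * x ^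 43 - 25 * x ^ 44 - 5 * x ^ 46 - 15 * x ^ 48 - 2 * x ^ 49 + 5 * x ^ 50 - 5 * x ^ 52 + 15 * x ^ 54 - 1 * x ^ 55 + 5 * x ^ 56 + 2 * x ^ 57 + 10 * x ^ 58 - 5 * x ^ 60 + 1 * x ^ 61 + 5 * x ^ 62 + 1 * x ^ 63 - 10 * x ^ 64 - 5 * x ^ 68 - 1 * x ^ 69 + 5 * x ^ 70 - 2 * x ^ 71 - 1 * x ^ 75 + 1 * x ^ 79 + 1 * x ^ 83 + 1 * x ^ 85 - 1 * x ^ 93 - 1 * x ^ 97 + 1 * x ^ 99)
    rfl rfl (by simp only [ordP, gapDiv, pev]; ring) (by norm_num) (by norm_num) (by omega) (by omega)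
    (by nlinarith)

theorem small6 : (List.range' 2 7821).all (smallOK 6) = true := by decide +kernel

theorem big6 (x : ℤ) (hx : 7823 ≤ x) : ¬ gapDiv x 6 ∣ 6 * ordP x :=
  no_dvd (lo := [11197, 720, -4752, -1008, 3816, 5670, -6335, -552, -396, 5454, -1439, -3810, 397, 984, -72, -2970, -935, -1218, -1295, -2928, -1116, 678, -1043, -2760, -1728, 2808, -360, -474]) (c := 1295) (S := 66915)
    (qu := 1866 + 431 * x ^ 1 - 720 * x ^ 2 - 288 * x ^ 3 + 588 * x ^ 4 + 1043 * x ^ 5 - 882 * x ^ 6 + 72 * x ^ 7 + 18 * x ^ 8 + 792 * x ^ 9 - 156 * x ^ 10 - 252 * x ^ 11 + 270 * x ^ 12 + 253 * x ^ 13 + 66 * x ^ 14 - 503 * x ^ 15 + 18 * x ^ 16 + 36 * x ^ 17 + 6 * x ^ 18 - 395 * x ^ 19 - 42 * x ^ 20 + 72 * x ^ 21 - 30 * x ^ 22 - 181 * x ^ 23 - 54 * x ^ 24 + 252 * x ^ 25 - 30 * x ^ 26 - 2 * x ^ 27 - 18 * x ^ 28 + 179 * x ^ 29 + 24 *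 x ^ 30 - 72 * x ^ 31 + 18 * x ^ 32 + 72 * x ^ 33 + 48 * x ^ 34 - 107 * x ^ 35 + 18 * x ^ 36 + 1 * x ^ 37 + 24 * x ^ 38 - 36 * x ^ 39 - 18 * x ^ 40 + 38 * x ^ 41 - 6 * x ^ 42 - 1 * x ^ 43 - 30 * x ^ 44 - 6 * x ^ 46 - 18 * x ^ 48 - 2 * x ^ 49 + 6 * x ^ 50 - 6 * x ^ 52 + 18 * x ^ 54 - 1 * x ^ 55 + 6 * x ^ 56 + 2 * x ^ 57 + 12 * x ^ 58 - 6 * x ^ 60 + 1 * x ^ 61 + 6 * x ^ 62 + 1 * x ^ 63 - 12 * x ^ 64 - 6 * x ^ 68 - 1 * x ^ 69 + 6 * x ^ 70 - 2 * x ^ 71 - 1 * x ^ 75 + 1 * x ^ 79 + 1 * x ^ 83 + 1 * x ^ 85 - 1 * x ^ 93 - 1 * x ^ 97 + 1 * x ^ 99)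
    rfl rfl (by simp only [ordP, gapDiv, pev]; ring) (by norm_num) (by norm_num) (by omega) (by omega)
    (by nlinarith)

theorem small7 : (List.range' 2 12404).all (smallOK 7) = true := by decide +kernel

theorem big7 (x : ℤ) (hx : 12406 ≤ x) : ¬ gapDiv x 7 ∣ 7 * ordP x :=
  no_dvd (lo := [20973, 1113, -8379, -1631, 7105, 8981, -11171, -917, -539, 8638, -2596, -6083, 1177, 1512, -98, -4739, -1273, -1967, -1763, -4690, -1519, 1064, -1420, -4403, -2352, 4459, -490, -735]) (c := 1763) (S := 111787)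
    (qu := 2996 + 587 * x ^ 1 - 1113 * x ^ 2 - 392 * x ^ 3 + 959 * x ^ 4 + 1420 * x ^ 5 - 1393 * x ^ 6 + 98 * x ^ 7 + 21 * x ^ 8 + 1078 * x ^ 9 - 273 * x ^ 10 - 343 * x ^ 11 + 406 * x ^ 12 + 344 * x ^ 13 + 77 * x ^ 14 - 685 * x ^ 15 + 21 * x ^ 16 + 49 * x ^ 17 + 7 * x ^ 18 - 538 * x ^ 19 - 49 * x ^ 20 + 98 * x ^ 21 - 35 * x ^ 22 - 246 * x ^ 23 - 63 * x ^ 24 + 343 * x ^ 25 - 35 * x ^ 26 - 2 * x ^ 27 - 21 * x ^ 28 + 244 * x ^ 29 + 28 * x ^ 30 - 98 * x ^ 31 + 21 * x ^ 32 + 98 * x ^ 33 + 56 * x ^ 34 - 146 * x ^ 35 + 21 * x ^ 36 + 1 * x ^ 37 + 28 * x ^ 38 - 49 * x ^ 39 - 21 * x ^ 40 + 51 * x ^ 41 - 7 * x ^ 42 - 1 * x ^ 43 - 35 * x ^ 44 - 7 * x ^ 46 - 21 * x ^ 48 - 2 * x ^ 49 + 7 * x ^ 50 - 7 * x ^ 52 + 21 * x ^ 54 - 1 * x ^ 55 + 7 * x ^ 56 + 2 * x ^ 57 + 14 * x ^ 58 - 7 * x ^ 60 + 1 * x ^ 61 + 7 * x ^ 62 + 1 * x ^ 63 -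 14 * x ^ 64 - 7 * x ^ 68 - 1 * x ^ 69 + 7 * x ^ 70 - 2 * x ^ 71 - 1 * x ^ 75 + 1 * x ^ 79 + 1 * x ^ 83 + 1 * x ^ 85 - 1 * x ^ 93 - 1 * x ^ 97 + 1 * x ^ 99)
    rfl rfl (by simp only [ordP, gapDiv, pev]; ring) (by norm_num) (by norm_num) (by omega) (by omega)
    (by nlinarith)

theorem small8 : (List.range' 2 18499).all (smallOK 8) = true := by decide +kernel

theorem big8 (x : ℤ) (hx : 18501 ≤ x) : ¬ gapDiv x 8 ∣ 8 * ordP x :=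
  no_dvd (lo := [36033, 1632, -13824, -2464, 12160, 13384, -18431, -1408, -704, 12872, -4351, -9112, 2497, 2208, -128, -7096, -1663, -2968, -2303, -7040, -1984, 1576, -1855, -6592, -3072, 6656, -640, -1080]) (c := 2303) (S := 175733)
    (qu := 4504 + 767 * x ^ 1 - 1632 * x ^ 2 - 512 * x ^ 3 + 1456 * x ^ 4 + 1855 * x ^ 5 - 2072 * x ^ 6 + 128 * x ^ 7 + 24 * x ^ 8 + 1408 * x ^ 9 - 432 * x ^ 10 - 448 * x ^ 11 + 584 * x ^ 12 + 449 * x ^ 13 + 88 * x ^ 14 - 895 * x ^ 15 + 24 * x ^ 16 + 64 * x ^ 17 + 8 * x ^ 18 - 703 * x ^ 19 - 56 * x ^ 20 + 128 * x ^ 21 - 40 * x ^ 22 - 321 * x ^ 23 - 72 * x ^ 24 + 448 * x ^ 25 - 40 * x ^ 26 - 2 * x ^ 27 - 24 * x ^ 28 + 319 * x ^ 29 + 32 * x ^ 30 - 128 * x ^ 31 + 24 * x ^ 32 + 128 * x ^ 33 + 64 * x ^ 34 - 191 * x ^ 35 + 24 * x ^ 36 + 1 * x ^ 37 + 32 * x ^ 38 - 64 * x ^ 39 - 24 * x ^ 40 +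 66 * x ^ 41 - 8 * x ^ 42 - 1 * x ^ 43 - 40 * x ^ 44 - 8 * x ^ 46 - 24 * x ^ 48 - 2 * x ^ 49 + 8 * x ^ 50 - 8 * x ^ 52 + 24 * x ^ 54 - 1 * x ^ 55 + 8 * x ^ 56 + 2 * x ^ 57 + 16 * x ^ 58 - 8 * x ^ 60 + 1 * x ^ 61 + 8 * x ^ 62 + 1 * x ^ 63 - 16 * x ^ 64 - 8 * x ^ 68 - 1 * x ^ 69 + 8 * x ^ 70 - 2 * x ^ 71 - 1 * x ^ 75 + 1 * x ^ 79 + 1 * x ^ 83 + 1 * x ^ 85 - 1 * x ^ 93 - 1 * x ^ 97 + 1 * x ^ 99)
    rfl rfl (by simp only [ordP, gapDiv, pev]; ring) (by norm_num) (by norm_num) (by omega) (by omega)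
    (by nlinarith)

theorem small_or_big {q j : ℕ} (hq : 2 ≤ q) (hj1 : 1 ≤ j) (hj8 : j ≤ 8) :
    ¬ (q * (q ^ 12 + 1) * (q ^ 10 + 1) * (q ^ 6 + 1) - j) ∣ ordE8 q ∨
      9 ≤ q ∧ ¬ gapDiv (q : ℤ) (j : ℤ) ∣ (j : ℤ) * ordP (q : ℤ) := by
  have small : ∀ {n}, (List.range' 2 n).all (smallOK j) = true → q < n + 2 →
      ¬ (q * (q ^ 12 + 1) * (q ^ 10 + 1) * (q ^ 6 + 1) - j) ∣ ordE8 q := fun {n} h hlt hd => by
    have := List.all_eq_true.1 h q (List.mem_range'_1.2 ⟨hq, by omega⟩)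
    rw [smallOK, Nat.mod_eq_zero_of_dvd hd] at this
    simp at this
  interval_cases j

  · rcases lt_or_ge q 47 with h | h
    · exact Or.inl (small small1 (by omega))
    · exact Or.inr ⟨by omega, by simpa only [Nat.cast_ofNat, Nat.cast_one] using big1 _ (by exact_mod_cast h)⟩
  · rcases lt_or_ge q 304 with h | h
    · exact Or.inl (small small2 (by omega))
    · exact Or.inr ⟨by omega, by simpa only [Nat.cast_ofNat, Nat.cast_one] using big2 _ (by exact_mod_cast h)⟩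
  · rcases lt_or_ge q 994 with h | h
    · exact Or.inl (small small3 (by omega))
    · exact Or.inr ⟨by omega, by simpa only [Nat.cast_ofNat, Nat.cast_one] using big3 _ (by exact_mod_cast h)⟩
  · rcases lt_or_ge q 2333 with h | h
    · exact Or.inl (small small4 (by omega))
    · exact Or.inr ⟨by omega, by simpa only [Nat.cast_ofNat, Nat.cast_one] using big4 _ (by exact_mod_cast h)⟩
  · rcases lt_or_ge q 4537 with h | h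
    · exact Or.inl (small small5 (by omega))
    · exact Or.inr ⟨by omega, by simpa only [Nat.cast_ofNat, Nat.cast_one] using big5 _ (by exact_mod_cast h)⟩
  · rcases lt_or_ge q 7823 with h | h
    · exact Or.inl (small small6 (by omega))
    · exact Or.inr ⟨by omega, by simpa only [Nat.cast_ofNat, Nat.cast_one] using big6 _ (by exact_mod_cast h)⟩
  · rcases lt_or_ge q 12406 with h | h
    · exact Or.inl (small small7 (by omega))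
    · exact Or.inr ⟨by omega, by simpa only [Nat.cast_ofNat, Nat.cast_one] using big7 _ (by exact_mod_cast h)⟩
  · rcases lt_or_ge q 18501 with h | h
    · exact Or.inl (small small8 (by omega))
    · exact Or.inr ⟨by omega, by simpa only [Nat.cast_ofNat, Nat.cast_one] using big8 _ (by exact_mod_cast h)⟩

/-- No degree just below the target divides the order. -/
theorem ordE8_not_dvd {q : ℕ} (hq : IsPrimePow q) {j : ℕ} (hj1 : 1 ≤ j) (hj8 : j ≤ 8) :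
    ¬ (q * (q ^ 12 + 1) * (q ^ 10 + 1) * (q ^ 6 + 1) - j) ∣ ordE8 q := by
  intro hd
  rcases small_or_big hq.two_le hj1 hj8 with h | ⟨hq9, hbig⟩
  · exact h hd
  obtain ⟨T, hT⟩ : ∃ T, T = q * (q ^ 12 + 1) * (q ^ 10 + 1) * (q ^ 6 + 1) := ⟨_, rfl⟩
  obtain ⟨P, hP⟩ : ∃ P, P = (q ^ 2 - 1) * (q ^ 8 - 1) * (q ^ 12 - 1) * (q ^ 14 - 1) * (q ^ 18 - 1) * (q ^ 20 - 1) *
      (q ^ 24 - 1) * (q ^ 30 - 1) := ⟨_, rfl⟩
  rw [ordE8, ← hP, ← hT] at hd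
  have hqT : q ∣ T := hT ▸ ((dvd_mul_right q _).trans (dvd_mul_right _ _)).trans (dvd_mul_right _ _)
  have hTge : q ≤ T := Nat.le_of_dvd (by rw [hT]; positivity) hqT
  obtain ⟨p, f, hp, hf, rfl⟩ := hq
  obtain ⟨g, hg⟩ : ∃ g, g = Nat.gcd (T - j) ((p ^ f) ^ 120) := ⟨_, rfl⟩
  have hgp : g ∣ (p ^ f) ^ 120 := hg ▸ Nat.gcd_dvd_right _ _
  obtain ⟨a, -, ha⟩ := (Nat.dvd_prime_pow hp.nat_prime).1 (by rwa [← pow_mul] at hgp : g ∣ p ^ (f * 120))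
  have hgk : g ∣ T - j := hg ▸ Nat.gcd_dvd_left _ _
  have haf : a < f := by
    by_contra hge'
    have : p ^ f ∣ T - j := (Nat.pow_dvd_pow p (by omega)).trans (ha ▸ hgk)
    have h' : p ^ f ∣ T - (T - j) := Nat.dvd_sub hqT this
    rw [Nat.sub_sub_self (by omega)] at h'
    have := Nat.le_of_dvd (by omega) h'
    omega
  have hgj : g ∣ j := by
    have : g ∣ T := (ha ▸ Nat.pow_dvd_pow p haf.le).trans hqT
    have h' := Nat.dvd_sub this hgk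
    rwa [Nat.sub_sub_self (by omega)] at h'
  have h1 : T - j ∣ g * P := hg ▸ Nat.dvd_gcd_mul_iff_dvd_mul.2 hd
  have h2 : T - j ∣ j * P := h1.trans (Nat.mul_dvd_mul_right hgj P)
  have h3 := Int.natCast_dvd_natCast.2 h2
  have e : ∀ n, 1 ≤ (p ^ f) ^ n := fun n => Nat.one_le_pow _ _ (by omega)
  rw [Nat.cast_sub (by omega : j ≤ T), hT, hP] at h3
  push_cast [Nat.cast_sub (e 2), Nat.cast_sub (e 8), Nat.cast_sub (e 12), Nat.cast_sub (e 14), Nat.cast_sub (e 18),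
    Nat.cast_sub (e 20), Nat.cast_sub (e 24), Nat.cast_sub (e 30)] at h3 hbig
  refine hbig ?_
  have hxe : ∀ x : ℤ, x * (x ^ 12 + 1) * (x ^ 10 + 1) * (x ^ 6 + 1) =
      x ^ 29 + x ^ 23 + x ^ 19 + x ^ 17 + x ^ 13 + x ^ 11 + x ^ 7 + x := fun x => by ring
  rw [hxe] at h3
  simpa only [gapDiv, ordP] using h3

end Cfsg.Lib.Chev.SimpDeg.E8
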