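import Cfsg.Agent.Lib.Chev.SimplyDegree.E8Center

/-!
# The lower bound for the degree of a representation of E8 from the nested radicals

Either the degree reaches the target or it misses it by at most eight.
-/

set_option autoImplicit false
set_option maxRecDepth 100000

namespace Cfsg.Lib.Chev.SimpDeg.E8

open Module

/-- The target. -/
def target (q : ℕ) : ℕ := q * (q ^ 12 + 1) * (q ^ 10 + 1) * (q ^ 6 + 1)

theorem sum_pow {n : ℕ} {α : Type*} (L : Fin n → List α) {l : List ℕ}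
    (h : List.ofFn (fun i => (L i).length) = l) (q : ℕ) :
    ∑ i, q ^ (L i).length = (l.map (q ^ ·)).sum := by
  rw [← h, List.map_ofFn, List.sum_ofFn]
  rfl

theorem target_eq (q : ℕ) :
    target q = q ^ 29 + q ^ 23 + q ^ 19 + q ^ 17 + q ^ 13 + q ^ 11 + q ^ 7 + q := by
  rw [target]
  ring

theorem target_le_pow {q : ℕ} (hq : 2 ≤ q) : target q ≤ q ^ 43 := by
  have h : ∀ m, m ≤ 29 → q ^ m ≤ q ^ 29 := fun m hm => Nat.pow_le_pow_right (by omega) hm
  have h14 : 8 ≤ q ^ 14 := le_trans (by norm_num) (Nat.pow_le_pow_left hq 14)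
  have h43 : q ^ 43 = q ^ 29 * q ^ 14 := by rw [← pow_add]
  have h1 : q ≤ q ^ 29 := Nat.le_self_pow (by norm_num) q
  have := h 23 (by omega); have := h 19 (by omega); have := h 17 (by omega); have := h 13 (by omega)
  have := h 11 (by omega); have := h 7 (by omega)
  rw [target_eq, h43]
  nlinarith

/-- The contribution of level 1. -/
def big1Sum (q : ℕ) : ℕ := (q - 1) * ∑ i, q ^ (lows1 i).length

/-- The contributions of the levels below. -/
def restSum (q : ℕ) : ℕ :=
  (q - 1) * (∑ i, q ^ (lows2 i).length) + (q - 1) * (∑ i, q ^ (lows3 i).length) +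
    (q - 1) * (∑ i, q ^ (lows4 i).length) + (q - 1) * (∑ i, q ^ (lows5 i).length) +
    (q - 1) * (∑ i, q ^ (lows6 i).length) + (q - 1) * (∑ i, q ^ (lows7 i).length) + (q - 1)

theorem level1_closed {q : ℕ} (hq : 2 ≤ q) :
    (big1Sum q : ℤ) = ((q : ℤ) ^ 14 - 1) * ((q : ℤ) ^ 9 + 1) * ((q : ℤ) ^ 5 + 1) := by
  rw [big1Sum, sum_pow lows1 lens_ok.1]
  push_cast [Nat.cast_sub (show 1 ≤ q by omega), List.map_cons, List.map_nil, List.sum_cons, List.sum_nil]
  ring

theorem rest_closed {q : ℕ} (hq : 2 ≤ q) :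
    (restSum q : ℤ) + 8 = (q : ℤ) ^ 17 + (q : ℤ) ^ 13 + (q : ℤ) ^ 11 + (q : ℤ) ^ 9 + (q : ℤ) ^ 7 + (q : ℤ) ^ 5 +
      (q : ℤ) + 1 := by
  obtain ⟨-, h2, h3, h4, h5, h6, h7⟩ := lens_ok
  rw [restSum, sum_pow lows2 h2, sum_pow lows3 h3, sum_pow lows4 h4, sum_pow lows5 h5, sum_pow lows6 h6,
    sum_pow lows7 h7]
  push_cast [Nat.cast_sub (show 1 ≤ q by omega), List.map_cons, List.map_nil, List.sum_cons, List.sum_nil]
  ring

theorem levels_sum {q : ℕ} (hq : 2 ≤ q) : (q - 1) * q ^ 28 + big1Sum q + restSum q + 8 = target q := by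
  have h1 := level1_closed hq
  have h2 := rest_closed hq
  zify [show 1 ≤ q by omega]
  rw [target_eq]
  push_cast
  linear_combination h1 + h2

theorem twice_le {q : ℕ} (hq : 2 ≤ q) : target q ≤ (q - 1) * q ^ 28 + 2 * big1Sum q := by
  have h1 := level1_closed hq
  have h2 := rest_closed hq
  have hs := levels_sum hq
  obtain ⟨x, hx⟩ : ∃ x : ℤ, x = (q : ℤ) := ⟨_, rfl⟩
  rw [← hx] at h1 h2
  have hx2 : 2 ≤ x := by omega
  have hm : ∀ i, i ≤ 19 → x ^ i ≤ x ^ 19 := fun i hi => pow_le_pow_right₀ (by omega) hi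
  have h28 : 2 ^ 9 * x ^ 19 ≤ x ^ 28 := by
    rw [show x ^ 28 = x ^ 9 * x ^ 19 by ring]
    exact mul_le_mul_of_nonneg_right (pow_le_pow_left₀ (by norm_num) hx2 9) (pow_nonneg (by omega) _)
  have := hm 17 (by norm_num); have := hm 13 (by norm_num); have := hm 11 (by norm_num)
  have := hm 9 (by norm_num); have := hm 7 (by norm_num); have := hm 5 (by norm_num); have := hm 14 (by norm_num)
  have h1' : x ≤ x ^ 19 := le_self_pow₀ (by omega) (by norm_num)
  have h0 : 1 ≤ x ^ 19 := one_le_pow₀ (by omega)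
  have h23 : 0 ≤ x ^ 23 := pow_nonneg (by omega) _
  have key : (restSum q : ℤ) + 8 ≤ (big1Sum q : ℤ) := by
    rw [h1, h2]
    ring_nf
    linarith
  omega

section

variable {G F : Type*} [Group G] [Field F] [Fintype F] [DecidableEq F] (Y : Sys G F tb)
variable {V : Type*} [AddCommGroup V] [Module ℂ V] [FiniteDimensional ℂ V] (ρ : G →* Module.End ℂ V)
variable (θ : AddChar F ℂ)

theorem level1_abelian : abelianOn P1 tb Q1 = true := by
  have := level1_ok
  simp only [levelOK, Bool.and_eq_true] at this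
  exact this.1.1.1

theorem exists_char (hθ : θ ≠ 1) (hnt : ∃ r < 240, ∃ t, ρ (Y.x r t) ≠ 1) :
    ∃ a : Fin 56 → F, a ≠ 0 ∧ 1 ≤ finrank ℂ (eig Y ρ P1 θ Q1 a) := by
  by_contra! hall
  refine side_nontrivial Y ρ θ hθ hnt fun v hv r hr t => ?_
  obtain rfl := List.mem_singleton.1 hr
  have e := sum_finrank_eig Y ρ P1 θ Q1 hθ level1_abelian
  rw [Finset.sum_eq_single (0 : Fin 56 → F) (fun a _ ha => by have := hall a ha; omega) (by simp), eig_zero] at e
  have hle : Fix Y ρ (Q1 ++ List.ofFn P1) ≤ Fix Y ρ Q1 := Fix_anti Y ρ fun r hr => List.mem_append_left _ hr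
  have hv' : v ∈ Fix Y ρ (Q1 ++ List.ofFn P1) := by
    rw [Submodule.eq_of_le_of_finrank_eq hle e]
    exact hv
  exact hv' 203 (by decide +kernel) t

theorem level1_mult (hθ : θ ≠ 1) (hnt : ∃ r < 240, ∃ t, ρ (Y.x r t) ≠ 1) {d : ℕ} {bot : Fin 56}
    {edges : List (Fin 56 × Fin 56 × ℕ × ℕ)} (hedges : edges = edges1 ∧ bot = 0 ∨ edges = edgesTop ∧ bot = 55)
    {c : F} (hc : c ≠ 0) (hd : d ≤ finrank ℂ (eig Y ρ P1 θ Q1 (Pi.single bot c))) :
    (Fintype.card F - 1) * Fintype.card F ^ 28 + d * big1Sum (Fintype.card F) + finrank ℂ (Fix Y ρ Q2) ≤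
      finrank ℂ V := by
  have h0 := center_le Y ρ θ hθ hnt
  rw [show Fix Y ρ Q2 = Fix Y ρ (Q1 ++ List.ofFn P1) by rw [next_ok.1]]
  have h1 : d * big1Sum (Fintype.card F) + finrank ℂ (Fix Y ρ (Q1 ++ List.ofFn P1)) ≤ finrank ℂ (Fix Y ρ Q1) := by
    rcases hedges with ⟨rfl, rfl⟩ | ⟨rfl, rfl⟩
    · exact level_le Y ρ P1 θ Q1 hθ level1_ok hc hd
    · exact level_le Y ρ P1 θ Q1 hθ level1_top_ok hc hd
  change _ + finrank ℂ (Fix Y ρ Q1) ≤ _ at h0
  omega

theorem closed1 (d : ℕ) : Closed (src P1 tb) S1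
    fun a : Fin 56 → F => d ≤ finrank ℂ (eig Y ρ P1 θ Q1 a) := by
  refine closed_finrank Y ρ P1 θ Q1 ?_ d
  have := level1_ok
  simp only [levelOK, Bool.and_eq_true] at this
  exact this.1.1.2

theorem big_le (hθ : θ ≠ 1) (hb : Big (fun a : Fin 56 → F => 1 ≤ finrank ℂ (eig Y ρ P1 θ Q1 a))
    (gen1.low.length + gen1.side.length)) : Fintype.card F ^ 43 ≤ finrank ℂ V := by
  obtain ⟨f, hf, hP⟩ := hb
  have h := finset_le Y ρ P1 θ Q1 hθ level1_abelian (d := 1) (Finset.univ.image f) fun a ha => by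
    obtain ⟨x, -, rfl⟩ := Finset.mem_image.1 ha
    exact ⟨(hP x).2, (hP x).1⟩
  rw [one_mul, Finset.card_image_of_injective _ hf, Finset.card_univ, Fintype.card_fun, Fintype.card_fin,
    show gen1.low.length + gen1.side.length = 43 from rfl] at h
  have := Submodule.finrank_le (Fix Y ρ Q1)
  omega

variable (hθ : θ ≠ 1) (hnt : ∃ r < 240, ∃ t, ρ (Y.x r t) ≠ 1)
  (hk : finrank ℂ V < target (Fintype.card F))
include hθ hnt hk

/-- Below the target every single coordinate has multiplicity one. -/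
theorem single_eq_one (i : Fin 56) {c : F} (hc : c ≠ 0) :
    finrank ℂ (eig Y ρ P1 θ Q1 (Pi.single i c)) = 1 := by
  have hq : 2 ≤ Fintype.card F := Fintype.one_lt_card
  obtain ⟨a, ha, ha1⟩ := exists_char Y ρ θ hθ hnt
  rcases gen_dichotomy_kick (src P1 tb) (closed1 Y ρ θ 1) gen1 gen1_ok ha1 ha with ⟨c₀, hc₀, hP⟩ | hb
  swap
  · have := big_le Y ρ θ hθ hb
    have := target_le_pow hq
    omega
  have hre : reachOK (src P1 tb) S1 edgesTop [55] = true := by
    have := level1_top_ok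
    simp only [levelOK, Bool.and_eq_true] at this
    exact this.1.2
  have h1 := single_any (closed1 Y ρ θ 1) hre hc₀ hP i c hc
  refine le_antisymm ?_ h1
  by_contra h2
  push Not at h2
  have hre0 : reachOK (src P1 tb) S1 edgesTop [55] = true := hre
  have : 2 ≤ finrank ℂ (eig Y ρ P1 θ Q1 (Pi.single i c)) := h2
  -- carry the multiplicity to the top
  rcases gen_dichotomy_kick (src P1 tb) (closed1 Y ρ θ 2) gen1 gen1_ok this
      (fun e => hc (by simpa using congrFun e i)) with ⟨c₁, hc₁, hP₁⟩ | hb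
  · have := level1_mult Y ρ θ hθ hnt (Or.inr ⟨rfl, rfl⟩) hc₁ hP₁
    have := twice_le hq
    omega
  · obtain ⟨f, hf, hf'⟩ := hb
    have := big_le Y ρ θ hθ ⟨f, hf, fun x => ⟨le_trans one_le_two (hf' x).1, (hf' x).2⟩⟩
    have := target_le_pow hq
    omega

/-- The bottom characters are fixed by all the other positive roots. -/
theorem bot_fixed {c : F} (hc : c ≠ 0) :
    eig Y ρ P1 θ Q1 (Pi.single 0 c) ≤ eig Y ρ ![120] θ (posBut 120) ![c] := by
  intro v hv
  obtain ⟨hfst, hS1, hpb, hdec⟩ := dec_ok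
  have hS : S1.all (actsOn P1 tb Q1) = true := by
    have := level1_ok
    simp only [levelOK, Bool.and_eq_true] at this
    exact this.1.1.2
  rw [List.all_eq_true] at hS
  have hone := single_eq_one Y ρ θ hθ hnt hk 0 hc
  -- an element fixing the character acts by a scalar
  have scalar : ∀ s ∈ S1, (∀ m, (src P1 tb s m).map Prod.fst ≠ some 0) → ∀ u, v ≠ 0 →
      ∃ l : ℂ, l ≠ 0 ∧ ρ (Y.x s u) v = l • v := by
    intro s hs hsrc u hv0
    have h := eig_map Y ρ P1 θ Q1 (hS s hs) u _ hv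
    rw [show tau (src P1 tb) s u (Pi.single 0 c) = (Pi.single 0 c : Fin 56 → F) from
      funext fun m => tau_zero_src _ fun j b hj => Pi.single_eq_of_ne (M := fun _ => F)
        (fun e => hsrc m (by rw [hj, ← e]; rfl)) c] at h
    obtain ⟨l, hl⟩ := (finrank_eq_one_iff_of_nonzero' (⟨v, hv⟩ : eig Y ρ P1 θ Q1 (Pi.single 0 c))
      (fun e => hv0 (congrArg Subtype.val e))).1 hone ⟨_, h⟩
    refine ⟨l, fun hl0 => hv0 ?_, (congrArg Subtype.val hl).symm⟩
    have e := (congrArg Subtype.val hl).symm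
    simp only [hl0, zero_smul, Submodule.coe_zero] at e
    have := congrArg (ρ (Y.x s (-u))) e
    rwa [← Module.End.mul_apply, ← map_mul, ← Y.add, neg_add_cancel, Y.zero, map_one, Module.End.one_apply,
      map_zero] at this
  have hfix : ∀ r ∈ pos1, ∀ t, ρ (Y.x r t) v = v := by
    intro r hr t
    rcases eq_or_ne v 0 with rfl | hv0
    · simp
    rw [← hfst] at hr
    obtain ⟨p, hp, rfl⟩ := List.mem_map.1 hr
    obtain ⟨ha, hb, ⟨e, he⟩, hsrc⟩ := hdec p hp
    obtain ⟨u, hu⟩ : ∃ u : F, sg F e * 1 * u = t := ⟨t / sg F e, by rw [mul_one, mul_div_cancel₀ _ (sg_ne_zero e)]⟩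
    obtain ⟨la, hla0, hla⟩ := scalar p.2.1 ha (fun m => (hsrc m).2.1) u hv0
    obtain ⟨la', hla0', hla'⟩ := scalar p.2.1 ha (fun m => (hsrc m).2.1) (-u) hv0
    obtain ⟨lb, hlb0, hlb⟩ := scalar p.2.2 hb (fun m => (hsrc m).2.2) 1 hv0
    obtain ⟨ls, hls0, hls⟩ := scalar p.1 (hS1 _ (hfst ▸ List.mem_map_of_mem hp)) (fun m => (hsrc m).1) t hv0
    have hinv : la * la' = 1 := by
      have h1 : ρ (Y.x p.2.1 u * Y.x p.2.1 (-u)) v = (la * la') • v := by
        rw [map_mul, Module.End.mul_apply, hla', map_smul, hla, smul_smul, mul_comm]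
      rw [← Y.add, add_neg_cancel, Y.zero, map_one, Module.End.one_apply] at h1
      exact (smul_left_injective ℂ hv0 (h1.symm.trans (one_smul ℂ v).symm))
    have h2 := congrArg (fun g => ρ g v) (Y.conj p.2.1 p.2.2 p.1 e he 1 u)
    simp only [Y.inv, hu, map_mul, Module.End.mul_apply, hla', hlb, hls, map_smul, hla, smul_smul] at h2
    have h3 := smul_left_injective ℂ hv0 h2
    have : ls = 1 := by
      have h4 : lb * ls = lb * 1 := by linear_combination -h3 + lb * hinv
      exact mul_left_cancel₀ hlb0 h4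
    rw [hls, this, one_smul]
  refine ⟨fun r hr t => ?_, fun i t => ?_⟩
  · rcases hpb r hr with h | h | ⟨j, hj, rfl⟩
    · exact hfix r h t
    · exact hv.1 r h t
    · rw [hv.2, Pi.single_eq_of_ne (M := fun _ => F) hj, zero_mul, AddChar.map_zero_eq_one, one_smul]
  · fin_cases i
    have h0 : P1 0 = 120 := by decide +kernel
    simpa [h0] using hv.2 0 t

/-- The vectors fixed by all positive roots but one outnumber the others by `q - 1`. -/
theorem posBut_le : ∀ i ∈ simples,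
    Fintype.card F - 1 + finrank ℂ (Fix Y ρ (List.range' 120 120)) ≤ finrank ℂ (Fix Y ρ (posBut i)) := by
  have h120 : Fintype.card F - 1 + finrank ℂ (Fix Y ρ (List.range' 120 120)) ≤ finrank ℂ (Fix Y ρ (posBut 120)) := by
    have h := finset_le Y ρ ![120] θ (posBut 120) hθ (single_ok 120 (by simp [simples])) (d := 1)
      ((Finset.univ.filter fun c : F => c ≠ 0).image fun c => ![c]) fun a ha => by
        obtain ⟨c, hc, rfl⟩ := Finset.mem_image.1 ha
        have hc' := (Finset.mem_filter.1 hc).2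
        refine ⟨fun e => hc' (congrFun e 0), ?_⟩
        rw [← single_eq_one Y ρ θ hθ hnt hk 0 hc']
        exact Submodule.finrank_mono (bot_fixed Y ρ θ hθ hnt hk hc')
    rw [one_mul, Finset.card_image_of_injective _ (fun c c' e => congrFun e 0), Finset.filter_ne' Finset.univ (0 : F),
      Finset.card_erase_of_mem (Finset.mem_univ _), Finset.card_univ,
      Fix_congr Y ρ (Q' := List.range' 120 120) (by
        intro r
        simp [posBut, List.mem_range'_1]
        omega)] at h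
    exact h
  have step : ∀ a b c na nb, pairOK tb (rad a b c) a b c na nb = true →
      (∀ r, r ∈ rad a b c ++ [b, c] ↔ r ∈ posBut a) → (∀ r, r ∈ rad a b c ++ [a, c] ↔ r ∈ posBut b) →
      finrank ℂ (Fix Y ρ (posBut a)) = finrank ℂ (Fix Y ρ (posBut b)) := fun a b c na nb h ha hb => by
    rw [← Fix_congr Y ρ ha, ← Fix_congr Y ρ hb]
    exact finrank_pair Y ρ _ h
  obtain ⟨p0, p1, p2, p3, p4, p5, p6⟩ := pairs_ok
  have mem : ∀ (a b c : ℕ), (120 ≤ a ∧ a < 240 ∧ 120 ≤ b ∧ b < 240 ∧ 120 ≤ c ∧ c < 240 ∧ a ≠ b ∧ a ≠ c ∧ b ≠ c) →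
      (∀ r, r ∈ rad a b c ++ [b, c] ↔ r ∈ posBut a) ∧ (∀ r, r ∈ rad a b c ++ [a, c] ↔ r ∈ posBut b) :=
    fun a b c h => ⟨fun r => by simp [rad, posBut, List.mem_range'_1]; omega,
      fun r => by simp [rad, posBut, List.mem_range'_1]; omega⟩
  have e0 := step 162 135 163 77 104 p0 (mem 162 135 163 (by omega)).1 (mem 162 135 163 (by omega)).2
  have e1 := step 135 130 136 104 109 p1 (mem 135 130 136 (by omega)).1 (mem 135 130 136 (by omega)).2
  have e2 := step 130 126 131 109 113 p2 (mem 130 126 131 (by omega)).1 (mem 130 126 131 (by omega)).2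
  have e3 := step 126 123 127 113 116 p3 (mem 126 123 127 (by omega)).1 (mem 126 123 127 (by omega)).2
  have e4 := step 123 121 124 116 118 p4 (mem 123 121 124 (by omega)).1 (mem 123 121 124 (by omega)).2
  have e5 := step 121 120 122 118 119 p5 (mem 121 120 122 (by omega)).1 (mem 121 120 122 (by omega)).2
  have e6 := step 141 130 142 98 109 p6 (mem 141 130 142 (by omega)).1 (mem 141 130 142 (by omega)).2
  intro i hi
  simp only [simples, List.mem_cons, List.not_mem_nil, or_false] at hi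
  rcases hi with rfl | rfl | rfl | rfl | rfl | rfl | rfl | rfl <;> omega

/-- A level below the first. -/
theorem lower_level {n : ℕ} [NeZero n] {P : Fin n → ℕ} {Q Q' : List ℕ} (hnext : Q' = Q ++ List.ofFn P)
    {S : List ℕ} {e : Fin n × Fin n × ℕ × ℕ}
    {es : List (Fin n × Fin n × ℕ × ℕ)} {Ls : Fin n → List (ℕ × Fin n)}
    (h : levelOK P tb Q S (e :: es) Ls 0 = true)
    (hok : P 0 ∈ simples ∧ (∀ r ∈ Q, r ∈ posBut (P 0)) ∧ ∀ i, i ≠ 0 → P i ∈ posBut (P 0)) :
    (Fintype.card F - 1) * (∑ i, Fintype.card F ^ (Ls i).length) + finrank ℂ (Fix Y ρ Q') ≤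
      finrank ℂ (Fix Y ρ Q) := by
  subst hnext
  obtain ⟨hst, hQ, hP⟩ := hok
  have hm := posBut_le Y ρ θ hθ hnt hk (P 0) hst
  have hab := single_ok (P 0) hst
  have hq : 2 ≤ Fintype.card F := Fintype.one_lt_card
  obtain ⟨c, hc, hc1⟩ : ∃ c : F, c ≠ 0 ∧ 1 ≤ finrank ℂ (eig Y ρ ![P 0] θ (posBut (P 0)) ![c]) := by
    by_contra! hall
    have e' := sum_finrank_eig Y ρ ![P 0] θ (posBut (P 0)) hθ hab
    rw [Finset.sum_eq_single (0 : Fin 1 → F) (fun a _ ha => by
      have := hall (a 0) (fun e => ha (funext (Fin.forall_fin_one.2 e)))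
      rw [show ![a 0] = a from funext (Fin.forall_fin_one.2 rfl)] at this
      omega) (by simp), eig_zero, Fix_congr Y ρ (Q' := List.range' 120 120) (by
        intro r
        have hr : 120 ≤ P 0 ∧ P 0 < 240 := by
          simp only [simples, List.mem_cons, List.not_mem_nil, or_false] at hst
          omega
        simp [posBut, List.mem_range'_1]
        omega)] at e'
    omega
  have hle' : eig Y ρ ![P 0] θ (posBut (P 0)) ![c] ≤ eig Y ρ P θ Q (Pi.single 0 c) := by
    intro v hv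
    refine ⟨fun r hr t => hv.1 r (hQ r hr) t, fun i t => ?_⟩
    rcases eq_or_ne i 0 with rfl | hi
    · simpa using hv.2 0 t
    · rw [Pi.single_eq_of_ne (M := fun _ => F) hi, zero_mul, AddChar.map_zero_eq_one, one_smul]
      exact hv.1 _ (hP i hi) t
  have h' := level_le Y ρ P θ Q hθ h hc (d := 1) (hc1.trans (Submodule.finrank_mono hle'))
  rwa [one_mul] at h'

/-- The degree is within eight of the target. -/
theorem near_target : target (Fintype.card F) ≤ finrank ℂ V + 8 := by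
  have hq : 2 ≤ Fintype.card F := Fintype.one_lt_card
  obtain ⟨n1, n2, n3, n4, n5, n6, n7⟩ := next_ok
  have h1 := level1_mult Y ρ θ hθ hnt (Or.inl ⟨rfl, rfl⟩) (one_ne_zero' F)
    (single_eq_one Y ρ θ hθ hnt hk 0 one_ne_zero).ge
  have h2 := lower_level Y ρ θ hθ hnt hk n2 level2_ok (by decide +kernel)
  have h3 := lower_level Y ρ θ hθ hnt hk n3 level3_ok (by decide +kernel)
  have h4 := lower_level Y ρ θ hθ hnt hk n4 level4_ok (by decide +kernel)
  have h5 := lower_level Y ρ θ hθ hnt hk n5 level5_ok (by decide +kernel)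
  have h6 := lower_level Y ρ θ hθ hnt hk n6 level6_ok (by decide +kernel)
  have h7 := lower_level Y ρ θ hθ hnt hk n7 level7_ok (by decide +kernel)
  have h8 : Fintype.card F - 1 ≤ finrank ℂ (Fix Y ρ Q8) := by
    have h : ∀ r ∈ Q8, r ∈ posBut 162 := by decide +kernel
    have := posBut_le Y ρ θ hθ hnt hk 162 (by simp [simples])
    have := Submodule.finrank_mono (Fix_anti Y ρ h)
    omega
  have := levels_sum hq
  simp only [restSum] at this
  omega

end

end Cfsg.Lib.Chev.SimpDeg.E8
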