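import Cfsg.Agent.Lib.Chev.SimplyDegree.E8Data

/-!
# The center of the Heisenberg radical of E8

Every nontrivial character of the highest root group occurs at least `q ^ 28` times, and a root
element next to the highest one acts nontrivially on the vectors fixed by the highest root group.
-/

set_option autoImplicit false
set_option maxRecDepth 100000

namespace Cfsg.Lib.Chev.SimpDeg.E8

open Module

variable {G F : Type*} [Group G] [Field F] [Fintype F] [DecidableEq F] (Y : Sys G F tb)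
variable {V : Type*} [AddCommGroup V] [Module ℂ V] [FiniteDimensional ℂ V] (ρ : G →* Module.End ℂ V)

theorem fix_nil : Fix Y ρ ([] : List ℕ) = ⊤ := eq_top_iff.2 fun v _ r hr => absurd hr (List.not_mem_nil)

theorem all_trivial (h : ∀ t, ρ (Y.x 239 t) = 1) : ∀ r < 240, ∀ t, ρ (Y.x r t) = 1 := by
  obtain ⟨hall, hstep⟩ := spread_ok
  suffices H : ∀ n ≤ spread.length, ∀ r ∈ 239 :: (spread.take n).map (fun p => p.2.2), ∀ t, ρ (Y.x r t) = 1 from
    fun r hr => H spread.length le_rfl r (by rw [List.take_length]; exact hall r hr)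
  intro n hn
  induction n with
  | zero => intro r hr; simp at hr; exact hr ▸ h
  | succ n ih =>
    intro r hr t
    rw [List.take_add_one, List.getElem?_eq_getElem hn, Option.toList_some, List.map_append, ← List.cons_append,
      List.mem_append] at hr
    rcases hr with hr | hr
    · exact ih (by omega) r hr t
    · rw [List.map_cons, List.map_nil, List.mem_singleton] at hr
      obtain ⟨⟨b, hb⟩, hmem⟩ := hstep ⟨n, hn⟩
      simp only [List.get_eq_getElem] at hb hmem
      have e := congrArg ρ (Y.conj _ _ _ b hb (t / sg F b) 1)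
      rw [map_mul, map_mul, map_mul, ih (by omega) _ hmem (t / sg F b), mul_one, one_mul, ← map_mul,
        mul_inv_cancel, map_one, mul_one, mul_div_cancel₀ _ (sg_ne_zero b)] at e
      rw [hr]
      exact e.symm

variable (θ : AddChar F ℂ) (hθ : θ ≠ 1)

/-- The dimension of the vectors on which the highest root group acts by one character. -/
noncomputable def dimTop (c : F) : ℕ :=
  ∑ a with a 28 = c, finrank ℂ (eig Y ρ P0 θ [] a)

/-- The trace of the highest root element. -/
noncomputable def trTop : ℂ :=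
  LinearMap.trace ℂ _ (op Y ρ (Q := []) (s := 239) (by decide +kernel) (1 : F))

include hθ

theorem trace_const {t : F} (ht : t ≠ 0) :
    LinearMap.trace ℂ _ (opHom Y ρ P0 [] center_ok.1 28 (Multiplicative.ofAdd t)) = trTop Y ρ := by
  obtain ⟨-, -, -, -, hk, ⟨e₁, h₁⟩, ⟨e₂, h₂⟩, hc, -⟩ := center_ok
  have h := trace_two Y ρ [] 206 203 239 33 (hk 206 (by simp)) (hk 203 (by simp)) (hk 239 (by simp))
    (hk 33 (by simp)) h₁ h₂ hc 0 t (fun e => ht e.2)
  rw [op_zero, one_mul] at h
  exact h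

theorem dimTop_eq (c : F) :
    (Fintype.card F : ℂ) * (dimTop Y ρ θ c : ℂ) =
      (finrank ℂ V : ℂ) + (∑ t ∈ Finset.univ.erase (0 : F), θ (-(c * t))) * trTop Y ρ := by
  have hab := center_ok.1
  have hP : AddChar.IsPrimitive θ := AddChar.IsPrimitive.of_ne_one hθ
  obtain ⟨e, he⟩ : ∃ e : (Fin 29 → F) → ℂ, ∀ a, e a = (finrank ℂ (eig Y ρ P0 θ [] a) : ℂ) := ⟨_, fun _ => rfl⟩
  have e1 : (∑ t : F, θ (-(c * t)) * LinearMap.trace ℂ _ (opHom Y ρ P0 [] hab 28 (Multiplicative.ofAdd t))) =
      (Fintype.card F : ℂ) * (dimTop Y ρ θ c : ℂ) := by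
    simp only [trace_opHom Y ρ P0 θ [] hθ hab, Finset.mul_sum, dimTop, Nat.cast_sum, ← he]
    rw [Finset.sum_comm, Finset.sum_filter]
    refine Finset.sum_congr rfl fun a _ => ?_
    rw [Finset.sum_congr rfl fun t _ => show θ (-(c * t)) * (θ (a 28 * t) * e a) = θ (t * (a 28 - c)) * e a by
      rw [← mul_assoc, ← AddChar.map_add_eq_mul]; congr 2; ring, ← Finset.sum_mul]
    by_cases h : a 28 = c
    · rw [if_pos h, AddChar.sum_mulShift _ hP, if_pos (sub_eq_zero.2 h)]
    · rw [if_neg h, AddChar.sum_mulShift _ hP, if_neg (sub_ne_zero.2 h), Nat.cast_zero, zero_mul]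
  rw [← e1, ← Finset.sum_erase_add _ _ (Finset.mem_univ (0 : F)), add_comm, Finset.sum_mul]
  congr 1
  · rw [mul_zero, neg_zero, AddChar.map_zero_eq_one, one_mul, ofAdd_zero, map_one, LinearMap.trace_one, fix_nil,
      finrank_top]
  · exact Finset.sum_congr rfl fun t ht => by rw [trace_const Y ρ θ hθ (Finset.ne_of_mem_erase ht)]

theorem dimTop_ne {c : F} (hc : c ≠ 0) :
    (Fintype.card F : ℂ) * (dimTop Y ρ θ c : ℂ) = (finrank ℂ V : ℂ) - trTop Y ρ := by
  rw [dimTop_eq Y ρ θ hθ c]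
  have h : ∑ t : F, θ (t * -c) = ((if -c = 0 then Fintype.card F else 0 : ℕ) : ℂ) :=
    AddChar.sum_mulShift _ (AddChar.IsPrimitive.of_ne_one hθ)
  rw [if_neg (neg_ne_zero.2 hc), Nat.cast_zero, ← Finset.sum_erase_add _ _ (Finset.mem_univ (0 : F)), zero_mul,
    AddChar.map_zero_eq_one, Finset.sum_congr rfl fun t _ => show θ (t * -c) = θ (-(c * t)) by
      rw [mul_neg, mul_comm]] at h
  linear_combination trTop Y ρ * h

theorem dimTop_zero :
    (Fintype.card F : ℂ) * (dimTop Y ρ θ 0 : ℂ) =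
      (finrank ℂ V : ℂ) + ((Fintype.card F : ℂ) - 1) * trTop Y ρ := by
  rw [dimTop_eq Y ρ θ hθ 0]
  simp only [zero_mul, neg_zero, AddChar.map_zero_eq_one, Finset.sum_const, nsmul_one,
    Finset.card_erase_of_mem (Finset.mem_univ _), Finset.card_univ, Nat.cast_sub Fintype.card_pos, Nat.cast_one]

theorem dimTop_fix : dimTop Y ρ θ 0 = finrank ℂ (Fix Y ρ [239]) := by
  obtain ⟨-, -, -, hab', -⟩ := center_ok
  rw [← sum_finrank_eig Y ρ (fun i : Fin 28 => P0 i.castSucc) θ [239] hθ hab', dimTop]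
  have hP : P0 (Fin.last 28) = 239 := by decide +kernel
  refine Finset.sum_bij' (fun a _ => Fin.init a) (fun a _ => Fin.snoc a 0) (fun a _ => Finset.mem_univ _)
    (fun a _ => Finset.mem_filter.2 ⟨Finset.mem_univ _, ?_⟩) (fun a ha => ?_) (fun a _ => Fin.init_snoc _ _)
    (fun a ha => ?_)
  · exact Fin.snoc_last (α := fun _ => F) 0 a
  · have h0 : a (Fin.last 28) = 0 := (Finset.mem_filter.1 ha).2
    calc Fin.snoc (Fin.init a) 0 = Fin.snoc (Fin.init a) (a (Fin.last 28)) := by rw [h0]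
      _ = a := Fin.snoc_init_self a
  · have h0 : a (Fin.last 28) = 0 := (Finset.mem_filter.1 ha).2
    have heq : eig Y ρ P0 θ [] a = eig Y ρ (fun i : Fin 28 => P0 i.castSucc) θ [239] (Fin.init a) := by
      ext v
      constructor
      · rintro ⟨-, h⟩
        refine ⟨fun r hr t => ?_, fun i t => h i.castSucc t⟩
        obtain rfl := List.mem_singleton.1 hr
        rw [← hP, h, h0, zero_mul, AddChar.map_zero_eq_one, one_smul]
      · rintro ⟨h1, h2⟩
        refine ⟨fun r hr => absurd hr List.not_mem_nil, fun i t => ?_⟩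
        refine Fin.lastCases ?_ (fun j => h2 j t) i
        rw [hP, h1 239 (by simp), h0, zero_mul, AddChar.map_zero_eq_one, one_smul]
    exact heq ▸ rfl

theorem top_nontrivial (hnt : ∃ r < 240, ∃ t, ρ (Y.x r t) ≠ 1) : finrank ℂ (Fix Y ρ [239]) < finrank ℂ V := by
  refine lt_of_le_of_ne (Submodule.finrank_le _) fun h => ?_
  obtain ⟨r, hr, t, ht⟩ := hnt
  refine ht (all_trivial Y ρ (fun u => LinearMap.ext fun v => ?_) r hr t)
  have hv : v ∈ Fix Y ρ [239] := by rw [Submodule.eq_top_of_finrank_eq h]; trivial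
  exact hv 239 (by simp) u

omit hθ in
theorem card_cast : (Fintype.card F : ℂ) ≠ 0 := Nat.cast_ne_zero.2 Fintype.card_ne_zero

theorem dimTop_pos (hnt : ∃ r < 240, ∃ t, ρ (Y.x r t) ≠ 1) {c : F} (hc : c ≠ 0) : 0 < dimTop Y ρ θ c := by
  rcases Nat.eq_zero_or_pos (dimTop Y ρ θ c) with h | h
  · exfalso
    have e := dimTop_ne Y ρ θ hθ hc
    rw [h, Nat.cast_zero, mul_zero] at e
    have e0 := dimTop_zero Y ρ θ hθ
    rw [dimTop_fix Y ρ θ hθ] at e0
    have e2 : (finrank ℂ (Fix Y ρ [239]) : ℂ) = (finrank ℂ V : ℂ) :=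
      mul_left_cancel₀ card_cast (by linear_combination e0 + ((Fintype.card F : ℂ) - 1) * e)
    exact (top_nontrivial Y ρ θ hθ hnt).ne (by exact_mod_cast e2)
  · exact h

/-- The contribution of the center. -/
theorem center_le (hnt : ∃ r < 240, ∃ t, ρ (Y.x r t) ≠ 1) :
    (Fintype.card F - 1) * Fintype.card F ^ 28 + finrank ℂ (Fix Y ρ [239]) ≤ finrank ℂ V := by
  obtain ⟨hab, hS, hlow, -⟩ := center_ok
  have hbig : ∀ c : F, c ≠ 0 → Fintype.card F ^ 28 ≤ dimTop Y ρ θ c := by
    intro c hc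
    obtain ⟨a, ha, ha1⟩ : ∃ a, a 28 = c ∧ 1 ≤ finrank ℂ (eig Y ρ P0 θ [] a) := by
      by_contra! h
      refine (dimTop_pos Y ρ θ hθ hnt hc).ne' (Finset.sum_eq_zero fun a ha => ?_)
      have := h a (Finset.mem_filter.1 ha).2
      omega
    have hP := closed_finrank Y ρ P0 θ [] hS 1
    obtain ⟨f, hf⟩ : ∃ f : (Fin low0.length → F) → (Fin 29 → F), f = fun u => multi (src P0 tb) low0 u a :=
      ⟨_, rfl⟩
    have hlead := fun u => multi_lead (src P0 tb) low0 hlow a (fun m hm => by simp at hm) u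
    have hinj : Function.Injective f := fun u u' e => by
      funext l
      rw [hf] at e
      obtain ⟨b, hb, hv⟩ := (hlead u).2.2 l
      obtain ⟨b', hb', hv'⟩ := (hlead u').2.2 l
      obtain rfl : b = b' := (Prod.ext_iff.1 (Option.some.inj (hb.symm.trans hb'))).2
      have := congrFun e (low0.get l).2
      beta_reduce at this
      rw [hv, hv'] at this
      exact mul_left_cancel₀ (sg_ne_zero b) (mul_right_cancel₀ (ha ▸ hc) (add_left_cancel this))
    calc Fintype.card F ^ 28 = ∑ x ∈ Finset.univ.image f, 1 := by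
          rw [← Finset.card_eq_sum_ones, Finset.card_image_of_injective _ hinj, Finset.card_univ, Fintype.card_fun,
            Fintype.card_fin, show low0.length = 28 from rfl]
      _ ≤ ∑ x ∈ Finset.univ.image f, finrank ℂ (eig Y ρ P0 θ [] x) := Finset.sum_le_sum fun x hx => by
          obtain ⟨u, -, rfl⟩ := Finset.mem_image.1 hx
          rw [hf]
          exact multi_closed (src P0 tb) hP low0 (fun p hp => List.mem_map_of_mem hp) u a ha1
      _ ≤ dimTop Y ρ θ c := Finset.sum_le_sum_of_subset fun x hx => by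
          obtain ⟨u, -, rfl⟩ := Finset.mem_image.1 hx
          refine Finset.mem_filter.2 ⟨Finset.mem_univ _, ?_⟩
          rw [hf]
          exact (hlead u).1.trans ha
  have htot : finrank ℂ V = ∑ c : F, dimTop Y ρ θ c := by
    rw [← finrank_top ℂ V, ← fix_nil Y ρ, ← sum_finrank_eig Y ρ P0 θ [] hθ hab]
    unfold dimTop
    exact (Finset.sum_fiberwise _ _ _).symm
  rw [htot, ← Finset.sum_erase_add _ _ (Finset.mem_univ (0 : F)), dimTop_fix Y ρ θ hθ]
  refine Nat.add_le_add_right ?_ _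
  rw [← Finset.card_univ (α := F), ← Finset.card_erase_of_mem (Finset.mem_univ (0 : F)), Finset.card_univ,
    ← smul_eq_mul]
  exact Finset.card_nsmul_le_sum _ _ _ fun c hc => hbig c (Finset.ne_of_mem_erase hc)

/-- A root element next to the highest one moves some vector fixed by the highest root group. -/
theorem side_nontrivial (hnt : ∃ r < 240, ∃ t, ρ (Y.x r t) ≠ 1) : ¬ Fix Y ρ [239] ≤ Fix Y ρ [203] := by
  intro hle
  obtain ⟨-, -, -, -, hk, ⟨e₁, h₁⟩, ⟨e₂, h₂⟩, hc, hc'⟩ := center_ok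
  have e := finrank_two Y ρ [] 206 203 239 33 (hk 206 (by simp)) (hk 203 (by simp)) (hk 239 (by simp))
    (hk 33 (by simp)) h₁ h₂ hc hc'
  have hfix : Fix Y ρ ([] ++ [203, 239]) = Fix Y ρ [239] := le_antisymm (Fix_anti Y ρ (by simp)) fun v hv r hr t => by
    simp only [List.nil_append, List.mem_cons, List.not_mem_nil, or_false] at hr
    rcases hr with rfl | rfl
    · exact hle hv _ (by simp) t
    · exact hv _ (by simp) t
  rw [hfix, show finrank ℂ (Fix Y ρ ([] : List ℕ)) = finrank ℂ V by rw [fix_nil, finrank_top]] at e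
  have e0 := dimTop_zero Y ρ θ hθ
  rw [dimTop_fix Y ρ θ hθ] at e0
  change _ = _ + _ * trTop Y ρ at e
  have hq1 : (Fintype.card F : ℂ) - 1 ≠ 0 := sub_ne_zero.2 (by
    exact_mod_cast (Fintype.one_lt_card : 1 < Fintype.card F).ne')
  have e1 : (Fintype.card F : ℂ) * (finrank ℂ (Fix Y ρ [239]) : ℂ) = (Fintype.card F : ℂ) * trTop Y ρ :=
    mul_left_cancel₀ hq1 (by linear_combination e - e0)
  have e2 : (finrank ℂ V : ℂ) = (finrank ℂ (Fix Y ρ [239]) : ℂ) := by
    linear_combination ((Fintype.card F : ℂ) - 1) * (mul_left_cancel₀ card_cast e1) - e0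
  exact (top_nontrivial Y ρ θ hθ hnt).ne (by exact_mod_cast e2.symm)

end Cfsg.Lib.Chev.SimpDeg.E8
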