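import Cfsg.Agent.Lib.Chev.SimplyDegree.E8Bound
import Cfsg.Agent.Lib.Chev.SimplyDegree.E8Arith
import Cfsg.Agent.Lib.Chev.FullAll
import Cfsg.Agent.Lib.Chev.OrderE8
import Cfsg.Agent.Lib.Char.Central

/-!
# The smallest degree of a representation of E8
-/

set_option autoImplicit false
set_option maxRecDepth 100000

namespace Cfsg.Lib.Chev.SimpDeg.E8

open Cfsg.Lie Module

variable {F : Type*} [Field F] [Fintype F]

theorem card_dvd_ordE8 : Nat.card ↥(chevE8.group F) ∣ ordE8 (Fintype.card F) := by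
  have h := order_formula (F := F) certE8 fullCertE8 chkWeylE8 torusCertE8 (polyE8 Nat.card_pos)
  refine ⟨∏ k, (Nat.card F - 1).gcd ((![1, 1, 1, 1, 1, 1, 1, 1] : Fin 8 → ℕ) k), ?_⟩
  rw [mul_comm]
  refine Eq.trans ?_ h.symm
  rw [ordE8, show chevE8.nroots / 2 = 120 from rfl, Nat.card_eq_fintype_card]

/-- The root elements of E8 as a system on the packed table. -/
noncomputable def sysE8 : Sys ↥(chevE8.group F) F tb :=
  tb_eq ▸ sysOf certE8 fullCertE8.comm

theorem Sys.cast_x {G : Type*} [Group G] {tr tr' : ℕ → ℕ → Tr} (e : tr = tr') (Y : Sys G F tr) (r : ℕ) (t : F) :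
    (e ▸ Y : Sys G F tr').x r t = Y.x r t := by
  subst e
  rfl

theorem sysE8_x (r : ℕ) (t : F) : (sysE8 (F := F)).x r t = (sysOf certE8 fullCertE8.comm).x r t :=
  Sys.cast_x tb_eq _ r t

theorem nontrivial_root {k : ℕ} (ρ : Representation ℂ ↥(chevE8.group F) (Fin k → ℂ)) (hρ : ρ.IsIrreducible)
    (hk : 2 ≤ k) : ∃ r < 240, ∃ t, ρ ((sysE8 (F := F)).x r t) ≠ 1 := by
  by_contra! hall
  have htriv : ∀ g, ρ g = 1 := by
    rintro ⟨g, hg⟩
    induction hg using Subgroup.closure_induction with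
    | mem g hg =>
      obtain ⟨r, t, e⟩ := hg
      have hgr : g = xg certE8 r.1 t := Units.ext (by rw [e, coe_xg, ChevalleyDatum.x, dif_pos r.2])
      subst hgr
      have h := hall r.1 r.2 t
      rw [sysE8_x] at h
      exact h
    | one => exact map_one ρ
    | mul a b ha hb iha ihb => exact (map_mul ρ ⟨a, ha⟩ ⟨b, hb⟩).trans (by rw [iha, ihb, mul_one])
    | inv a ha ih =>
      have h := (map_mul ρ ⟨a, ha⟩⁻¹ ⟨a, ha⟩).symm
      rw [inv_mul_cancel, map_one, ih, mul_one] at h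
      exact h
  haveI := hρ
  obtain ⟨v, hv⟩ : ∃ v : Fin k → ℂ, v ≠ 0 := by
    haveI : Nonempty (Fin k) := ⟨⟨0, by omega⟩⟩
    exact exists_ne 0
  let W : Subrepresentation ρ := ⟨ℂ ∙ v, fun g w hw => by rw [htriv]; exact hw⟩
  rcases IsSimpleOrder.eq_bot_or_eq_top W with h0 | h0
  · exact hv (Submodule.span_singleton_eq_bot.mp (congrArg Subrepresentation.toSubmodule h0))
  · have h1 : (ℂ ∙ v) = ⊤ := congrArg Subrepresentation.toSubmodule h0
    have h2 := finrank_span_singleton (K := ℂ) hv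
    rw [h1, finrank_top, Module.finrank_fin_fun] at h2
    omega

/-- The smallest degree. -/
theorem degree_le (k : ℕ) (ρ : Representation ℂ ↥(chevE8.group F) (Fin k → ℂ)) (hρ : ρ.IsIrreducible)
    (hk : 2 ≤ k) : target (Fintype.card F) ≤ k := by
  classical
  by_contra! hlt
  obtain ⟨θ, hθ⟩ := Fintype.exists_ne_of_one_lt_card
    (show 1 < Fintype.card (AddChar F ℂ) by rw [AddChar.card_eq]; exact Fintype.one_lt_card) (1 : AddChar F ℂ)
  have hnt := nontrivial_root ρ hρ hk
  obtain ⟨σ, hσ⟩ : ∃ σ : ↥(chevE8.group F) →* Module.End ℂ (Fin k → ℂ), ∀ g, σ g = ρ g := ⟨ρ, fun _ => rfl⟩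
  have hnt' : ∃ r < 240, ∃ t, σ ((sysE8 (F := F)).x r t) ≠ 1 := by simpa only [hσ] using hnt
  have hV : finrank ℂ (Fin k → ℂ) = k := Module.finrank_fin_fun ℂ
  have hnear := near_target sysE8 σ θ hθ hnt' (by rw [hV]; exact hlt)
  rw [hV] at hnear
  haveI := hρ
  letI : Fintype ↥(chevE8.group F) := Fintype.ofFinite _
  have hχ := Cfsg.Lib.Char.isIrrCharacter_character ρ
  have hd : k ∣ Nat.card ↥(chevE8.group F) :=
    Cfsg.Lib.Char.degree_dvd_card hχ (by rw [Representation.char_one, Module.finrank_fin_fun])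
  refine ordE8_not_dvd (FiniteField.isPrimePow_card F) (j := target (Fintype.card F) - k) (by omega) (by omega) ?_
  have e : target (Fintype.card F) - (target (Fintype.card F) - k) = k := by omega
  rw [target] at e ⊢
  rw [e]
  exact hd.trans card_dvd_ordE8

end Cfsg.Lib.Chev.SimpDeg.E8
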