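import Cfsg.Agent.Lib.Chev.SimplyDegree.Act

/-!
# Large orbits when one coordinate left after clearing has to be kicked first
-/

set_option autoImplicit false
set_option linter.unusedSectionVars false

namespace Cfsg.Lib.Chev.SimpDeg

variable {n : ℕ} {F : Type*} [Field F] (T : Src n)

/-- The coordinates left after clearing, apart from one. -/
def Gen.restBut (D : Gen n) (bot : Fin n) : Fin n → Bool := fun m => D.rest m && decide (m ≠ bot)

/-- The checks on the data with an element moving the excluded coordinate. -/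
def Gen.okKick (D : Gen n) (S : List ℕ) (bot : Fin n) (kick : ℕ) : Bool :=
  climbOK T S (fun _ => true) D.top && leadOK T (fun _ => false) D.top D.low &&
    climbOK T D.five (D.restBut bot) D.mid && leadOK T D.zeros D.mid D.side &&
    (decide ((∀ p ∈ D.low, p.1 ∈ S) ∧ (∀ p ∈ D.side, p.1 ∈ D.five) ∧ D.restBut bot D.mid = true ∧
      (∀ p ∈ D.side, p.2 ≠ D.mid) ∧
      (∀ s ∈ D.five, s ∈ S ∧ keeps T D.zeros s = true ∧ ∀ r ∈ T s D.top, D.zeros r.1 = true)) &&
    decide (kick ∈ S ∧ (∃ m, D.restBut bot m = true ∧ (T kick m).map Prod.fst = some bot) ∧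
      ∀ m, (D.zeros m = true ∨ m = D.top) → ∀ r ∈ T kick m, r.1 ≠ D.top ∧ r.1 ≠ bot))

theorem gen_top_kick [Finite F] {S : List ℕ} {P : (Fin n → F) → Prop} (hP : Closed T S P) (D : Gen n)
    {bot : Fin n} {kick : ℕ} (hD : D.okKick T S bot kick = true) {a : Fin n → F} (ha : P a) (htop : a D.top ≠ 0) :
    (P (Pi.single D.top (a D.top)) ∧ ∃ u, a = multi T D.low u (Pi.single D.top (a D.top))) ∨
      Big P (D.low.length + D.side.length) := by
  classical
  simp only [Gen.okKick, Bool.and_eq_true, decide_eq_true_eq] at hD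
  obtain ⟨⟨⟨⟨-, hlow⟩, hfive⟩, hside⟩, ⟨hlS, hsF, hmid, hsmid, hF⟩, hkS, ⟨mk, hmk, hsk⟩, hkz⟩ := hD
  have hl := hlow
  simp only [leadOK, Bool.and_eq_true, decide_eq_true_eq] at hl
  obtain ⟨hl, hlnd⟩ := hl
  have hzf : ∀ (v : Fin n → F) m, (fun _ => false : Fin n → Bool) m = true → v m = 0 := fun v m hm => by simp at hm
  have hsrc : ∀ l : Fin D.low.length, ∃ b, T (D.low.get l).1 (D.low.get l).2 = some (D.top, b) := fun l => by
    obtain ⟨⟨i, b⟩, hb, hi⟩ := Option.map_eq_some_iff.1 (hl _ (D.low.get_mem l)).2.2.1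
    exact ⟨b, hi ▸ hb⟩
  choose bl hbl using hsrc
  obtain ⟨u, hu⟩ : ∃ u : Fin D.low.length → F,
      u = fun l => a (D.low.get l).2 / (sg F (bl l) * a D.top) := ⟨_, rfl⟩
  obtain ⟨b, hb, eb⟩ := exists_preimage T hP D.low hlS (fun p hp => (hl p hp).2.1) u ha
  obtain ⟨e1, e2, e3⟩ := multi_lead T D.low hlow b (hzf b) u
  rw [eb] at e1 e2 e3
  have hbz : ∀ m, D.zeros m = true → b m = 0 := fun m hm => by
    obtain ⟨p, hp, rfl⟩ := List.mem_map.1 (of_decide_eq_true hm)
    obtain ⟨l, rfl⟩ := List.get_of_mem hp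
    obtain ⟨b', hb', hv⟩ := e3 l
    obtain rfl : b' = bl l := (Prod.ext_iff.1 (Option.some.inj (hb'.symm.trans (hbl l)))).2
    have hu' : sg F (bl l) * u l * a D.top = a (D.low.get l).2 := by
      rw [hu]
      field_simp [sg_ne_zero]
    rw [← e1, hu'] at hv
    exact add_eq_right.1 hv.symm
  by_cases hr : ∀ m, D.rest m = true → b m = 0
  · left
    have hbs : b = Pi.single D.top (a D.top) := by
      funext m
      rcases eq_or_ne m D.top with rfl | hm
      · rw [Pi.single_eq_same, e1]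
      · rw [Pi.single_eq_of_ne (M := fun _ => F) hm]
        by_cases hz : D.zeros m = true
        · exact hbz m hz
        · exact hr m (by simp [Gen.rest, hz, hm])
    exact ⟨hbs ▸ hb, u, by rw [← hbs, eb]⟩
  right
  push Not at hr
  obtain ⟨m₀, hm₀, hne⟩ := hr
  obtain ⟨c, hc⟩ : ∃ c, c = a D.top := ⟨_, rfl⟩
  have hQ : Closed T D.five (fun v => P v ∧ (∀ m, D.zeros m = true → v m = 0) ∧ v D.top = c) :=
    fun s hs x v ⟨h1, h2, h3⟩ => ⟨hP s (hF s hs).1 x v h1, fun m hm => tau_keeps T (hF s hs).2.1 h2 hm,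
      by rw [tau_zero_src T fun j b' hj => h2 j ((hF s hs).2.2 (j, b') hj), h3]⟩
  obtain ⟨b₀, hb₀P, hb₀z, hb₀t, m₁, hm₁, hne₁⟩ : ∃ b₀, P b₀ ∧ (∀ m, D.zeros m = true → b₀ m = 0) ∧ b₀ D.top = c ∧
      ∃ m, D.restBut bot m = true ∧ b₀ m ≠ 0 := by
    by_cases hY : ∃ m, D.restBut bot m = true ∧ b m ≠ 0
    · exact ⟨b, hb, hbz, by rw [hc, e1], hY⟩
    push Not at hY
    have hm₀b : m₀ = bot := by
      by_contra h
      exact hne (hY m₀ (by simp [Gen.restBut, hm₀, h]))
    have hsupp : ∀ j, j ≠ D.top → j ≠ bot → b j = 0 := fun j h1 h2 => by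
      by_cases hz : D.zeros j = true
      · exact hbz j hz
      · exact hY j (by simp [Gen.restBut, Gen.rest, hz, h1, h2])
    have hkeep : ∀ m, D.zeros m = true ∨ m = D.top → tau T kick 1 b m = b m := fun m hm =>
      tau_zero_src T fun j b' hj => hsupp j (hkz m hm (j, b') hj).1 (hkz m hm (j, b') hj).2
    refine ⟨tau T kick 1 b, hP kick hkS 1 b hb, fun m hm => (hkeep m (Or.inl hm)).trans (hbz m hm),
      (hkeep _ (Or.inr rfl)).trans (by rw [hc, e1]), mk, hmk, ?_⟩
    obtain ⟨⟨j, b'⟩, hb', hj⟩ := Option.map_eq_some_iff.1 hsk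
    obtain rfl : j = bot := hj
    rw [tau_some T hb', hY mk hmk, zero_add, mul_one, ← hm₀b]
    exact mul_ne_zero (sg_ne_zero b') hne
  obtain ⟨b', ⟨hb'P, hb'z, hb't⟩, hb'm⟩ := climb T hQ hfive (a := b₀) ⟨hb₀P, hb₀z, hb₀t⟩ hm₁ hne₁
  refine ⟨fun x => multi T D.low (fun l => x (Fin.castAdd _ l))
    (multi T D.side (fun l => x (Fin.natAdd _ l)) b'), fun x y e => ?_, fun x => ?_⟩
  · obtain ⟨w, hw⟩ : ∃ w, w = fun x : Fin (D.low.length + D.side.length) → F =>
        multi T D.side (fun l => x (Fin.natAdd _ l)) b' := ⟨_, rfl⟩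
    have hwQ : ∀ x, (∀ m, D.zeros m = true → w x m = 0) ∧ w x D.top = c := fun x => by
      rw [hw]
      exact (multi_closed T hQ D.side hsF _ _ ⟨hb'P, hb'z, hb't⟩).2
    replace e : multi T D.low (fun l => x (Fin.castAdd D.side.length l)) (w x) =
        multi T D.low (fun l => y (Fin.castAdd D.side.length l)) (w y) := by rw [hw]; exact e
    have hu' : (fun l => x (Fin.castAdd D.side.length l)) = fun l => y (Fin.castAdd D.side.length l) := by
      funext l
      obtain ⟨b1, hb1, hv1⟩ := (multi_lead T D.low hlow (w x) (hzf _) fun l => x (Fin.castAdd _ l)).2.2 l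
      obtain ⟨b2, hb2, hv2⟩ := (multi_lead T D.low hlow (w y) (hzf _) fun l => y (Fin.castAdd _ l)).2.2 l
      obtain rfl : b1 = b2 := (Prod.ext_iff.1 (Option.some.inj (hb1.symm.trans hb2))).2
      have hz : D.zeros (D.low.get l).2 = true := decide_eq_true (List.mem_map_of_mem (D.low.get_mem l))
      rw [e, hv2, (hwQ x).2, (hwQ y).2, (hwQ x).1 _ hz, (hwQ y).1 _ hz, zero_add, zero_add] at hv1
      exact (mul_left_cancel₀ (sg_ne_zero b1) (mul_right_cancel₀ (hc ▸ htop) hv1)).symm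
    rw [hu'] at e
    have e' := multi_injective T D.low (fun p hp => (hl p hp).2.1) _ e
    rw [hw] at e'
    funext k
    refine Fin.addCases (fun l => congrFun hu' l) (fun l => ?_) k
    obtain ⟨b1, hb1, hv1⟩ := (multi_lead T D.side hside b' hb'z fun l => x (Fin.natAdd _ l)).2.2 l
    obtain ⟨b2, hb2, hv2⟩ := (multi_lead T D.side hside b' hb'z fun l => y (Fin.natAdd _ l)).2.2 l
    obtain rfl : b1 = b2 := (Prod.ext_iff.1 (Option.some.inj (hb1.symm.trans hb2))).2
    beta_reduce at e'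
    rw [congrFun e' _, hv2] at hv1
    exact (mul_left_cancel₀ (sg_ne_zero b1) (mul_right_cancel₀ hb'm (add_left_cancel hv1))).symm
  · have hS : ∀ p ∈ D.side, p.1 ∈ D.five := hsF
    obtain ⟨h1, -, h3⟩ := multi_closed T hQ D.side hS (fun l => x (Fin.natAdd _ l)) b' ⟨hb'P, hb'z, hb't⟩
    refine ⟨multi_closed T hP D.low hlS _ _ h1, fun e => htop ?_⟩
    have := congrFun e D.top
    beta_reduce at this
    rwa [(multi_lead T D.low hlow _ (hzf _) _).1, h3, hc] at this

theorem gen_dichotomy_kick [Finite F] {S : List ℕ} {P : (Fin n → F) → Prop} (hP : Closed T S P) (D : Gen n)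
    {bot : Fin n} {kick : ℕ} (hD : D.okKick T S bot kick = true) {a : Fin n → F} (ha : P a) (hne : a ≠ 0) :
    (∃ c, c ≠ 0 ∧ P (Pi.single D.top c)) ∨ Big P (D.low.length + D.side.length) := by
  obtain ⟨i, hi⟩ := Function.ne_iff.1 hne
  have hc : climbOK T S (fun _ => true) D.top = true := by
    simp only [Gen.okKick, Bool.and_eq_true] at hD
    exact hD.1.1.1.1
  obtain ⟨b, hb, hbt⟩ := climb T hP hc ha (rfl : (fun _ => true : Fin n → Bool) i = true) hi
  exact (gen_top_kick T hP D hD hb hbt).imp (fun h => ⟨_, hbt, h.1⟩) id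

end Cfsg.Lib.Chev.SimpDeg
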