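import Cfsg.Agent.Lib.Chev.SimplyDegree.Sys

/-!
# The two radicals of a pair of roots

The three root subgroups of a rank two system consist of conjugate elements, so the two abelian
radicals have fixed spaces of the same dimension.
-/

set_option autoImplicit false
set_option linter.unusedSectionVars false

namespace Cfsg.Lib.Chev.SimpDeg

open Cfsg.Lib.Linear.MinDegree Module

/-- The checks on a pair of roots with sum `c`. -/
def pairOK (tr : ℕ → ℕ → Tr) (R : List ℕ) (a b c na nb : ℕ) : Bool :=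
  keepsFix tr R a && keepsFix tr R b && keepsFix tr R c && keepsFix tr R na && keepsFix tr R nb &&
    decide (∃ e : Bool, tr a b = .to c e) && decide (∃ e : Bool, tr b a = .to c e) &&
    decide (∃ e : Bool, tr na c = .to b e) && decide (∃ e : Bool, tr nb c = .to a e) &&
    decide (tr c b = .comm) && decide (tr c a = .comm) && decide (tr b c = .comm) && decide (tr a c = .comm)

variable {G F : Type*} [Group G] [Field F] [Fintype F] {tr : ℕ → ℕ → Tr} (Y : Sys G F tr)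
variable {V : Type*} [AddCommGroup V] [Module ℂ V] [FiniteDimensional ℂ V] (ρ : G →* Module.End ℂ V)

theorem trace_two (R : List ℕ) (a b c na : ℕ) (ha : keepsFix tr R a = true) (hb : keepsFix tr R b = true)
    (hc : keepsFix tr R c = true) (hna : keepsFix tr R na = true) {e₁ e₂ : Bool} (h₁ : tr a b = .to c e₁)
    (h₂ : tr na c = .to b e₂) (h : tr c b = .comm) (t v : F) (hne : ¬(t = 0 ∧ v = 0)) :
    LinearMap.trace ℂ _ (op Y ρ hb t * op Y ρ hc v) = LinearMap.trace ℂ _ (op Y ρ hc (1 : F)) := by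
  have hcomm : ∀ t v, op Y ρ hb t * op Y ρ hc v = op Y ρ hc v * op Y ρ hb t := fun t v =>
    LinearMap.ext fun w => Subtype.ext (by
      simp only [Module.End.mul_apply, op_coe]
      rw [← Module.End.mul_apply, ← map_mul, ← Module.End.mul_apply, ← map_mul, Y.swap_comm h])
  have k₁ : ∀ t v, t ≠ 0 → LinearMap.trace ℂ _ (op Y ρ hb t * op Y ρ hc v) = LinearMap.trace ℂ _ (op Y ρ hb t) :=
    fun t v ht => by
      have := trace_op_conj Y ρ ha hb hc h₁ t (v / (sg F e₁ * t))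
      rwa [mul_div_cancel₀ _ (mul_ne_zero (sg_ne_zero e₁) ht)] at this
  have k₂ : ∀ t v, v ≠ 0 → LinearMap.trace ℂ _ (op Y ρ hb t * op Y ρ hc v) = LinearMap.trace ℂ _ (op Y ρ hc v) :=
    fun t v hv => by
      have := trace_op_conj Y ρ hna hc hb h₂ v (t / (sg F e₂ * v))
      rwa [mul_div_cancel₀ _ (mul_ne_zero (sg_ne_zero e₂) hv), ← hcomm] at this
  have k₃ : ∀ t v, t ≠ 0 → v ≠ 0 → LinearMap.trace ℂ _ (op Y ρ hb t) = LinearMap.trace ℂ _ (op Y ρ hc v) :=
    fun t v ht hv => (k₁ t v ht).symm.trans (k₂ t v hv)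
  rcases eq_or_ne t 0 with rfl | ht
  · have hv : v ≠ 0 := fun e => hne ⟨rfl, e⟩
    rw [k₂ 0 v hv, ← k₃ 1 v one_ne_zero hv, k₃ 1 1 one_ne_zero one_ne_zero]
  · rw [k₁ t v ht, k₃ t 1 ht one_ne_zero]

theorem finrank_two (R : List ℕ) (a b c na : ℕ) (ha : keepsFix tr R a = true) (hb : keepsFix tr R b = true)
    (hc : keepsFix tr R c = true) (hna : keepsFix tr R na = true) {e₁ e₂ : Bool} (h₁ : tr a b = .to c e₁)
    (h₂ : tr na c = .to b e₂) (h : tr c b = .comm) (h' : tr b c = .comm) :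
    (Fintype.card F : ℂ) ^ 2 * (finrank ℂ (Fix Y ρ (R ++ [b, c])) : ℂ) =
      (finrank ℂ (Fix Y ρ R) : ℂ) + ((Fintype.card F : ℂ) ^ 2 - 1) * LinearMap.trace ℂ _ (op Y ρ hc (1 : F)) := by
  classical
  have hab : abelianOn ![b, c] tr R = true := by
    simp only [abelianOn, decide_eq_true_eq, Fin.forall_fin_two]
    simp [hb, hc, h, h', Tr.into]
  have e : R ++ [b, c] = R ++ List.ofFn ![b, c] := by simp
  rw [e, ← eig_zero Y ρ ![b, c] (1 : AddChar F ℂ) R, ← trace_prj Y ρ ![b, c] 1 R hab, prj, trace_proj]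
  have hw : ∀ w : Fin 2 → F, LinearMap.trace ℂ _ (lvl Y ρ ![b, c] R hab (Multiplicative.ofAdd w)) =
      if w = 0 then (finrank ℂ (Fix Y ρ R) : ℂ) else LinearMap.trace ℂ _ (op Y ρ hc (1 : F)) := by
    intro w
    by_cases hz : w = 0
    · rw [hz, ofAdd_zero, map_one, LinearMap.trace_one, if_pos rfl]
    · rw [if_neg hz, ← Finset.univ_sum_single w, Fin.sum_univ_two, ofAdd_add, map_mul, lvl_single, lvl_single]
      exact trace_two Y ρ R a b c na ha hb hc hna h₁ h₂ h (w 0) (w 1)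
        fun ⟨h0, h1⟩ => hz (funext (Fin.forall_fin_two.2 ⟨h0, h1⟩))
  have hchi : ∀ w : Fin 2 → F, chi (1 : AddChar F ℂ) 0 (-w) = 1 := fun w => by rw [chi_apply, AddChar.one_apply]
  simp only [hchi, one_mul, hw]
  rw [Finset.sum_ite, Finset.filter_eq' Finset.univ (0 : Fin 2 → F), if_pos (Finset.mem_univ _), Finset.sum_singleton,
    Finset.filter_ne' Finset.univ (0 : Fin 2 → F), Finset.sum_const, Finset.card_erase_of_mem (Finset.mem_univ _),
    Finset.card_univ, Fintype.card_fun, Fintype.card_fin, nsmul_eq_mul,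
    Nat.cast_sub (Nat.one_le_pow _ _ Fintype.card_pos), Nat.cast_pow, Nat.cast_one, ← mul_assoc,
    mul_inv_cancel₀ (pow_ne_zero _ (Nat.cast_ne_zero.2 Fintype.card_ne_zero)), one_mul]

/-- The two radicals of a pair have fixed spaces of the same dimension. -/
theorem finrank_pair (R : List ℕ) {a b c na nb : ℕ} (h : pairOK tr R a b c na nb = true) :
    finrank ℂ (Fix Y ρ (R ++ [b, c])) = finrank ℂ (Fix Y ρ (R ++ [a, c])) := by
  simp only [pairOK, Bool.and_eq_true, decide_eq_true_eq] at h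
  obtain ⟨⟨⟨⟨⟨⟨⟨⟨⟨⟨⟨⟨ha, hb⟩, hc⟩, hna⟩, hnb⟩, ⟨e₁, h₁⟩⟩, ⟨e₂, h₂⟩⟩, ⟨e₃, h₃⟩⟩, ⟨e₄, h₄⟩⟩, hcb⟩, hca⟩, hbc⟩, hac⟩ := h
  have e := finrank_two Y ρ R a b c na ha hb hc hna h₁ h₃ hcb hbc
  rw [← finrank_two Y ρ R b a c nb hb ha hc hnb h₂ h₄ hca hac] at e
  exact_mod_cast mul_left_cancel₀ (pow_ne_zero 2 (Nat.cast_ne_zero.2 Fintype.card_ne_zero)) e

end Cfsg.Lib.Chev.SimpDeg
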