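import Cfsg.Agent.Lib.Chev.SimplyDegree.Sys
import Cfsg.Agent.Lib.Chev.SimplyDegree.GenKick
import Cfsg.Agent.Lib.Chev.Sparse

/-!
# The sources of a level read off a packed inverse table

The position of a root in a level is searched once, for all roots below 256, and then looked up.
-/

set_option autoImplicit false

namespace Cfsg.Lib.Chev.SimpDeg

open Cfsg.Lib.Chev

variable {n : ℕ} (P : Fin n → ℕ) (tr : ℕ → ℕ → Tr) (I : ℕ)

/-- The position of a root, looked up. -/
def posFast (n : ℕ) (I : ℕ) (k : ℕ) : Option (Fin n) :=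
  if h : 0 < slot I 8 k ∧ slot I 8 k - 1 < n then some ⟨slot I 8 k - 1, h.2⟩ else none

/-- The sources of a level, looked up. -/
def srcFast : Src n := fun s i =>
  if P i = s then none else
    match tr s (P i) with
    | .to k b => (posFast n I k).map fun j => (j, !b)
    | _ => none

/-- The inverse table is right. -/
def invOK : Bool :=
  decide (∀ i, slot I 8 (P i) = i + 1) && decide (I < 2 ^ 2048) &&
    (List.range' 0 256).all fun k => Nat.beq (slot I 8 k) 0 ||
      (List.finRange n).any fun i => Nat.beq (slot I 8 k) (i + 1) && Nat.beq (P i) k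

theorem posIn_eq (h : invOK P I = true) (k : ℕ) : posIn P k = posFast n I k := by
  simp only [invOK, Bool.and_eq_true, decide_eq_true_eq, List.all_eq_true, Bool.or_eq_true,
    List.any_eq_true, List.mem_finRange, true_and, Nat.beq_eq] at h
  obtain ⟨⟨h1, h2⟩, h3⟩ := h
  rcases hp : posIn P k with _ | i
  · rw [posFast, dif_neg]
    rintro ⟨hpos, hlt⟩
    have hk : k < 256 := by
      by_contra hge
      have : slot I 8 k = 0 := by
        rw [slot, Nat.shiftRight_eq_div_pow, Nat.div_eq_of_lt, Nat.zero_mod]
        exact h2.trans_le (Nat.pow_le_pow_right two_pos (by omega))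
      omega
    rcases h3 k (List.mem_range'_1.2 ⟨Nat.zero_le _, by omega⟩) with h0 | ⟨i, -, hi⟩
    · omega
    · have := List.find?_eq_none.1 hp i (List.mem_finRange i)
      simp [hi] at this
  · have hk := posIn_some P hp
    subst hk
    rw [posFast, dif_pos ⟨by rw [h1]; omega, by rw [h1]; exact i.2⟩]
    congr 1
    exact Fin.ext (by simp [h1])

theorem src_eq (h : invOK P I = true) : src P tr = srcFast P tr I := by
  funext s i
  simp only [src, srcFast, posIn_eq P I h]
  split_ifs
  · rfl
  · rcases tr s (P i) with _ | _ | ⟨k, b⟩ <;> rfl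

/-- A condition on the source of a coordinate, if there is one. -/
def onSrc {n : ℕ} (o : Option (Fin n × Bool)) (f : Fin n → Bool) : Bool :=
  match o with
  | none => true
  | some r => f r.1

theorem onSrc_iff {o : Option (Fin n × Bool)} {f : Fin n → Bool} :
    onSrc o f = true ↔ ∀ r ∈ o, f r.1 = true := by
  cases o <;> simp [onSrc]

/-- The checks of `keeps`, evaluated directly. -/
def keepsFast (T : Src n) (Z : Fin n → Bool) (s : ℕ) : Bool :=
  (List.finRange n).all fun m => !Z m || onSrc (T s m) Z

theorem keeps_of_fast {T : Src n} {Z : Fin n → Bool} {s : ℕ} (h : keepsFast T Z s = true) :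
    keeps T Z s = true := by
  simp only [keepsFast, List.all_eq_true, List.mem_finRange, forall_const, Bool.or_eq_true, onSrc_iff,
    Bool.not_eq_true'] at h
  simp only [keeps, decide_eq_true_eq]
  exact fun m hm => (h m).resolve_left (by simp [hm])

/-- The checks of `leadOK`, evaluated directly. -/
def leadFast (T : Src n) (Z : Fin n → Bool) (i : Fin n) (L : List (ℕ × Fin n)) : Bool :=
  (L.all fun p => keepsFast T Z p.1 && ((List.finRange n).all fun m => onSrc (T p.1 m) fun j => decide (m < j)) &&
    (match T p.1 p.2 with | none => false | some r => decide (r.1 = i)) && onSrc (T p.1 i) Z &&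
    L.all fun p' => decide (p' = p) || onSrc (T p'.1 p.2) Z) && decide ((L.map Prod.snd).Nodup)

theorem lead_of_fast {T : Src n} {Z : Fin n → Bool} {i : Fin n} {L : List (ℕ × Fin n)}
    (h : leadFast T Z i L = true) : leadOK T Z i L = true := by
  simp only [leadFast, Bool.and_eq_true, List.all_eq_true, List.mem_finRange, forall_const, onSrc_iff,
    Bool.or_eq_true, decide_eq_true_eq] at h
  simp only [leadOK, Bool.and_eq_true, decide_eq_true_eq]
  refine ⟨fun p hp => ?_, h.2⟩
  obtain ⟨⟨⟨⟨h1, h2⟩, h3⟩, h4⟩, h5⟩ := h.1 p hp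
  refine ⟨keeps_of_fast h1, by simp only [lowering, decide_eq_true_eq]; exact h2, ?_, h4,
    fun p' hp' hne => (h5 p' hp').resolve_left hne⟩
  rcases hT : T p.1 p.2 with _ | r
  · rw [hT] at h3; cases h3
  · rw [hT] at h3; simpa using h3

/-- The checks of a level, evaluated directly. -/
def levelFast (Q : List ℕ) (S : List ℕ) (edges : List (Fin n × Fin n × ℕ × ℕ))
    (Ls : Fin n → List (ℕ × Fin n)) (bot : Fin n) : Bool :=
  abelianOn P tr Q && S.all (actsOn P tr Q) && reachOK (srcFast P tr I) S edges [bot] &&
    ((List.finRange n).all fun i => leadFast (srcFast P tr I) (above i) i (Ls i) &&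
      (Ls i).all fun p => decide (p.1 ∈ S))

theorem level_of_fast (hI : invOK P I = true) {Q : List ℕ} {S : List ℕ} {edges : List (Fin n × Fin n × ℕ × ℕ)}
    {Ls : Fin n → List (ℕ × Fin n)} {bot : Fin n} (h : levelFast P tr I Q S edges Ls bot = true) :
    levelOK P tr Q S edges Ls bot = true := by
  simp only [levelFast, Bool.and_eq_true, List.all_eq_true, List.mem_finRange, forall_const,
    decide_eq_true_eq] at h
  simp only [levelOK, src_eq P tr I hI, Bool.and_eq_true, decide_eq_true_eq, List.all_eq_true]
  exact ⟨h.1, fun i => ⟨lead_of_fast (h.2 i).1, (h.2 i).2⟩⟩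

/-- A climb given by witnesses. -/
def climbFast (T : Src n) (S : List ℕ) (Y : Fin n → Bool) (γ : Fin n) (W : List (Fin n × ℕ × Fin n)) : Bool :=
  (List.finRange n).all fun i => !Y i || decide (i = γ) || W.any fun w =>
    decide (w.1 = i) && decide (w.2.1 ∈ S) && decide (i < w.2.2) && Y w.2.2 &&
      (match T w.2.1 w.2.2 with | none => false | some r => decide (r.1 = i))

theorem climb_of_fast {T : Src n} {S : List ℕ} {Y : Fin n → Bool} {γ : Fin n} {W : List (Fin n × ℕ × Fin n)}
    (h : climbFast T S Y γ W = true) : climbOK T S Y γ = true := by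
  simp only [climbFast, List.all_eq_true, List.mem_finRange, forall_const, Bool.or_eq_true, Bool.and_eq_true,
    decide_eq_true_eq, Bool.not_eq_true', List.any_eq_true] at h
  simp only [climbOK, decide_eq_true_eq]
  intro i hY hne
  rcases h i with (h0 | h0) | ⟨w, -, ⟨⟨⟨-, hs⟩, hlt⟩, hj⟩, hT⟩
  · rw [hY] at h0; cases h0
  · exact absurd h0 hne
  · refine ⟨w.2.1, hs, w.2.2, hlt, hj, ?_⟩
    rcases hq : T w.2.1 w.2.2 with _ | r
    · rw [hq] at hT; cases hT
    · rw [hq] at hT; simpa using hT

/-- The checks on the data with a kick, evaluated directly. -/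
def kickFast (T : Src n) (D : Gen n) (S : List ℕ) (bot : Fin n) (kick : ℕ) (W W' : List (Fin n × ℕ × Fin n)) :
    Bool :=
  climbFast T S (fun _ => true) D.top W && leadFast T (fun _ => false) D.top D.low &&
    climbFast T D.five (D.restBut bot) D.mid W' && leadFast T D.zeros D.mid D.side &&
    (D.low.all (fun p => decide (p.1 ∈ S)) && D.side.all (fun p => decide (p.1 ∈ D.five) && decide (p.2 ≠ D.mid)) &&
      D.restBut bot D.mid &&
      D.five.all fun s => decide (s ∈ S) && keepsFast T D.zeros s && onSrc (T s D.top) D.zeros) &&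
    (decide (kick ∈ S) &&
      (List.finRange n).any (fun m => D.restBut bot m &&
        (match T kick m with | none => false | some r => decide (r.1 = bot))) &&
      (List.finRange n).all fun m => !(D.zeros m || decide (m = D.top)) ||
        onSrc (T kick m) fun j => decide (j ≠ D.top) && decide (j ≠ bot))

theorem okKick_of_fast {T : Src n} {D : Gen n} {S : List ℕ} {bot : Fin n} {kick : ℕ}
    {W W' : List (Fin n × ℕ × Fin n)} (h : kickFast T D S bot kick W W' = true) :
    D.okKick T S bot kick = true := by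
  simp only [kickFast, Bool.and_eq_true, List.all_eq_true, List.any_eq_true, List.mem_finRange, forall_const,
    true_and, decide_eq_true_eq, Bool.or_eq_true, Bool.not_eq_true', onSrc_iff] at h
  obtain ⟨⟨⟨⟨⟨h1, h2⟩, h3⟩, h4⟩, ⟨⟨h5, h6⟩, h7⟩, h8⟩, ⟨h9, m, hm, hkm⟩, h10⟩ := h
  simp only [Gen.okKick, Bool.and_eq_true, decide_eq_true_eq]
  refine ⟨⟨⟨⟨climb_of_fast h1, lead_of_fast h2⟩, climb_of_fast h3⟩, lead_of_fast h4⟩,
    ⟨h5, fun p hp => (h6 p hp).1, h7, fun p hp => (h6 p hp).2,
      fun s hs => ⟨(h8 s hs).1.1, keeps_of_fast (h8 s hs).1.2, (h8 s hs).2⟩⟩,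
    h9, ⟨m, hm, ?_⟩, fun x hx r hr => ?_⟩
  · rcases hq : T kick m with _ | r
    · rw [hq] at hkm; cases hkm
    · rw [hq] at hkm; simpa using hkm
  · refine ((h10 x).resolve_left fun e => ?_) r hr
    rcases hx with hx | hx <;> simp [hx] at e

end Cfsg.Lib.Chev.SimpDeg
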