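import Cfsg.Agent.Lib.Chev.SimplyDegree.Act
import Cfsg.Agent.Lib.Linear.MinDegree.Proj

/-!
# Representations of a group with simply laced root elements

The vectors fixed by a set of root elements, their decomposition under the characters of a set of
root elements that commute on them, and the comparison of the two radicals of a pair of roots.
-/

set_option autoImplicit false
set_option linter.unusedSectionVars false

namespace Cfsg.Lib.Chev.SimpDeg

open Cfsg.Lib.Linear.MinDegree Module

/-- The effect of one root element on another. -/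
inductive Tr
  | bad
  | comm
  | to (k : ℕ) (b : Bool)
  deriving DecidableEq

/-- Root elements obeying a table. -/
structure Sys (G F : Type*) [Group G] [Field F] (tr : ℕ → ℕ → Tr) where
  x : ℕ → F → G
  add : ∀ r s t, x r (s + t) = x r s * x r t
  comm : ∀ s r, tr s r = .comm → ∀ t u, x s u * x r t * (x s u)⁻¹ = x r t
  conj : ∀ s r k b, tr s r = .to k b → ∀ t u, x s u * x r t * (x s u)⁻¹ = x r t * x k (sg F b * t * u)

variable {G F : Type*} [Group G] [Field F] {tr : ℕ → ℕ → Tr} (Y : Sys G F tr)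

theorem Sys.zero (r : ℕ) : Y.x r 0 = 1 := by
  have := Y.add r 0 0
  rw [add_zero] at this
  exact mul_eq_left.1 this.symm

theorem Sys.inv (r : ℕ) (t : F) : (Y.x r t)⁻¹ = Y.x r (-t) := by
  rw [inv_eq_iff_mul_eq_one, ← Y.add, add_neg_cancel, Y.zero]

theorem Sys.comm_self (r : ℕ) (t u : F) : Y.x r u * Y.x r t = Y.x r t * Y.x r u := by
  rw [← Y.add, ← Y.add, add_comm]

/-- Moving a root element to the right. -/
theorem Sys.swap_comm {s r : ℕ} (h : tr s r = .comm) (t u : F) : Y.x r t * Y.x s u = Y.x s u * Y.x r t := by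
  have := Y.comm s r h t (-u)
  rw [Y.inv, neg_neg] at this
  conv_rhs => rw [← this]
  rw [← mul_assoc, ← mul_assoc, ← Y.add, add_neg_cancel, Y.zero, one_mul]

theorem Sys.swap_to {s r k : ℕ} {b : Bool} (h : tr s r = .to k b) (t u : F) :
    Y.x r t * Y.x s u = Y.x s u * (Y.x r t * Y.x k (sg F b * t * -u)) := by
  have := Y.conj s r k b h t (-u)
  rw [Y.inv, neg_neg] at this
  rw [← this, ← mul_assoc, ← mul_assoc, ← Y.add, add_neg_cancel, Y.zero, one_mul]

variable {V : Type*} [AddCommGroup V] [Module ℂ V] (ρ : G →* Module.End ℂ V)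

/-- The vectors fixed by a list of root elements. -/
def Fix (Q : List ℕ) : Submodule ℂ V where
  carrier := {v | ∀ r ∈ Q, ∀ t, ρ (Y.x r t) v = v}
  add_mem' ha hb r hr t := by rw [map_add, ha r hr t, hb r hr t]
  zero_mem' r _ t := map_zero _
  smul_mem' c v hv r hr t := by rw [map_smul, hv r hr t]

theorem Fix_anti {Q Q' : List ℕ} (h : ∀ r ∈ Q, r ∈ Q') : Fix Y ρ Q' ≤ Fix Y ρ Q :=
  fun _ hv r hr t => hv r (h r hr) t

theorem Fix_congr {Q Q' : List ℕ} (h : ∀ r, r ∈ Q ↔ r ∈ Q') : Fix Y ρ Q = Fix Y ρ Q' :=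
  le_antisymm (Fix_anti Y ρ fun r => (h r).2) (Fix_anti Y ρ fun r => (h r).1)

/-- The roots that a table entry may produce. -/
def Tr.into (good : ℕ → Bool) : Tr → Bool
  | .bad => false
  | .comm => true
  | .to k _ => good k

/-- A root element keeps the fixed vectors of a list. -/
def keepsFix (tr : ℕ → ℕ → Tr) (Q : List ℕ) (s : ℕ) : Bool :=
  Q.all fun r => r == s || (tr s r).into fun k => decide (k ∈ Q)

theorem fix_map {Q : List ℕ} {s : ℕ} (h : keepsFix tr Q s = true) (u : F) {v : V} (hv : v ∈ Fix Y ρ Q) :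
    ρ (Y.x s u) v ∈ Fix Y ρ Q := by
  intro r hr t
  simp only [keepsFix, List.all_eq_true, Bool.or_eq_true, beq_iff_eq] at h
  rw [← Module.End.mul_apply, ← map_mul]
  rcases h r hr with rfl | hk
  · rw [Y.comm_self, map_mul, Module.End.mul_apply, hv r hr t]
  · rcases htr : tr s r with _ | _ | ⟨k, b⟩ <;> rw [htr] at hk <;>
      simp only [Tr.into, decide_eq_true_eq, Bool.false_eq_true] at hk
    · rw [Y.swap_comm htr, map_mul, Module.End.mul_apply, hv r hr t]
    · rw [Y.swap_to htr, map_mul, map_mul, Module.End.mul_apply, Module.End.mul_apply, hv k hk, hv r hr t]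

/-- A root element on the fixed vectors. -/
noncomputable def op {Q : List ℕ} {s : ℕ} (h : keepsFix tr Q s = true) (u : F) : Module.End ℂ (Fix Y ρ Q) :=
  (ρ (Y.x s u)).restrict fun _ hv => fix_map Y ρ h u hv

@[simp] theorem op_coe {Q : List ℕ} {s : ℕ} (h : keepsFix tr Q s = true) (u : F) (v : Fix Y ρ Q) :
    (op Y ρ h u v : V) = ρ (Y.x s u) v := rfl

theorem op_add {Q : List ℕ} {s : ℕ} (h : keepsFix tr Q s = true) (u u' : F) :
    op Y ρ h (u + u') = op Y ρ h u * op Y ρ h u' :=
  LinearMap.ext fun v => Subtype.ext (by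
    rw [op_coe, Y.add, map_mul, Module.End.mul_apply]
    rfl)

theorem op_zero {Q : List ℕ} {s : ℕ} (h : keepsFix tr Q s = true) : op Y ρ h (0 : F) = 1 :=
  LinearMap.ext fun v => Subtype.ext (by rw [op_coe, Y.zero, map_one]; rfl)

/-- A conjugate has the same trace. -/
theorem trace_op_conj [FiniteDimensional ℂ V] {Q : List ℕ} {s r k : ℕ} (hs : keepsFix tr Q s = true)
    (hr : keepsFix tr Q r = true) (hk : keepsFix tr Q k = true) {b : Bool} (h : tr s r = .to k b) (t u : F) :
    LinearMap.trace ℂ _ (op Y ρ hr t * op Y ρ hk (sg F b * t * u)) = LinearMap.trace ℂ _ (op Y ρ hr t) := by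
  have e : op Y ρ hr t * op Y ρ hk (sg F b * t * u) = op Y ρ hs u * op Y ρ hr t * op Y ρ hs (-u) :=
    LinearMap.ext fun v => Subtype.ext (by
      simp only [Module.End.mul_apply, op_coe]
      rw [← Module.End.mul_apply, ← map_mul, ← Y.conj s r k b h t u, Y.inv]
      simp only [map_mul, Module.End.mul_apply])
  rw [e, LinearMap.trace_mul_comm, ← mul_assoc, ← op_add, neg_add_cancel, op_zero, one_mul]

section Level

variable {n : ℕ} (P : Fin n → ℕ)

/-- The coordinate of a root. -/
def posIn (k : ℕ) : Option (Fin n) := (List.finRange n).find? fun i => P i == k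

theorem posIn_some {k : ℕ} {i : Fin n} (h : posIn P k = some i) : P i = k := by
  have := List.find?_some h
  simpa using this

/-- The sources of a level. -/
def src (tr : ℕ → ℕ → Tr) : Src n := fun s i =>
  if P i = s then none else
    match tr s (P i) with
    | .to k b => (posIn P k).map fun j => (j, !b)
    | _ => none

/-- An element acts on the characters of a level. -/
def actsOn (tr : ℕ → ℕ → Tr) (Q : List ℕ) (s : ℕ) : Bool :=
  keepsFix tr Q s && decide (∀ i, P i = s ∨
    (tr s (P i)).into (fun k => decide (k ∈ Q) || (posIn P k).isSome) = true)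

/-- The roots of a level commute on the fixed vectors. -/
def abelianOn (tr : ℕ → ℕ → Tr) (Q : List ℕ) : Bool :=
  decide (∀ i, keepsFix tr Q (P i) = true ∧ ∀ j, i ≠ j →
    (tr (P i) (P j)).into (fun k => decide (k ∈ Q)) = true)

variable (θ : AddChar F ℂ) (Q : List ℕ)

/-- The vectors of a level with a given character. -/
def eig (a : Fin n → F) : Submodule ℂ V where
  carrier := {v | v ∈ Fix Y ρ Q ∧ ∀ i t, ρ (Y.x (P i) t) v = θ (a i * t) • v}
  add_mem' ha hb := ⟨add_mem ha.1 hb.1, fun i t => by rw [map_add, ha.2, hb.2, smul_add]⟩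
  zero_mem' := ⟨zero_mem _, fun i t => by rw [map_zero, smul_zero]⟩
  smul_mem' c v hv := ⟨Submodule.smul_mem _ c hv.1, fun i t => by rw [map_smul, hv.2, smul_comm]⟩

theorem eig_le (a : Fin n → F) : eig Y ρ P θ Q a ≤ Fix Y ρ Q := fun _ hv => hv.1

theorem eig_zero : eig Y ρ P θ Q 0 = Fix Y ρ (Q ++ List.ofFn P) := by
  ext v
  constructor
  · rintro ⟨h1, h2⟩ r hr t
    rcases List.mem_append.1 hr with h | h
    · exact h1 r h t
    · obtain ⟨i, rfl⟩ := List.mem_ofFn.1 h
      simpa using h2 i t
  · intro h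
    refine ⟨fun r hr => h r (List.mem_append_left _ hr), fun i t => ?_⟩
    rw [h (P i) (List.mem_append_right _ (List.mem_ofFn.2 ⟨i, rfl⟩)) t]
    simp

theorem eig_map {s : ℕ} (h : actsOn P tr Q s = true) (u : F) (a : Fin n → F) {v : V}
    (hv : v ∈ eig Y ρ P θ Q a) : ρ (Y.x s u) v ∈ eig Y ρ P θ Q (tau (src P tr) s u a) := by
  simp only [actsOn, Bool.and_eq_true, decide_eq_true_eq] at h
  refine ⟨fix_map Y ρ h.1 u hv.1, fun i t => ?_⟩
  rw [← Module.End.mul_apply, ← map_mul]
  rcases h.2 i with hs | hk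
  · have e : tau (src P tr) s u a i = a i := tau_none _ (by rw [src, if_pos hs])
    rw [e, ← hs, Y.comm_self, map_mul, Module.End.mul_apply, hv.2, map_smul]
  · rcases eq_or_ne (P i) s with hs | hs
    · rw [show tau (src P tr) s u a i = a i from tau_none _ (by rw [src, if_pos hs]), ← hs, Y.comm_self, map_mul,
        Module.End.mul_apply, hv.2, map_smul]
    rcases htr : tr s (P i) with _ | _ | ⟨k, b⟩ <;> rw [htr] at hk <;>
      simp only [Tr.into, decide_eq_true_eq, Bool.false_eq_true, Bool.or_eq_true] at hk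
    · have e : tau (src P tr) s u a i = a i := tau_none _ (by simp [src, hs, htr])
      rw [e, Y.swap_comm htr, map_mul, Module.End.mul_apply, hv.2, map_smul]
    · rw [Y.swap_to htr, map_mul, map_mul, Module.End.mul_apply, Module.End.mul_apply]
      rcases hp : posIn P k with _ | j
      · have hkQ : k ∈ Q := by simpa [hp] using hk
        have e : tau (src P tr) s u a i = a i := tau_none _ (by simp [src, hs, htr, hp])
        rw [e, hv.1 k hkQ, hv.2, map_smul]
      · rw [tau_some (src P tr) (by simp [src, hs, htr, hp] : src P tr s i = some (j, !b)), ← posIn_some P hp, hv.2 j,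
          map_smul, map_smul, hv.2 i, map_smul, smul_smul, ← AddChar.map_add_eq_mul, sg_not]
        congr 2
        ring

end Level

section Decomp

variable {n : ℕ} (P : Fin n → ℕ) (θ : AddChar F ℂ) (Q : List ℕ)

/-- A root of a level on the fixed vectors. -/
noncomputable def opHom (h : abelianOn P tr Q = true) (i : Fin n) :
    Multiplicative F →* Module.End ℂ (Fix Y ρ Q) where
  toFun t := op Y ρ (Q := Q) (s := P i) (by
    simp only [abelianOn, decide_eq_true_eq] at h
    exact (h i).1) t.toAdd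
  map_one' := op_zero Y ρ _
  map_mul' a b := op_add Y ρ _ _ _

@[simp] theorem opHom_coe (h : abelianOn P tr Q = true) (i : Fin n) (t : F) (v : Fix Y ρ Q) :
    (opHom Y ρ P Q h i (Multiplicative.ofAdd t) v : V) = ρ (Y.x (P i) t) v := rfl

theorem opHom_comm (h : abelianOn P tr Q = true) :
    Pairwise fun i j => ∀ a b, Commute (opHom Y ρ P Q h i a) (opHom Y ρ P Q h j b) := by
  intro i j hij a b
  obtain ⟨t, rfl⟩ := Multiplicative.ofAdd.surjective a
  obtain ⟨u, rfl⟩ := Multiplicative.ofAdd.surjective b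
  refine LinearMap.ext fun v => Subtype.ext ?_
  simp only [Module.End.mul_apply, opHom_coe]
  rw [← Module.End.mul_apply, ← map_mul, ← Module.End.mul_apply, ← map_mul]
  have hk := h
  simp only [abelianOn, decide_eq_true_eq] at hk
  have hk' := (hk j).2 i hij.symm
  rcases htr : tr (P j) (P i) with _ | _ | ⟨k, c⟩ <;> rw [htr] at hk' <;>
    simp only [Tr.into, decide_eq_true_eq, Bool.false_eq_true] at hk'
  · rw [Y.swap_comm htr]
  · rw [Y.swap_to htr, map_mul, map_mul, map_mul, Module.End.mul_apply, Module.End.mul_apply, v.2 k hk',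
      Module.End.mul_apply]

/-- A level on the fixed vectors. -/
noncomputable def lvl (h : abelianOn P tr Q = true) :
    Multiplicative (Fin n → F) →* Module.End ℂ (Fix Y ρ Q) :=
  (MonoidHom.noncommPiCoprod (opHom Y ρ P Q h) (opHom_comm Y ρ P Q h)).comp
    { toFun := fun w i => Multiplicative.ofAdd (w.toAdd i)
      map_one' := rfl
      map_mul' := fun _ _ => rfl }

theorem lvl_single (h : abelianOn P tr Q = true) (i : Fin n) (t : F) :
    lvl Y ρ P Q h (Multiplicative.ofAdd (Pi.single i t)) = opHom Y ρ P Q h i (Multiplicative.ofAdd t) := by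
  have e : (fun j => Multiplicative.ofAdd ((Pi.single i t : Fin n → F) j)) =
      (Pi.mulSingle i (Multiplicative.ofAdd t) : Fin n → Multiplicative F) := by
    funext j
    rcases eq_or_ne j i with rfl | hj
    · rw [Pi.single_eq_same, Pi.mulSingle_eq_same]
    · rw [Pi.single_eq_of_ne (M := fun _ => F) hj, Pi.mulSingle_eq_of_ne (M := fun _ => Multiplicative F) hj, ofAdd_zero]
  show MonoidHom.noncommPiCoprod (opHom Y ρ P Q h) (opHom_comm Y ρ P Q h)
    (fun j => Multiplicative.ofAdd ((Pi.single i t : Fin n → F) j)) = _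
  rw [e]
  exact MonoidHom.noncommPiCoprod_mulSingle (opHom Y ρ P Q h) i (Multiplicative.ofAdd t)

/-- The character with the given coordinates. -/
noncomputable def chi (a : Fin n → F) : AddChar (Fin n → F) ℂ :=
  θ.compAddMonoidHom
    { toFun := fun w => ∑ i, a i * w i
      map_zero' := by simp
      map_add' := fun v w => by simp [mul_add, Finset.sum_add_distrib] }

theorem chi_apply (a w : Fin n → F) : chi θ a w = θ (∑ i, a i * w i) := rfl

theorem chi_single (a : Fin n → F) (i : Fin n) (t : F) : chi θ a (Pi.single i t) = θ (a i * t) := by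
  rw [chi_apply, Finset.sum_eq_single i (fun j _ hj => by simp [Pi.single_eq_of_ne hj]) (by simp)]
  simp

variable [Fintype F]

theorem chi_bijective (hθ : θ ≠ 1) : Function.Bijective (chi (n := n) θ) := by
  refine (Fintype.bijective_iff_injective_and_card _).2 ⟨fun a b e => funext fun i => ?_, by rw [AddChar.card_eq]⟩
  by_contra hne
  refine hθ (DFunLike.ext _ _ fun c => ?_)
  have h1 := DFunLike.congr_fun e (Pi.single i (c / (a i - b i)))
  rw [chi_single, chi_single] at h1
  rw [AddChar.one_apply, show c = a i * (c / (a i - b i)) + -(b i * (c / (a i - b i))) by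
    rw [← sub_eq_add_neg, ← sub_mul, mul_div_cancel₀ _ (sub_ne_zero.2 hne)], AddChar.map_add_eq_mul, h1,
    ← AddChar.map_add_eq_mul, add_neg_cancel, AddChar.map_zero_eq_one]

/-- The projection on the vectors with the given character. -/
noncomputable def prj (h : abelianOn P tr Q = true) (a : Fin n → F) : Module.End ℂ (Fix Y ρ Q) :=
  proj (lvl Y ρ P Q h) (chi θ a)

theorem op_mul_prj (h : abelianOn P tr Q = true) (a : Fin n → F) (i : Fin n) (t : F) :
    opHom Y ρ P Q h i (Multiplicative.ofAdd t) * prj Y ρ P θ Q h a = θ (a i * t) • prj Y ρ P θ Q h a := by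
  rw [← lvl_single, prj, R_mul_proj, chi_single]

theorem sum_prj (hθ : θ ≠ 1) (h : abelianOn P tr Q = true) : ∑ a, prj Y ρ P θ Q h a = 1 := by
  rw [← sum_proj (lvl Y ρ P Q h)]
  exact (chi_bijective θ hθ).sum_comp fun χ => proj (lvl Y ρ P Q h) χ

theorem lvl_eig (h : abelianOn P tr Q = true) {a : Fin n → F} {v : Fix Y ρ Q} (hv : (v : V) ∈ eig Y ρ P θ Q a)
    (w : Fin n → F) : lvl Y ρ P Q h (Multiplicative.ofAdd w) v = chi θ a w • v := by
  classical
  rw [← Finset.univ_sum_single w]
  induction (Finset.univ : Finset (Fin n)) using Finset.induction_on with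
  | empty => simp
  | insert i s hi ih =>
    rw [Finset.sum_insert hi, ofAdd_add, map_mul, Module.End.mul_apply, ih, map_smul, lvl_single,
      AddChar.map_add_eq_mul, mul_comm, ← smul_smul, chi_single]
    congr 1
    exact Subtype.ext (by rw [opHom_coe, hv.2]; rfl)

theorem range_prj (h : abelianOn P tr Q = true) (a : Fin n → F) :
    LinearMap.range (prj Y ρ P θ Q h a) = (eig Y ρ P θ Q a).comap (Fix Y ρ Q).subtype := by
  ext v
  constructor
  · rintro ⟨w, rfl⟩
    refine ⟨Subtype.prop _, fun i t => ?_⟩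
    have e := LinearMap.congr_fun (op_mul_prj Y ρ P θ Q h a i t) w
    rw [Module.End.mul_apply, LinearMap.smul_apply] at e
    exact congrArg Subtype.val e
  · intro hv
    refine ⟨v, ?_⟩
    simp only [prj, proj, LinearMap.smul_apply, LinearMap.sum_apply,
      lvl_eig Y ρ P θ Q h hv, smul_smul, ← AddChar.map_add_eq_mul, neg_add_cancel, AddChar.map_zero_eq_one,
      one_smul, Finset.sum_const, Finset.card_univ, ← Nat.cast_smul_eq_nsmul ℂ, inv_mul_cancel₀ cardW_ne_zero]

variable [FiniteDimensional ℂ V]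

theorem trace_prj (h : abelianOn P tr Q = true) (a : Fin n → F) :
    LinearMap.trace ℂ _ (prj Y ρ P θ Q h a) = (finrank ℂ (eig Y ρ P θ Q a) : ℂ) := by
  rw [((LinearMap.isProj_range_iff_isIdempotentElem (prj Y ρ P θ Q h a)).2
    (proj_mul_self (lvl Y ρ P Q h) (chi θ a))).trace]
  rw [range_prj, LinearEquiv.finrank_eq (Submodule.comapSubtypeEquivOfLe (eig_le Y ρ P θ Q a))]

/-- The fixed vectors are the sum of the vectors with a given character. -/
theorem sum_finrank_eig (hθ : θ ≠ 1) (h : abelianOn P tr Q = true) :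
    ∑ a, finrank ℂ (eig Y ρ P θ Q a) = finrank ℂ (Fix Y ρ Q) := by
  have e := congrArg (LinearMap.trace ℂ (Fix Y ρ Q)) (sum_prj Y ρ P θ Q hθ h)
  rw [map_sum, LinearMap.trace_one, Finset.sum_congr rfl fun a _ => trace_prj Y ρ P θ Q h a] at e
  exact_mod_cast e

/-- The trace of a root of the level. -/
theorem trace_opHom (hθ : θ ≠ 1) (h : abelianOn P tr Q = true) (i : Fin n) (t : F) :
    LinearMap.trace ℂ _ (opHom Y ρ P Q h i (Multiplicative.ofAdd t)) =
      ∑ a, θ (a i * t) * (finrank ℂ (eig Y ρ P θ Q a) : ℂ) := by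
  conv_lhs => rw [← mul_one (opHom Y ρ P Q h i (Multiplicative.ofAdd t)), ← sum_prj Y ρ P θ Q hθ h]
  rw [Finset.mul_sum, map_sum]
  exact Finset.sum_congr rfl fun a _ => by rw [op_mul_prj, map_smul, trace_prj, smul_eq_mul]

/-- Disjoint characters add up. -/
theorem finset_le (hθ : θ ≠ 1) (h : abelianOn P tr Q = true) {d : ℕ} (A : Finset (Fin n → F))
    (hA : ∀ a ∈ A, a ≠ 0 ∧ d ≤ finrank ℂ (eig Y ρ P θ Q a)) :
    d * A.card + finrank ℂ (Fix Y ρ (Q ++ List.ofFn P)) ≤ finrank ℂ (Fix Y ρ Q) := by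
  classical
  rw [← sum_finrank_eig Y ρ P θ Q hθ h, ← eig_zero Y ρ P θ Q,
    ← Finset.sum_erase_add _ _ (Finset.mem_univ (0 : Fin n → F))]
  refine Nat.add_le_add_right ?_ _
  refine le_trans ?_ (Finset.sum_le_sum_of_subset (s := A) fun a ha => Finset.mem_erase.2 ⟨(hA a ha).1, Finset.mem_univ _⟩)
  rw [mul_comm]
  exact Finset.card_nsmul_le_sum A _ d fun a ha => (hA a ha).2

/-- The translations keep the multiplicity bounded below. -/
theorem closed_finrank {S : List ℕ} (hS : S.all (actsOn P tr Q) = true) (d : ℕ) :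
    Closed (src P tr) S fun a => d ≤ finrank ℂ (eig Y ρ P θ Q a) := by
  intro s hs u a ha
  refine le_trans ha ?_
  rw [List.all_eq_true] at hS
  refine LinearMap.finrank_le_finrank_of_injective
    (f := (ρ (Y.x s u)).restrict fun _ hv => eig_map Y ρ P θ Q (hS s hs) u a hv) fun v w e => ?_
  refine Subtype.ext ?_
  have e' := congrArg (fun z => ρ (Y.x s (-u)) (Subtype.val z)) e
  simp only [LinearMap.coe_restrict_apply] at e'
  rwa [← Module.End.mul_apply, ← Module.End.mul_apply, ← map_mul, ← Y.add, neg_add_cancel, Y.zero, map_one,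
    Module.End.one_apply, Module.End.one_apply] at e'

/-- The checks of a level. -/
def levelOK (tr : ℕ → ℕ → Tr) (Q : List ℕ) (S : List ℕ) (edges : List (Fin n × Fin n × ℕ × ℕ))
    (Ls : Fin n → List (ℕ × Fin n)) (bot : Fin n) : Bool :=
  abelianOn P tr Q && S.all (actsOn P tr Q) && reachOK (src P tr) S edges [bot] &&
    decide (∀ i, leadOK (src P tr) (above i) i (Ls i) = true ∧ ∀ p ∈ Ls i, p.1 ∈ S)

theorem single_any {S : List ℕ} {e : Fin n × Fin n × ℕ × ℕ} {es : List (Fin n × Fin n × ℕ × ℕ)} {bot : Fin n}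
    {T : Src n} {R : (Fin n → F) → Prop} (hR : Closed T S R) (he : reachOK T S (e :: es) [bot] = true) {c : F}
    (hc : c ≠ 0) (h : R (Pi.single bot c)) (i : Fin n) (d : F) (hd : d ≠ 0) : R (Pi.single i d) := by
  classical
  obtain ⟨i', j, s, s'⟩ := e
  have h1 := he
  simp only [reachOK, Bool.and_eq_true, decide_eq_true_eq, List.mem_singleton] at h1
  obtain ⟨⟨⟨⟨rfl, hs⟩, hs'⟩, hok⟩, -⟩ := h1
  refine single_all T hR _ _ he (fun x hx d' hd' => ?_) i d hd
  rw [List.mem_singleton] at hx
  exact hx ▸ (single_edge T hR hs hs' hok hc h hd').1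

/-- A level carries the orbit of a single coordinate. -/
theorem level_le (hθ : θ ≠ 1) {S : List ℕ} {e : Fin n × Fin n × ℕ × ℕ} {es : List (Fin n × Fin n × ℕ × ℕ)}
    {Ls : Fin n → List (ℕ × Fin n)} {bot : Fin n} (h : levelOK P tr Q S (e :: es) Ls bot = true) {d : ℕ}
    {c : F} (hc : c ≠ 0) (hd : d ≤ finrank ℂ (eig Y ρ P θ Q (Pi.single bot c))) :
    d * ((Fintype.card F - 1) * ∑ i, Fintype.card F ^ (Ls i).length) + finrank ℂ (Fix Y ρ (Q ++ List.ofFn P)) ≤
      finrank ℂ (Fix Y ρ Q) := by
  classical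
  simp only [levelOK, Bool.and_eq_true, decide_eq_true_eq] at h
  obtain ⟨⟨⟨hab, hS⟩, hre⟩, hL⟩ := h
  have hcl := closed_finrank Y ρ P θ Q hS d
  rw [← card_leadVec (F := F) Ls, ← Finset.card_univ,
    ← Finset.card_image_of_injective _ (leadVec_injective (src P tr) Ls fun i => (hL i).1)]
  refine finset_le Y ρ P θ Q hθ hab _ fun a ha => ?_
  obtain ⟨p, -, rfl⟩ := Finset.mem_image.1 ha
  refine ⟨fun h0 => ?_, leadVec_mem (src P tr) hcl Ls (fun i => (hL i).2)
    (single_any hcl hre hc hd) p⟩
  obtain ⟨i, ⟨d', hd'⟩, u⟩ := p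
  have := congrFun h0 i
  rw [leadVec, (multi_lead (src P tr) _ (hL i).1 _ (single_above i d') u).1, Pi.single_eq_same] at this
  exact hd' this

end Decomp

end Cfsg.Lib.Chev.SimpDeg
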