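import Cfsg.Agent.Lib.Chev.SimplyDegree.Act

/-!
# Translations of coordinate vectors in a twisted group

The coordinates are permuted in pairs by an involution with signs, and the vectors considered are
the ones fixed by it composed with an involution of the field. A root element of the twisted group
is either a root element of a fixed root with a fixed parameter, or the product of a conjugate pair.
-/

set_option autoImplicit false
set_option linter.unusedSectionVars false

namespace Cfsg.Lib.Chev.SimpDeg

/-- An involution of the coordinates with signs. -/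
structure Flip (n : ℕ) where
  g : Fin n → Fin n
  e : Fin n → Bool

/-- The checks on an involution with signs. -/
def Flip.ok {n : ℕ} (I : Flip n) : Bool :=
  decide (∀ m, I.g (I.g m) = m ∧ I.e (I.g m) = I.e m ∧ (I.g m = m → I.e m = true))

/-- A root element of the twisted group: one fixed root, or a pair with a sign. -/
inductive Op
  | long (s : ℕ)
  | pair (s s' : ℕ) (e : Bool)
  deriving DecidableEq

variable {K : Type*} [Field K]

/-- Parameters allowed for an element. -/
def Op.adm (f : K →+* K) : Op → K → Prop
  | .long _, u => f u = u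
  | .pair _ _ _, _ => True

/-- The roots of an element. -/
def Op.roots : Op → List ℕ
  | .long s => [s]
  | .pair s s' _ => [s, s']

theorem sg_mul_self (b : Bool) : sg K b * sg K b = 1 := by cases b <;> simp [sg]

theorem sg_xor (a b : Bool) : sg K (a == b) = sg K a * sg K b := by cases a <;> cases b <;> simp [sg]

theorem map_sg (f : K →+* K) (b : Bool) : f (sg K b) = sg K b := by cases b <;> simp [sg]

variable {n : ℕ} (T : Src n) (f : K →+* K) (I : Flip n)

/-- The translation by a root element of the twisted group. -/
def opTau : Op → K → (Fin n → K) → (Fin n → K)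
  | .long s, u, a => tau T s u a
  | .pair s s' e, u, a => tau T s u (tau T s' (sg K e * f u) a)

/-- The involution on vectors. -/
def sigV (a : Fin n → K) : Fin n → K := fun m => sg K (I.e m) * f (a (I.g m))

/-- The fixed vectors. -/
def Inv (a : Fin n → K) : Prop := ∀ m, a (I.g m) = sg K (I.e m) * f (a m)

theorem sigV_eq {a : Fin n → K} (hI : I.ok = true) (h : Inv f I a) : sigV f I a = a := by
  simp only [Flip.ok, decide_eq_true_eq] at hI
  funext m
  have := h (I.g m)
  rw [(hI m).1, (hI m).2.1] at this
  exact this.symm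

theorem inv_of_sigV {a : Fin n → K} (hI : I.ok = true) (h : sigV f I a = a) : Inv f I a := by
  simp only [Flip.ok, decide_eq_true_eq] at hI
  intro m
  conv_lhs => rw [← h]
  rw [sigV, (hI m).1, (hI m).2.1]

/-- A term of a translation: the powers of the two parameters, the coordinate and the sign. -/
abbrev Term (n : ℕ) := Bool × Bool × Fin n × Bool

/-- The value of a term. -/
def Term.val (u w : K) (a : Fin n → K) (t : Term n) : K :=
  sg K t.2.2.2 * (bif t.1 then u else 1) * (bif t.2.1 then w else 1) * a t.2.2.1

/-- The terms of a translation at one coordinate. -/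
def terms : Op → Fin n → List (Term n)
  | .long s, m => (false, false, m, true) :: (T s m).toList.map fun p => (true, false, p.1, p.2)
  | .pair s s' _, m =>
    (false, false, m, true) :: (T s' m).toList.map (fun p => (false, true, p.1, p.2)) ++
      (T s m).toList.flatMap fun p =>
        (true, false, p.1, p.2) :: (T s' p.1).toList.map fun r => (true, true, r.1, p.2 == r.2)

/-- The second parameter. -/
def Op.second : Op → K → K
  | .long _, _ => 1
  | .pair _ _ e, u => sg K e * f u

theorem opTau_terms (op : Op) (u : K) (a : Fin n → K) (m : Fin n) :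
    opTau T f op u a m = ((terms T op m).map (Term.val u (op.second f u) a)).sum := by
  cases op with
  | long s =>
    rcases h : T s m with _ | ⟨j, b⟩
    · simp [opTau, tau_none T h, terms, h, Term.val, sg]
    · simp [opTau, tau_some T h, terms, h, Term.val, sg]
  | pair s s' e =>
    rcases h : T s m with _ | ⟨j, b⟩
    · rcases h' : T s' m with _ | ⟨j', b'⟩
      · simp [opTau, tau_none T h, tau_none T h', terms, h, h', Term.val, sg]
      · simp [opTau, tau_none T h, tau_some T h', terms, h, h', Term.val, sg, Op.second]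
    · rcases h' : T s' m with _ | ⟨j', b'⟩
      · rcases h'' : T s' j with _ | ⟨l, c⟩
        · simp [opTau, tau_some T h, tau_none T h', tau_none T h'', terms, h, h', h'', Term.val, sg]
        · simp [opTau, tau_some T h, tau_none T h', tau_some T h'', terms, h, h', h'', Term.val, sg_xor, Op.second]
          simp [sg]
          ring
      · rcases h'' : T s' j with _ | ⟨l, c⟩
        · simp [opTau, tau_some T h, tau_some T h', tau_none T h'', terms, h, h', h'', Term.val, Op.second]
          simp [sg]
          ring
        · simp [opTau, tau_some T h, tau_some T h', tau_some T h'', terms, h, h', h'', Term.val, sg_xor, Op.second]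
          simp [sg]
          ring

/-- A term after the involution. -/
def flipTerm (op : Op) (e₀ : Bool) (t : Term n) : Term n :=
  match op with
  | .long _ => (t.1, t.2.1, I.g t.2.2.1, (e₀ == t.2.2.2) == I.e (I.g t.2.2.1))
  | .pair _ _ e => (t.2.1, t.1, I.g t.2.2.1,
      (((e₀ == t.2.2.2) == I.e (I.g t.2.2.1)) == (if t.1 then e else true)) == (if t.2.1 then e else true))

/-- A translation commutes with the involution. -/
def flipOK (op : Op) : Bool :=
  decide (∀ m, ((terms T op (I.g m)).map (flipTerm I op (I.e m))).Perm (terms T op m)) &&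
    match op with
    | .long _ => decide (∀ m, ∀ t ∈ terms T op m, t.2.1 = false)
    | .pair _ _ _ => true

theorem opTau_sigV (hf : ∀ x, f (f x) = x) (hI : I.ok = true) {op : Op} (hop : flipOK T I op = true) {u : K}
    (hu : op.adm f u) (a : Fin n → K) : sigV f I (opTau T f op u a) = opTau T f op u (sigV f I a) := by
  simp only [flipOK, Bool.and_eq_true, decide_eq_true_eq] at hop
  simp only [Flip.ok, decide_eq_true_eq] at hI
  funext m
  rw [sigV, opTau_terms, opTau_terms, ← (List.Perm.map _ (hop.1 m)).sum_eq, map_list_sum, List.map_map,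
    List.map_map, ← List.sum_map_mul_left]
  refine congrArg List.sum (List.map_congr_left fun t ht => ?_)
  obtain ⟨tu, tw, i, b⟩ := t
  have hgi : sigV f I a (I.g i) = sg K (I.e (I.g i)) * f (a i) := by rw [sigV, (hI i).1]
  cases op with
  | long s =>
    obtain rfl : tw = false := by simpa using (of_decide_eq_true hop.2) (I.g m) _ ht
    have hu' : f u = u := hu
    simp only [Function.comp, Term.val, flipTerm, hgi, sg_xor, map_mul, map_sg, cond_false, map_one]
    cases tu
    · simp only [cond_false, map_one]
      linear_combination (-(sg K (I.e m) * sg K b * f (a i))) * sg_mul_self (K := K) (I.e (I.g i))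
    · simp only [cond_true, hu']
      linear_combination (-(sg K (I.e m) * sg K b * u * f (a i))) * sg_mul_self (K := K) (I.e (I.g i))
  | pair s s' e =>
    simp only [Function.comp, Term.val, flipTerm, hgi, sg_xor, map_mul, map_sg, Op.second]
    cases tu <;> cases tw <;>
      simp only [cond_true, cond_false, map_one, map_mul, map_sg, hf, Bool.false_eq_true, if_false, if_true,
        sg_xor, show sg K true = (1 : K) from rfl, mul_one, one_mul]
    · linear_combination (-(sg K (I.e m) * sg K b * f (a i))) * sg_mul_self (K := K) (I.e (I.g i))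
    · linear_combination (-(sg K (I.e m) * sg K b * sg K e * u * f (a i))) * sg_mul_self (K := K) (I.e (I.g i))
    · linear_combination (-(sg K (I.e m) * sg K b * f (a i) * f u * sg K e * sg K e)) *
          sg_mul_self (K := K) (I.e (I.g i)) +
        (-(sg K (I.e m) * sg K b * f (a i) * f u)) * sg_mul_self (K := K) e
    · linear_combination (-(sg K (I.e m) * sg K b * sg K e * u * f (a i) * f u * sg K e * sg K e)) *
          sg_mul_self (K := K) (I.e (I.g i)) +
        (-(sg K (I.e m) * sg K b * sg K e * u * f (a i) * f u)) * sg_mul_self (K := K) e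

theorem opTau_inv (hf : ∀ x, f (f x) = x) (hI : I.ok = true) {op : Op} (hop : flipOK T I op = true) {u : K}
    (hu : op.adm f u) {a : Fin n → K} (ha : Inv f I a) : Inv f I (opTau T f op u a) :=
  inv_of_sigV f I hI (by rw [opTau_sigV T f I hf hI hop hu, sigV_eq f I hI ha])

theorem single_inv (hI : I.ok = true) {i : Fin n} (hi : I.g i = i) {c : K} (hc : f c = c) :
    Inv f I (Pi.single i c) := by
  simp only [Flip.ok, decide_eq_true_eq] at hI
  intro m
  rcases eq_or_ne m i with rfl | hm
  · rw [hi, Pi.single_eq_same, (hI m).2.2 hi, hc]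
    simp [sg]
  · rw [Pi.single_eq_of_ne (M := fun _ => K) hm, Pi.single_eq_of_ne (M := fun _ => K), map_zero, mul_zero]
    intro e
    exact hm (by rw [← (hI m).1, e, hi])

/-- A predicate closed under the translations by the elements of a list. -/
def OpClosed (ops : List Op) (P : (Fin n → K) → Prop) : Prop :=
  ∀ op ∈ ops, ∀ u, op.adm f u → ∀ a, P a → P (opTau T f op u a)

/-- The translations of a list of elements, written out. -/
def flatOps : List (Op × Fin n) → List (ℕ × Fin n)
  | [] => []
  | (.long s, m) :: L => (s, m) :: flatOps L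
  | (.pair s s' _, m) :: L => (s, m) :: (s', I.g m) :: flatOps L

/-- The parameters allowed for a list of elements. -/
def AdmList : ∀ L : List (Op × Fin n), (Fin (flatOps I L).length → K) → Prop
  | [], _ => True
  | (.long _, _) :: L, u => f (u ⟨0, Nat.succ_pos _⟩) = u ⟨0, Nat.succ_pos _⟩ ∧ AdmList L (fun l => u l.succ)
  | (.pair _ _ e, _) :: L, u =>
    u ⟨1, Nat.succ_lt_succ (Nat.succ_pos _)⟩ = sg K e * f (u ⟨0, Nat.succ_pos _⟩) ∧ AdmList L (fun l => u l.succ.succ)

theorem multi_opClosed {ops : List Op} {P : (Fin n → K) → Prop} (hP : OpClosed T f ops P) :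
    ∀ (L : List (Op × Fin n)), (∀ p ∈ L, p.1 ∈ ops) → ∀ (u : Fin (flatOps I L).length → K), AdmList f I L u →
      ∀ a, P a → P (multi T (flatOps I L) u a)
  | [], _, _, _, a, ha => ha
  | (.long s, m) :: L, hS, u, hu, a, ha =>
    hP _ (hS (.long s, m) List.mem_cons_self) (u ⟨0, Nat.succ_pos _⟩) hu.1 _
      (multi_opClosed hP L (fun p hp => hS p (List.mem_cons_of_mem _ hp)) _ hu.2 a ha)
  | (.pair s s' e, m) :: L, hS, u, hu, a, ha => by
    have := hP _ (hS (.pair s s' e, m) List.mem_cons_self) (u ⟨0, Nat.succ_pos _⟩) trivial _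
      (multi_opClosed hP L (fun p hp => hS p (List.mem_cons_of_mem _ hp)) _ hu.2 a ha)
    show P (tau T s (u ⟨0, Nat.succ_pos _⟩) (tau T s' (u ⟨1, Nat.succ_lt_succ (Nat.succ_pos _)⟩) (multi T (flatOps I L) _ a)))
    rw [hu.1]
    exact this

theorem opTau_injective (op : Op) (h : ∀ s ∈ op.roots, lowering T s = true) (u : K) :
    Function.Injective (opTau T f op u) := by
  cases op with
  | long s => exact tau_injective T (h s (by simp [Op.roots])) u
  | pair s s' e =>
    exact (tau_injective T (h s (by simp [Op.roots])) u).comp (tau_injective T (h s' (by simp [Op.roots])) _)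

theorem exists_preimage_op [Finite K] {ops : List Op} {P : (Fin n → K) → Prop} (hP : OpClosed T f ops P)
    (L : List (Op × Fin n)) (hS : ∀ p ∈ L, p.1 ∈ ops) (hlow : ∀ p ∈ flatOps I L, lowering T p.1 = true)
    {u : Fin (flatOps I L).length → K} (hu : AdmList f I L u) {a : Fin n → K} (ha : P a) :
    ∃ b, P b ∧ multi T (flatOps I L) u b = a := by
  obtain ⟨⟨b, hb⟩, e⟩ := Finite.injective_iff_surjective.1
    (show Function.Injective (fun b : {b // P b} =>
        (⟨multi T (flatOps I L) u b.1, multi_opClosed T f I hP L hS u hu _ b.2⟩ : {b // P b}))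
      from fun b b' e => Subtype.ext (multi_injective T _ hlow u (congrArg Subtype.val e))) ⟨a, ha⟩
  exact ⟨b, hb, congrArg Subtype.val e⟩

/-- Allowed parameters are as many as the translations. -/
theorem exists_adm_family [Fintype K] {q : ℕ} (hK : Fintype.card K = q ^ 2)
    (hfix : Nat.card {x : K // f x = x} = q) :
    ∀ L : List (Op × Fin n), ∃ p : Fin (q ^ (flatOps I L).length) → (Fin (flatOps I L).length → K),
      Function.Injective p ∧ ∀ x, AdmList f I L (p x)
  | [] => ⟨fun _ => Fin.elim0, fun x y _ => by
      have hx := x.isLt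
      have hy := y.isLt
      simp [flatOps] at hx hy
      exact Fin.ext (by omega), fun _ => trivial⟩
  | (.long s, m) :: L => by
    obtain ⟨p, hp, hp'⟩ := exists_adm_family hK hfix L
    have e : Fin (q ^ (flatOps I ((Op.long s, m) :: L)).length) ≃
        {x : K // f x = x} × Fin (q ^ (flatOps I L).length) :=
      (finCongr (by simp [flatOps, pow_succ, mul_comm])).trans
        (finProdFinEquiv.symm.trans (Equiv.prodCongr
          ((finCongr hfix.symm).trans (Finite.equivFin _).symm) (Equiv.refl _)))
    refine ⟨fun x => Fin.cons (e x).1.1 (p (e x).2), fun x y h => ?_, fun x => ⟨(e x).1.2, ?_⟩⟩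
    · obtain ⟨h1, h2⟩ := Fin.cons_inj.1 h
      exact e.injective (Prod.ext (Subtype.ext h1) (hp h2))
    · exact hp' _
  | (.pair s s' b, m) :: L => by
    obtain ⟨p, hp, hp'⟩ := exists_adm_family hK hfix L
    have e : Fin (q ^ (flatOps I ((Op.pair s s' b, m) :: L)).length) ≃ K × Fin (q ^ (flatOps I L).length) :=
      (finCongr (by simp [flatOps, pow_succ]; ring)).trans
        (finProdFinEquiv.symm.trans (Equiv.prodCongr
          ((finCongr hK.symm).trans (Fintype.equivFin K).symm) (Equiv.refl _)))
    refine ⟨fun x => Fin.cons (e x).1 (Fin.cons (sg K b * f (e x).1) (p (e x).2)), fun x y h => ?_,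
      fun x => ⟨rfl, ?_⟩⟩
    · obtain ⟨h1, h2⟩ := Fin.cons_inj.1 h
      exact e.injective (Prod.ext h1 (hp (Fin.cons_inj.1 h2).2))
    · exact hp' _

/-- The signs of a lead from a fixed coordinate agree with the involution. -/
def leadSign (i : Fin n) : Op × Fin n → Bool
  | (.long s, m) => decide (I.g m = m) && decide ((T s m).map Prod.fst = some i)
  | (.pair s s' e, m) =>
    match T s m, T s' (I.g m) with
    | some (_, b), some (_, b') => decide ((I.e m == b') = (e == b))
    | _, _ => false

theorem admList_solve (hI : I.ok = true) {i : Fin n} {c : K} (hc0 : c ≠ 0) (hc : f c = c) {a : Fin n → K}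
    (ha : Inv f I a) : ∀ (L : List (Op × Fin n)), L.all (leadSign T I i) = true →
      AdmList f I L fun l => a ((flatOps I L).get l).2 /
        (((T ((flatOps I L).get l).1 ((flatOps I L).get l).2).map fun p => sg K p.2).getD 1 * c)
  | [], _ => trivial
  | (.long s, m) :: L, h => by
    simp only [List.all_cons, Bool.and_eq_true, leadSign, decide_eq_true_eq] at h
    refine ⟨?_, admList_solve hI hc0 hc ha L h.2⟩
    have hI' := hI
    simp only [Flip.ok, decide_eq_true_eq] at hI'
    have hm := ha m
    rw [h.1.1, (hI' m).2.2 h.1.1, show sg K true = (1 : K) from rfl, one_mul] at hm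
    obtain ⟨⟨j, b⟩, hb, -⟩ := Option.map_eq_some_iff.1 h.1.2
    show f (a m / (((T s m).map fun p => sg K p.2).getD 1 * c)) = a m / (((T s m).map fun p => sg K p.2).getD 1 * c)
    rw [hb, map_div₀, map_mul, hc, ← hm]
    simp [map_sg]
  | (.pair s s' e, m) :: L, h => by
    simp only [List.all_cons, Bool.and_eq_true] at h
    refine ⟨?_, admList_solve hI hc0 hc ha L h.2⟩
    have h1 := h.1
    simp only [leadSign] at h1
    show a (I.g m) / (((T s' (I.g m)).map fun p => sg K p.2).getD 1 * c) =
      sg K e * f (a m / (((T s m).map fun p => sg K p.2).getD 1 * c))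
    rcases hb : T s m with _ | ⟨j, b⟩
    · simp [hb] at h1
    rcases hb' : T s' (I.g m) with _ | ⟨j', b'⟩
    · simp [hb, hb'] at h1
    simp only [hb, hb', decide_eq_true_eq] at h1
    have h2 : sg K (I.e m) * sg K b' = sg K e * sg K b := by rw [← sg_xor, ← sg_xor, h1]
    simp only [Option.map_some, Option.getD_some, ha m, map_div₀, map_mul, map_sg, hc]
    field_simp [sg_ne_zero]
    linear_combination (f (a m) * sg K b * sg K b') * h2 -
      (f (a m) * sg K (I.e m) * sg K b) * sg_mul_self (K := K) b' +
      (f (a m) * sg K e * sg K b') * sg_mul_self (K := K) b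

/-- An additive map `u ↦ c u + d f u` vanishes only for `c = 0`. -/
theorem eq_zero_of_twist {c d : K} (hω : ∃ ω, f ω ≠ ω) (h : ∀ u, c * u + d * f u = 0) : c = 0 := by
  obtain ⟨ω, hω⟩ := hω
  have h1 := h 1
  rw [map_one, mul_one, mul_one] at h1
  have h2 := h ω
  have h3 : d * (f ω - ω) = 0 := by linear_combination h2 - ω * h1
  have h4 : d = 0 := (mul_eq_zero.1 h3).resolve_right (sub_ne_zero.2 hω)
  rwa [h4, add_zero] at h1

/-- Some element carries coordinate `i` upwards, or to `j`. -/
def opFeeds (op : Op) (i j : Fin n) : Bool :=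
  match op with
  | .long s => decide ((T s j).map Prod.fst = some i)
  | .pair s s' _ => decide ((T s j).map Prod.fst = some i) && (T s' i).isNone

theorem feeds_ne {op : Op} {i j : Fin n} (h : opFeeds T op i j = true) (hω : ∃ ω, f ω ≠ ω) {a : Fin n → K}
    (hi : a i ≠ 0) (hj : a j = 0) : ∃ u, op.adm f u ∧ opTau T f op u a j ≠ 0 := by
  cases op with
  | long s =>
    simp only [opFeeds, decide_eq_true_eq] at h
    obtain ⟨⟨i', b⟩, hb, hi'⟩ := Option.map_eq_some_iff.1 h
    obtain rfl : i' = i := hi'
    refine ⟨1, map_one f, ?_⟩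
    rw [opTau, tau_some T hb, hj, zero_add, mul_one]
    exact mul_ne_zero (sg_ne_zero b) hi
  | pair s s' e =>
    simp only [opFeeds, Bool.and_eq_true, decide_eq_true_eq, Option.isNone_iff_eq_none] at h
    obtain ⟨⟨i', b⟩, hb, hi'⟩ := Option.map_eq_some_iff.1 h.1
    obtain rfl : i' = i := hi'
    by_contra! hall
    obtain ⟨d, hd⟩ : ∃ d, ∀ u, tau T s' (sg K e * f u) a j = d * f u := by
      rcases hd : T s' j with _ | ⟨k, c⟩
      · exact ⟨0, fun u => by rw [tau_none T hd, hj, zero_mul]⟩
      · exact ⟨sg K c * sg K e * a k, fun u => by rw [tau_some T hd, hj, zero_add]; ring⟩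
    refine mul_ne_zero (sg_ne_zero b) hi (eq_zero_of_twist f hω (d := d) fun u => ?_)
    have := hall u trivial
    rw [opTau, tau_some T hb, hd, tau_none T h.2] at this
    linear_combination this

/-- From every coordinate one climbs to `γ`. -/
def opClimbOK (ops : List Op) (γ : Fin n) : Bool :=
  decide (∀ i, i ≠ γ → ∃ op ∈ ops, ∃ j, i < j ∧ opFeeds T op i j = true)

theorem opClimb {ops : List Op} {P : (Fin n → K) → Prop} (hP : OpClosed T f ops P) {γ : Fin n}
    (hω : ∃ ω, f ω ≠ ω) (h : opClimbOK T ops γ = true) {a : Fin n → K} (ha : P a) {i : Fin n} (hne : a i ≠ 0) :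
    ∃ b, P b ∧ b γ ≠ 0 := by
  simp only [opClimbOK, decide_eq_true_eq] at h
  induction hd : (n - i.1) using Nat.strong_induction_on generalizing i a with
  | _ d ih =>
    rcases eq_or_ne i γ with rfl | hiγ
    · exact ⟨a, ha, hne⟩
    obtain ⟨op, hop, j, hij, hj⟩ := h i hiγ
    have hlt : i.1 < j.1 := hij
    have hjn := j.2
    rcases eq_or_ne (a j) 0 with hj0 | hj0
    · obtain ⟨u, hu, hne'⟩ := feeds_ne T f hj hω hne hj0
      exact ih (n - j.1) (by omega) (hP op hop u hu a ha) hne' rfl
    · exact ih (n - j.1) (by omega) ha hj0 rfl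

/-- An element moves coordinate `i` injectively to `j` among the vectors vanishing on `Z`. -/
def spreadsTo (Z : Fin n → Bool) (Z' : Fin n → Bool) (γ : Fin n) (op : Op) (i j : Fin n) : Bool :=
  match op with
  | .long _ => false
  | .pair s s' _ => decide ((T s j).map Prod.fst = some i) && (T s' i).isNone && (T s' j).isNone &&
      decide (∀ m, (Z' m = true ∨ m = γ) → (∀ r ∈ T s' m, Z r.1 = true) ∧
        ∀ r ∈ T s m, Z r.1 = true ∧ ∀ l ∈ T s' r.1, Z l.1 = true) && decide (Z i = false)

theorem spreads {op : Op} {Z Z' : Fin n → Bool} {γ i j : Fin n} (h : spreadsTo T Z Z' γ op i j = true)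
    (hZ' : ∀ m, Z' m = true → Z m = true) {a : Fin n → K} (ha : ∀ m, Z m = true → a m = 0) (hi : a i ≠ 0) :
    (∀ u, (∀ m, Z' m = true → opTau T f op u a m = 0) ∧ opTau T f op u a γ = a γ ∧ op.adm f u) ∧
      Function.Injective fun u => opTau T f op u a := by
  cases op with
  | long s => simp [spreadsTo] at h
  | pair s s' e =>
    simp only [spreadsTo, Bool.and_eq_true, decide_eq_true_eq, Option.isNone_iff_eq_none] at h
    obtain ⟨⟨⟨⟨hb, hi'⟩, hj'⟩, hk⟩, -⟩ := h
    refine ⟨fun u => ?_, fun u v e' => ?_⟩
    · have inner : ∀ m, (Z' m = true ∨ m = γ) → opTau T f (.pair s s' e) u a m = a m := fun m hm => by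
        show tau T s u (tau T s' _ a) m = a m
        rcases hs : T s m with _ | ⟨r, b⟩
        · rw [tau_none T hs, tau_zero_src T fun k c hc => ha k ((hk m hm).1 (k, c) hc)]
        · obtain ⟨hr, hl⟩ := (hk m hm).2 (r, b) hs
          have hr0 : a r = 0 := ha r hr
          rcases hs' : T s' r with _ | ⟨l, c⟩
          · rw [tau_some T hs, tau_none T hs', hr0, mul_zero, add_zero,
              tau_zero_src T fun k c' hc => ha k ((hk m hm).1 (k, c') hc)]
          · rw [tau_some T hs, tau_zero_src T (fun k c' hc => ha k ((hk m hm).1 (k, c') hc)),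
              tau_some T hs', hr0, zero_add]
            simp [ha l (hl (l, c) hs')]
      exact ⟨fun m hm => by rw [inner m (Or.inl hm), ha m (hZ' m hm)], inner γ (Or.inr rfl), trivial⟩
    · obtain ⟨⟨i', b⟩, hb', hii⟩ := Option.map_eq_some_iff.1 hb
      obtain rfl : i' = i := hii
      have h1 := congrFun e' j
      simp only [opTau, tau_some T hb', tau_none T hi', tau_none T hj', add_right_inj] at h1
      exact mul_left_cancel₀ (sg_ne_zero b) (mul_right_cancel₀ hi h1)

end Cfsg.Lib.Chev.SimpDeg
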