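import Mathlib

/-!
# The degrees just below the target do not divide the order of the twisted type E6
-/

set_option autoImplicit false
set_option maxRecDepth 100000

namespace Cfsg.Lib.Chev.SimpDeg.TwE6

/-- The order of the twisted type E6 times the order of its centre. -/
def ordE (q : ℕ) : ℕ :=
  q ^ 36 * ((q ^ 2 - 1) * (q ^ 5 + 1) * (q ^ 6 - 1) * (q ^ 8 - 1) * (q ^ 9 + 1) * (q ^ 12 - 1))

/-- The small cases. -/
def smallOK (q : ℕ) : Bool :=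
  (List.range' 1 2).all fun j => Nat.blt 0 (ordE q % (q * (q ^ 6 - q ^ 3 + 1) * (q ^ 4 + 1) - j))

theorem big1 (x : ℤ) (hx : 3000 ≤ x) : ¬ (x ^ 11 - x ^ 8 + x ^ 7 + x ^ 5 - x ^ 4 + x - 1) ∣
    1 * ((x ^ 2 - 1) * (x ^ 5 + 1) * (x ^ 6 - 1) * (x ^ 8 - 1) * (x ^ 9 + 1) * (x ^ 12 - 1)) := by
  rintro ⟨z, hz⟩
  obtain ⟨R, hR⟩ : ∃ R : ℤ, R = -22 + 48 * x - 40 * x ^ 2 + 12 * x ^ 3 - 6 * x ^ 4 + 17 * x ^ 5 - 15 * x ^ 6 + 31 * x ^ 7 - 47 * x ^ 8 + 29 * x ^ 9 + 1 * x ^ 10 := ⟨_, rfl⟩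
  have hd : (x ^ 11 - x ^ 8 + x ^ 7 + x ^ 5 - x ^ 4 + x - 1) ∣ 1 * R :=
    ⟨z - 1 * (-23 + 25 * x - 14 * x ^ 2 - 2 * x ^ 3 + 15 * x ^ 4 - 17 * x ^ 5 + 8 * x ^ 6 + 5 * x ^ 7 - 11 * x ^ 8 + 10 * x ^ 9 - 3 * x ^ 10 - 4 * x ^ 11 + 6 * x ^ 12 - 4 * x ^ 13 + 1 * x ^ 14 + 1 * x ^ 15 - 3 * x ^ 16 + 3 * x ^ 17 + 1 * x ^ 18 - 3 * x ^ 19 + 2 * x ^ 20 - 1 * x ^ 22 + 2 * x ^ 23 - 2 * x ^ 24 - 1 * x ^ 27 + 1 * x ^ 28 - 1 * x ^ 29 + 1 * x ^ 31), by rw [hR]; linear_combination (1 : ℤ) * hz⟩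
  have hp : ∀ i, 0 ≤ x ^ i := fun i => pow_nonneg (by omega) i
  have hm : ∀ i, i ≤ 9 → x ^ i ≤ x ^ 9 := fun i hi => pow_le_pow_right₀ (by omega) hi
  have h10 : 3000 * x ^ 9 ≤ x ^ 10 := by rw [pow_succ' x 9]; exact mul_le_mul_of_nonneg_right hx (hp 9)
  have h11 : 3000 * x ^ 10 ≤ x ^ 11 := by rw [pow_succ' x 10]; exact mul_le_mul_of_nonneg_right hx (hp 10)
  have h9 : 1 ≤ x ^ 9 := one_le_pow₀ (by omega)
  have h1 : x ≤ x ^ 9 := le_self_pow₀ (by omega) (by norm_num)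
  have := hp 2; have := hp 3; have := hp 4; have := hp 5; have := hp 6; have := hp 7; have := hp 8; have := hp 11
  have := hm 2 (by norm_num); have := hm 3 (by norm_num); have := hm 4 (by norm_num); have := hm 5 (by norm_num)
  have := hm 6 (by norm_num); have := hm 7 (by norm_num); have := hm 8 (by norm_num)
  have := Int.le_of_dvd (by rw [hR]; linarith) hd
  rw [hR] at this
  linarith

theorem big2 (x : ℤ) (hx : 3000 ≤ x) : ¬ (x ^ 11 - x ^ 8 + x ^ 7 + x ^ 5 - x ^ 4 + x - 2) ∣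
    2 * ((x ^ 2 - 1) * (x ^ 5 + 1) * (x ^ 6 - 1) * (x ^ 8 - 1) * (x ^ 9 + 1) * (x ^ 12 - 1)) := by
  rintro ⟨z, hz⟩
  obtain ⟨R, hR⟩ : ∃ R : ℤ, R = 83 - 168 * x + 162 * x ^ 2 - 63 * x ^ 3 - 3 * x ^ 4 + 25 * x ^ 6 - 85 * x ^ 7 + 134 * x ^ 8 - 112 * x ^ 9 + 27 * x ^ 10 := ⟨_, rfl⟩
  have hd : (x ^ 11 - x ^ 8 + x ^ 7 + x ^ 5 - x ^ 4 + x - 2) ∣ 2 * R :=
    ⟨-(z - 2 * (-42 + 63 * x - 49 * x ^ 2 + 7 * x ^ 3 + 26 * x ^ 4 - 40 * x ^ 5 + 24 * x ^ 6 + 6 * x ^ 7 - 21 * x ^ 8 + 22 * x ^ 9 - 7 * x ^ 10 - 5 * x ^ 11 + 10 * x ^ 12 - 9 * x ^ 13 + 3 * x ^ 14 - 5 * x ^ 16 + 5 * x ^ 17 - 3 * x ^ 19 + 3 * x ^ 20 - 1 * x ^ 22 + 2 * x ^ 23 - 2 * x ^ 24 - 1 * x ^ 27 + 1 * x ^ 28 - 1 * x ^ 29 + 1 * x ^ 31)), by rw [hR]; linear_combination (-1 : ℤ) * hz⟩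
  have hp : ∀ i, 0 ≤ x ^ i := fun i => pow_nonneg (by omega) i
  have hm : ∀ i, i ≤ 9 → x ^ i ≤ x ^ 9 := fun i hi => pow_le_pow_right₀ (by omega) hi
  have h10 : 3000 * x ^ 9 ≤ x ^ 10 := by rw [pow_succ' x 9]; exact mul_le_mul_of_nonneg_right hx (hp 9)
  have h11 : 3000 * x ^ 10 ≤ x ^ 11 := by rw [pow_succ' x 10]; exact mul_le_mul_of_nonneg_right hx (hp 10)
  have h9 : 1 ≤ x ^ 9 := one_le_pow₀ (by omega)
  have h1 : x ≤ x ^ 9 := le_self_pow₀ (by omega) (by norm_num)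
  have := hp 2; have := hp 3; have := hp 4; have := hp 5; have := hp 6; have := hp 7; have := hp 8; have := hp 11
  have := hm 2 (by norm_num); have := hm 3 (by norm_num); have := hm 4 (by norm_num); have := hm 5 (by norm_num)
  have := hm 6 (by norm_num); have := hm 7 (by norm_num); have := hm 8 (by norm_num)
  have := Int.le_of_dvd (by rw [hR]; linarith) hd
  rw [hR] at this
  linarith

theorem small_all : (List.range' 2 2998).all smallOK = true := by decide +kernel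

theorem ordE_not_dvd {q : ℕ} (hq : IsPrimePow q) {j : ℕ} (hj1 : 1 ≤ j) (hj2 : j ≤ 2) :
    ¬ (q * (q ^ 6 - q ^ 3 + 1) * (q ^ 4 + 1) - j) ∣ ordE q := by
  intro hd
  have hq2 := hq.two_le
  rcases lt_or_ge q 3000 with hlt | hge
  · have h := (List.all_eq_true.1 (List.all_eq_true.1 small_all q (List.mem_range'_1.2 ⟨hq2, by omega⟩)) j
      (List.mem_range'_1.2 ⟨hj1, by omega⟩))
    simp only [Bool.or_eq_true, Bool.and_eq_true, Nat.beq_eq, Nat.blt_eq] at h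
    rw [Nat.mod_eq_zero_of_dvd hd] at h
    simp at h
  · obtain ⟨T, hT⟩ : ∃ T, T = q * (q ^ 6 - q ^ 3 + 1) * (q ^ 4 + 1) := ⟨_, rfl⟩
    obtain ⟨P, hP⟩ : ∃ P, P = (q ^ 2 - 1) * (q ^ 5 + 1) * (q ^ 6 - 1) * (q ^ 8 - 1) * (q ^ 9 + 1) * (q ^ 12 - 1) :=
      ⟨_, rfl⟩
    rw [ordE, ← hP, ← hT] at hd
    have hqT : q ∣ T := hT ▸ (dvd_mul_right q _).trans (dvd_mul_right _ _)
    have hTge : q ≤ T := Nat.le_of_dvd (by rw [hT]; positivity) hqT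
    obtain ⟨p, f, hp, hf, rfl⟩ := hq
    obtain ⟨g, hg⟩ : ∃ g, g = Nat.gcd (T - j) ((p ^ f) ^ 36) := ⟨_, rfl⟩
    have hgp : g ∣ (p ^ f) ^ 36 := hg ▸ Nat.gcd_dvd_right _ _
    obtain ⟨a, -, ha⟩ := (Nat.dvd_prime_pow hp.nat_prime).1 (by rwa [← pow_mul] at hgp : g ∣ p ^ (f * 36))
    have hgk : g ∣ T - j := hg ▸ Nat.gcd_dvd_left _ _
    have haf : a < f := by
      by_contra hge'
      have : p ^ f ∣ T - j := (Nat.pow_dvd_pow p (by omega)).trans (ha ▸ hgk)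
      have h' : p ^ f ∣ T - (T - j) := Nat.dvd_sub hqT this
      rw [Nat.sub_sub_self (by omega)] at h'
      have := Nat.le_of_dvd (by omega) h'
      omega
    have hgj : g ∣ j := by
      have : g ∣ T := (ha ▸ Nat.pow_dvd_pow p haf.le).trans hqT
      have h' := Nat.dvd_sub this hgk
      rwa [Nat.sub_sub_self (by omega)] at h'
    have h1 : T - j ∣ g * P := hg ▸ Nat.dvd_gcd_mul_iff_dvd_mul.2 hd
    have h2 : T - j ∣ j * P := h1.trans (Nat.mul_dvd_mul_right hgj P)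
    have h3 := Int.natCast_dvd_natCast.2 h2
    have e : ∀ n, 1 ≤ (p ^ f) ^ n := fun n => Nat.one_le_pow _ _ (by omega)
    rw [Nat.cast_sub (by omega : j ≤ T), hT, hP] at h3
    have e63 : (p ^ f) ^ 3 ≤ (p ^ f) ^ 6 := Nat.pow_le_pow_right (by omega) (by norm_num)
    push_cast [Nat.cast_sub (e 2), Nat.cast_sub e63, Nat.cast_sub (e 6), Nat.cast_sub (e 8),
      Nat.cast_sub (e 12)] at h3
    obtain ⟨x, hx⟩ : ∃ x : ℤ, x = (p : ℤ) ^ f := ⟨_, rfl⟩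
    have hxge : 3000 ≤ x := by rw [hx]; exact_mod_cast hge
    rw [← hx, show x * (x ^ 6 - x ^ 3 + 1) * (x ^ 4 + 1) = x ^ 11 - x ^ 8 + x ^ 7 + x ^ 5 - x ^ 4 + x by ring] at h3
    interval_cases j <;> push_cast at h3
    · exact big1 x hxge h3
    · exact big2 x hxge h3

end Cfsg.Lib.Chev.SimpDeg.TwE6
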