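import Cfsg.Agent.Lib.Chev.SimplyDegree.TwE6Data

/-!
# The lower bound for the degree of a representation of the twisted type E6

Either the degree reaches the target or it misses it by at most two.
-/

set_option autoImplicit false
set_option linter.unusedSectionVars false
set_option maxRecDepth 100000

namespace Cfsg.Lib.Chev.SimpDeg.TwE6

open Module

/-- The target. -/
def target (q : ℕ) : ℕ := q * (q ^ 6 - q ^ 3 + 1) * (q ^ 4 + 1)

theorem target_add {q : ℕ} (hq : 2 ≤ q) :
    target q + q ^ 8 + q ^ 4 = q ^ 11 + q ^ 7 + q ^ 5 + q := by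
  have h : q ^ 3 ≤ q ^ 6 := Nat.pow_le_pow_right (by omega) (by norm_num)
  rw [target]
  zify [h]
  ring

theorem target_le_pow {q : ℕ} (hq : 2 ≤ q) : target q ≤ q ^ 11 := by
  have e := target_add hq
  have h7 : 2 * q ^ 7 ≤ q ^ 8 := by rw [pow_succ q 7, mul_comm]; exact Nat.mul_le_mul_left _ hq
  have : q ^ 5 ≤ q ^ 7 := Nat.pow_le_pow_right (by omega) (by norm_num)
  have : q ≤ q ^ 4 := Nat.le_self_pow (by norm_num) q
  omega

/-- The contribution of the level 20. -/
def n20 (q : ℕ) : ℕ := (q - 1) * (1 + q + q ^ 3 + q ^ 4 + q ^ 5 + q ^ 6 + q ^ 8 + q ^ 9)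

/-- The contribution of the level 9. -/
def n9 (q : ℕ) : ℕ := (q - 1) * (1 + q ^ 2 + q ^ 4)

theorem levels_sum {q : ℕ} (hq : 2 ≤ q) : (q - 1) * q ^ 10 + n20 q + n9 q + 2 = target q := by
  have e := target_add hq
  obtain ⟨p, rfl⟩ : ∃ p, q = p + 1 := ⟨q - 1, by omega⟩
  simp only [n20, n9, Nat.add_sub_cancel]
  ring_nf at e ⊢
  omega

theorem twice_le {q : ℕ} (hq : 2 ≤ q) : target q ≤ (q - 1) * q ^ 10 + 2 * n20 q := by
  refine (target_le_pow hq).trans ?_
  obtain ⟨p, rfl⟩ : ∃ p, q = p + 2 := ⟨q - 2, by omega⟩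
  simp only [n20, show p + 2 - 1 = p + 1 by omega]
  ring_nf
  omega

section General

variable {G A K : Type*} [Group G] [Group A] [Field K] [Fintype K] {tr : ℕ → ℕ → Tr} {rt : ℕ → ℕ} {es : ℕ → Bool}
  {pos : ℕ → Bool} {unit : Op → Bool} (Z : Tw G A K tr rt es pos unit)
variable {V : Type*} [AddCommGroup V] [Module ℂ V] [FiniteDimensional ℂ V] (ρ : G →* Module.End ℂ V)
variable {n : ℕ} {P : Fin n → ℕ} {I : Flip n} {Q : List ℕ} {θ : AddChar K ℂ}

/-- The non-zero fixed scalars. -/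
abbrev Units₀ (f : K →+* K) : Type _ := {c : K // f c = c ∧ c ≠ 0}

noncomputable instance (f : K →+* K) : Fintype (Units₀ f) := Fintype.ofFinite _

theorem card_units₀ {q : ℕ} (f : K →+* K) (hfix : Nat.card {x : K // f x = x} = q) :
    Fintype.card (Units₀ f) = q - 1 := by
  classical
  have e : Nat.card {x : {x : K // f x = x} // x ≠ ⟨0, map_zero f⟩} = q - 1 := by
    rw [Nat.card_eq_fintype_card, Fintype.card_subtype_compl, Fintype.card_subtype_eq, ← Nat.card_eq_fintype_card, hfix]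
  rw [← e, ← Nat.card_eq_fintype_card]
  exact Nat.card_congr
    { toFun := fun c => ⟨⟨c.1, c.2.1⟩, fun h => c.2.2 (congrArg Subtype.val h)⟩
      invFun := fun c => ⟨c.1.1, c.1.2, fun h => c.2 (Subtype.ext h)⟩
      left_inv := fun _ => rfl
      right_inv := fun _ => rfl }

/-- A level carries the orbits of its fixed single coordinates. -/
theorem lead_sum [DecidableEq K] {reps : List (Op × Fin n)} (H : Z.LevelHyp P I Q θ reps) {ops : List Op}
    (hops : opsOK P tr Q I unit ops = true) {q : ℕ} (hK : Fintype.card K = q ^ 2)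
    (hfix : Nat.card {x : K // Z.f x = x} = q) (S : Finset (Fin n)) (hS : ∀ i ∈ S, I.g i = i)
    (Ls : Fin n → List (Op × Fin n))
    (hL : ∀ i, leadOK (src P tr) (above i) i (flatOps I (Ls i)) = true ∧ ∀ p ∈ Ls i, p.1 ∈ ops) :
    (∑ i ∈ S, q ^ (flatOps I (Ls i)).length *
        ∑ c : Units₀ Z.f, finrank ℂ (Z.eig ρ I Q θ reps (Pi.single i c.1))) +
      finrank ℂ (Z.eig ρ I Q θ reps 0) ≤ finrank ℂ (Z.Fix ρ Q) := by
  classical
  choose p hp hp' using fun i => exists_adm_family Z.f I hK hfix (Ls i)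
  obtain ⟨g, hg⟩ : ∃ g : (Σ i : {i // i ∈ S}, Units₀ Z.f × Fin (q ^ (flatOps I (Ls i.1)).length)) → (Fin n → K),
      g = fun x => leadVec (src P tr) (fun i => flatOps I (Ls i)) ⟨x.1.1, ⟨x.2.1.1, x.2.1.2.2⟩, p x.1.1 x.2.2⟩ :=
    ⟨_, rfl⟩
  have hinj : Function.Injective g := by
    rintro ⟨⟨i, hi⟩, c, x⟩ ⟨⟨j, hj⟩, d, y⟩ e
    rw [hg] at e
    have e' := leadVec_injective (src P tr) (fun i => flatOps I (Ls i)) (fun i => (hL i).1) e
    obtain rfl : i = j := congrArg Sigma.fst e'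
    have e'' := eq_of_heq (Sigma.mk.inj_iff.1 e').2
    obtain rfl : c = d := Subtype.ext (congrArg (fun z => (z.1 : K)) e'')
    obtain rfl : x = y := hp i (congrArg Prod.snd e'')
    rfl
  have hmem : ∀ x, (g x ≠ 0 ∧ Inv Z.f I (g x)) ∧ finrank ℂ (Z.eig ρ I Q θ reps (Pi.single x.1.1 x.2.1.1)) ≤
      finrank ℂ (Z.eig ρ I Q θ reps (g x)) := by
    rintro ⟨⟨i, hi⟩, c, x⟩
    obtain ⟨h1, h2⟩ := Z.multi_eig ρ H hops (hL i).2 (hp' i x) (single_inv Z.f I H.flip (hS i hi) c.2.1)
    refine ⟨⟨fun e => c.2.2 ?_, by rw [hg]; exact h1⟩, by rw [hg]; exact h2⟩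
    rw [hg] at e
    exact ((multi_lead (src P tr) _ (hL i).1 _ (single_above i c.1) (p i x)).1.trans
      (Pi.single_eq_same (M := fun _ => K) i c.1)).symm.trans (congrFun e i)
  refine le_trans (Nat.add_le_add_right ?_ _) (Z.family_le ρ H g hinj fun x => (hmem x).1)
  refine le_trans ?_ (Finset.sum_le_sum fun x _ => (hmem x).2)
  rw [Fintype.sum_sigma, ← Finset.sum_attach S]
  refine le_of_eq (Finset.sum_congr rfl fun i _ => ?_)
  rw [Fintype.sum_prod_type, Finset.mul_sum]
  refine Finset.sum_congr rfl fun x _ => ?_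
  show _ = ∑ _y : Fin (q ^ (flatOps I (Ls i.1)).length), finrank ℂ (Z.eig ρ I Q θ reps (Pi.single i.1 x.1))
  rw [Finset.sum_const, Finset.card_univ, Fintype.card_fin, smul_eq_mul]

end General

variable {G A K : Type*} [Group G] [Group A] [Field K] [Fintype K] (Z : Tw G A K tb rt es pos unit)
variable {V : Type*} [AddCommGroup V] [Module ℂ V] [FiniteDimensional ℂ V] (ρ : G →* Module.End ℂ V)
variable (θ : AddChar K ℂ)

/-- The assumptions on the group, the character and the representation. -/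
structure Setting (q : ℕ) : Prop where
  card : Fintype.card K = q ^ 2
  fix : Nat.card {x : K // Z.f x = x} = q
  two : 2 ≤ q
  moves : ∃ ω, Z.f ω ≠ ω
  char : ∃ c, Z.f c = c ∧ θ c ≠ 1
  faithful : ρ (Z.el (.long 71) 1) ≠ 1
  small : finrank ℂ V < target q

variable {Z ρ θ} {q : ℕ} (S : Setting Z ρ θ q)
include S

theorem hyp {n : ℕ} {P : Fin n → ℕ} {Q : List ℕ} {reps : List (Op × Fin n)} {ops : List Op}
    (h : levelChk P Q reps ops = true) :
    Z.LevelHyp P (flipOf P) Q θ reps ∧ opsOK P tb Q (flipOf P) unit ops = true := by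
  simp only [levelChk, Bool.and_eq_true] at h
  exact ⟨⟨h.1.1.1, h.1.1.2, h.1.2, S.moves, S.char⟩, h.2⟩

/-- The multiplicity of a character of the level 20. -/
local notation "E20" => fun a => finrank ℂ (Z.eig ρ (flipOf P20) [71] θ reps20 a)

theorem exists_char20 : ∃ a, a ≠ 0 ∧ Inv Z.f (flipOf P20) a ∧ 1 ≤ E20 a := by
  classical
  obtain ⟨H, hops⟩ := hyp S lev2_ok
  obtain ⟨a, ha0, hainv, ha⟩ : ∃ a, a ≠ 0 ∧ Inv Z.f (flipOf P2) a ∧
      1 ≤ finrank ℂ (Z.eig ρ (flipOf P2) [] θ reps2 a) := by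
    by_contra! hall
    have e := Z.sum_finrank ρ P2 (flipOf P2) [] θ H
    rw [Finset.sum_eq_single (0 : ↥(invSub (flipOf P2) Z.f)) (fun a _ ha => by
      have := hall a.1 (fun e => ha (Subtype.ext e)) a.2
      omega) (by simp), Z.Fix_nil, finrank_top] at e
    simp only [ZeroMemClass.coe_zero] at e
    refine S.faithful (LinearMap.ext fun v => ?_)
    have hv : v ∈ Z.eig ρ (flipOf P2) [] θ reps2 0 := by
      rw [Submodule.eq_top_of_finrank_eq e]; trivial
    have := Z.eig_el ρ H.ab H.flip H.span (p := (.long 71, 1)) (by simp [reps2]) (map_one Z.f) hv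
    simpa [dotV] using this
  have hc := Z.closed_eig ρ H hops 1
  -- move to a character vanishing on the highest root
  obtain ⟨b, hb, hb0⟩ : ∃ b, (Inv Z.f (flipOf P2) b ∧ 1 ≤ finrank ℂ (Z.eig ρ (flipOf P2) [] θ reps2 b)) ∧ b 0 ≠ 0 := by
    by_cases h0 : a 0 = 0
    · refine ⟨_, hc (.long 46) (by simp [ops2]) 1 (map_one Z.f) a ⟨hainv, ha⟩, ?_⟩
      obtain ⟨b', hb'⟩ : ∃ b' : Bool, src P2 tb 46 0 = some (1, b') := by decide +kernel
      rw [opTau, tau_some _ hb', h0, zero_add, mul_one]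
      refine mul_ne_zero (sg_ne_zero b') fun h1 => ha0 (funext fun i => ?_)
      fin_cases i
      · exact h0
      · exact h1
    · exact ⟨a, ⟨hainv, ha⟩, h0⟩
  obtain ⟨b', hb'⟩ : ∃ b' : Bool, src P2 tb 25 1 = some (0, b') := by decide +kernel
  obtain ⟨u, hu⟩ : ∃ u, u = -(b 1) / (sg K b' * b 0) := ⟨_, rfl⟩
  have hfixed : ∀ i, (flipOf P2).g i = i ∧ (flipOf P2).e i = true := by decide +kernel
  have hbf : ∀ i, Z.f (b i) = b i := fun i => by
    have := hb.1 i
    rw [(hfixed i).1, (hfixed i).2, show sg K true = (1 : K) from rfl, one_mul] at this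
    exact this.symm
  have huf : Z.f u = u := by rw [hu, map_div₀, map_neg, map_mul, map_sg, hbf, hbf]
  obtain ⟨hb2inv, hb2⟩ := hc (.long 25) (by simp [ops2]) u huf b hb
  obtain ⟨v, hv, hv0⟩ := Submodule.exists_mem_ne_zero_of_ne_bot
    (p := Z.eig ρ (flipOf P2) [] θ reps2 (opTau (src P2 tb) Z.f (.long 25) u b))
    (fun e => by rw [Submodule.finrank_eq_zero.2 e] at hb2; omega)
  have h1 : opTau (src P2 tb) Z.f (.long 25) u b 1 = 0 := by
    rw [opTau, tau_some _ hb', hu]
    field_simp [sg_ne_zero, hb0]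
    ring
  have h0 : opTau (src P2 tb) Z.f (.long 25) u b 0 = b 0 := by
    rw [opTau, tau_none _ (by decide +kernel)]
  obtain ⟨hL, hLu⟩ : closedOK tb rt es pos unit [.long 71] = true ∧ ([.long 71] : List Op).all unit = true := by
    decide +kernel
  have hv71 : v ∈ Z.Fix ρ [71] := Z.eig_fix ρ H.ab H.flip H.span (L := [.long 71]) hL hLu
    (fun op hop => Or.inr ⟨1, by simp at hop; simp [hop, reps2], h1, by rw [(hfixed 1).1]; exact h1⟩) hv
  obtain ⟨H20, -⟩ := hyp S lev20_ok
  by_contra! hall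
  have e := Z.sum_finrank ρ P20 (flipOf P20) [71] θ H20
  rw [Finset.sum_eq_single (0 : ↥(invSub (flipOf P20) Z.f)) (fun a _ ha => by
    have := hall a.1 (fun e => ha (Subtype.ext e)) a.2
    beta_reduce at this
    omega) (by simp)] at e
  simp only [ZeroMemClass.coe_zero] at e
  have hv20 : v ∈ Z.eig ρ (flipOf P20) [71] θ reps20 0 := by
    rw [Submodule.eq_of_le_of_finrank_eq (Z.eig_le ρ _ _ θ reps20 _) e]
    exact hv71
  obtain ⟨c₀, hc₀, hθ⟩ := S.char
  have hw : Z.f (c₀ / b 0) = c₀ / b 0 := by rw [map_div₀, hc₀, hbf]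
  have e1 := Z.eig_el ρ H.ab H.flip H.span (p := (.long 70, 0)) (by simp [reps2]) hw hv
  have e2 := Z.eig_el ρ H20.ab H20.flip H20.span (p := (.long 70, 19)) (by simp [reps20]) hw hv20
  rw [e1] at e2
  simp only [opVec, dotV_single, h0, Pi.zero_apply, zero_mul, AddChar.map_zero_eq_one, mul_div_cancel₀ _ hb0] at e2
  exact hθ (smul_left_injective ℂ hv0 e2)

theorem big_family {ι : Type*} [Fintype ι] (g : ι → (Fin 20 → K)) (hg : Function.Injective g) {d : ℕ}
    (h : ∀ x, (Inv Z.f (flipOf P20) (g x) ∧ d ≤ E20 (g x)) ∧ g x ≠ 0) : d * Fintype.card ι ≤ finrank ℂ V := by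
  classical
  obtain ⟨H, -⟩ := hyp S lev20_ok
  have := Z.family_le ρ H g hg fun x => ⟨(h x).2, (h x).1.1⟩
  have h1 : d * Fintype.card ι ≤ ∑ x, E20 (g x) := by
    rw [mul_comm, ← Finset.card_univ]
    exact Finset.card_nsmul_le_sum _ _ d fun x _ => (h x).1.2
  have h2 := Submodule.finrank_le (Z.Fix ρ [71])
  beta_reduce at h1
  omega

/-- Every fixed single coordinate of the level 20 carries a bound carried by some non-zero character. -/
theorem singles20 {d : ℕ} (hd : 1 ≤ d) {a : Fin 20 → K} (ha0 : a ≠ 0) (hainv : Inv Z.f (flipOf P20) a)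
    (ha : d ≤ E20 a) {i : Fin 20} (hi : i ∈ longs20) {c : K} (hcf : Z.f c = c) (hc : c ≠ 0) :
    d ≤ E20 (Pi.single i c) := by
  classical
  obtain ⟨H, hops⟩ := hyp S lev20_ok
  have hcl := Z.closed_eig ρ H hops d
  obtain ⟨j, hj⟩ := Function.ne_iff.1 ha0
  obtain ⟨b, hb, hb19⟩ := rankClimb (src P20 tb) Z.f hcl S.moves climb20_ok ⟨hainv, ha⟩ hj
  obtain ⟨hcl20, hpick, hshift⟩ := clear20_ok
  rcases clear_dichotomy (src P20 tb) Z.f (flipOf P20) H.flip S.card S.fix hcl (fun _ h => h.1) hcl20 hpick hshift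
      hb hb19 with htop | ⟨g, hg, hg'⟩
  swap
  · exfalso
    have h1 := big_family S g hg hg'
    have h2 := target_le_pow S.two
    have h3 : (flatOps (flipOf P20) (lows20 19)).length = 9 := lengths_ok.1 19 (by decide)
    rw [Fintype.card_fin, h3] at h1
    have h4 : q ^ (9 + 2) ≤ d * q ^ (9 + 2) := Nat.le_mul_of_pos_left _ hd
    have := S.small
    simp only [Nat.reduceAdd] at h1 h4
    omega
  obtain ⟨hback, hfix19⟩ := (moves20_ok 19 (by decide)).2
  have hbot := zmove (src P20 tb) Z.f hcl hback htop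
  have hc₀f : Z.f (sg K (back20 19).2 * b 19) = sg K (back20 19).2 * b 19 := by
    have := hb.1 19
    simp only [Flip.ok, decide_eq_true_eq] at *
    have hI := H.flip
    simp only [Flip.ok, decide_eq_true_eq] at hI
    rw [hfix19, (hI 19).2.2 hfix19, show sg K true = (1 : K) from rfl, one_mul] at this
    rw [map_mul, map_sg, ← this]
  have hc₀ : sg K (back20 19).2 * b 19 ≠ 0 := mul_ne_zero (sg_ne_zero _) hb19
  obtain ⟨c₀, hc₀eq⟩ : ∃ c₀ : Z.F₀, (c₀ : K) = sg K (back20 19).2 * b 19 := ⟨⟨_, hc₀f⟩, rfl⟩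
  obtain ⟨σ, hσ⟩ : ∃ σ, σ = (moves20 i).2 := ⟨_, rfl⟩
  obtain ⟨hmv, -, -⟩ := moves20_ok i hi
  obtain ⟨hedge, h39, h32⟩ := edge20_ok
  -- the long edge varies the parameter
  have key : ∀ e : Z.F₀, e ≠ 0 → Inv Z.f (flipOf P20) (Pi.single 0 (e : K)) ∧ d ≤ E20 (Pi.single 0 (e : K)) := by
    intro e he
    obtain ⟨R, hR⟩ : ∃ R : (Fin 20 → Z.F₀) → Prop, ∀ w, R w = (Inv Z.f (flipOf P20) (fun m => (w m : K)) ∧
        d ≤ E20 (fun m => (w m : K))) := ⟨_, fun _ => rfl⟩
    have hclosed : Closed (src P20 tb) [39, 32] R := by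
      intro s hs u w hw
      rw [hR] at hw ⊢
      have hmem : Op.long s ∈ ops20 := by
        simp only [List.mem_cons, List.not_mem_nil, or_false] at hs
        rcases hs with rfl | rfl
        exacts [h39, h32]
      have := hcl _ hmem (u : K) u.2 _ hw
      have e : (fun m => ((tau (src P20 tb) s u w m : Z.F₀) : K)) =
          opTau (src P20 tb) Z.f (.long s) (u : K) (fun m => (w m : K)) := funext fun m => by
        rcases h : src P20 tb s m with _ | ⟨k, b⟩
        · simp [opTau, tau_none _ h]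
        · cases b <;> simp [opTau, tau_some _ h, sg]
      rw [e]
      exact this
    have hsing : ∀ e : Z.F₀, (fun m => ((Pi.single 0 e : Fin 20 → Z.F₀) m : K)) = Pi.single 0 (e : K) := fun e =>
      funext fun m => by
        rcases eq_or_ne m 0 with rfl | hm
        · simp
        · simp [hm]
    have hstart : R (Pi.single 0 c₀) := by rw [hR, hsing, hc₀eq]; exact hbot
    have := (single_edge (src P20 tb) hclosed (i := 0) (j := 1) (s := 32) (s' := 39) (by simp) (by simp) hedge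
      (fun e => hc₀ (by rw [← hc₀eq, e]; simp)) hstart he).1
    rwa [hR, hsing] at this
  have hcσ : sg K σ * c ≠ 0 := mul_ne_zero (sg_ne_zero _) hc
  obtain ⟨h1, h2⟩ := key ⟨sg K σ * c, by
      show Z.f (sg K σ * c) = sg K σ * c
      rw [map_mul, map_sg, hcf]⟩ (fun e => hcσ (congrArg Subtype.val e))
  have := (zmove (src P20 tb) Z.f hcl hmv ⟨h1, h2⟩).2
  rwa [← hσ, ← mul_assoc, sg_mul_self, one_mul] at this

/-- The level 20 with all fixed single coordinates bounded below. -/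
theorem level20_le {d : ℕ} (h : ∀ i ∈ longs20, ∀ c, Z.f c = c → c ≠ 0 → d ≤ E20 (Pi.single i c)) :
    d * n20 q + finrank ℂ (Z.eig ρ (flipOf P20) [71] θ reps20 0) ≤ finrank ℂ (Z.Fix ρ [71]) := by
  classical
  obtain ⟨H, hops⟩ := hyp S lev20_ok
  refine le_trans (Nat.add_le_add_right ?_ _)
    (lead_sum Z ρ H hops S.card S.fix longs20 (fun i hi => (moves20_ok i hi).2.2) lows20 lead20_ok)
  have h1 : ∀ i ∈ longs20, q ^ (flatOps (flipOf P20) (lows20 i)).length * ((q - 1) * d) ≤
      q ^ (flatOps (flipOf P20) (lows20 i)).length * ∑ c : Units₀ Z.f, E20 (Pi.single i c.1) := fun i hi => by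
    refine Nat.mul_le_mul_left _ ?_
    rw [← card_units₀ Z.f S.fix, ← Finset.card_univ]
    exact Finset.card_nsmul_le_sum _ _ d fun c _ => h i hi c.1 c.2.1 c.2.2
  refine le_trans ?_ (Finset.sum_le_sum h1)
  rw [← Finset.sum_mul, Finset.sum_congr rfl fun i hi => by rw [lengths_ok.1 i hi]]
  refine le_of_eq ?_
  simp [longs20, n20]
  ring

theorem e20_top (c : Units₀ Z.f) : 1 ≤ E20 (Pi.single 19 c.1) := by
  obtain ⟨a, ha0, hainv, ha⟩ := exists_char20 S
  exact singles20 S le_rfl ha0 hainv ha (i := 19) (by decide) c.2.1 c.2.2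

/-- The characters of the centre. -/
theorem level11_le : (q - 1) * q ^ 10 + finrank ℂ (Z.Fix ρ [71]) ≤ finrank ℂ V := by
  classical
  obtain ⟨H, hops⟩ := hyp S lev11_ok
  obtain ⟨hclear, hlead, hzero⟩ := clear11_ok
  have hfix10 : (flipOf P11).g 10 = 10 := by decide +kernel
  obtain ⟨g, hg⟩ := Z.long_swap swap_ok
  -- every character of the centre gives the single coordinate
  have hsingle : ∀ c : Units₀ Z.f, 1 ≤ finrank ℂ (Z.eig ρ (flipOf P11) [] θ reps11 (Pi.single 10 c.1)) := by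
    intro c
    obtain ⟨H20, -⟩ := hyp S lev20_ok
    have h20 := e20_top S c
    obtain ⟨v, hv, hv0⟩ := Submodule.exists_mem_ne_zero_of_ne_bot
      (p := Z.eig ρ (flipOf P20) [71] θ reps20 (Pi.single 19 c.1))
      (fun e => by beta_reduce at h20; rw [Submodule.finrank_eq_zero.2 e] at h20; omega)
    have hw0 : ρ g v ≠ 0 := fun e => hv0 (by
      have := congrArg (ρ g⁻¹) e
      rwa [← Module.End.mul_apply, ← map_mul, inv_mul_cancel, map_one, Module.End.one_apply, map_zero] at this)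
    have hf := Z.fiber_le ρ H (m := 10) (s := 71) (by simp [reps11]) c.2.1 (W := ℂ ∙ ρ g v)
      (by rw [Z.Fix_nil]; exact le_top) (fun w hw u hu => by
        obtain ⟨l, rfl⟩ := Submodule.mem_span_singleton.1 hw
        rw [map_smul, ← hg u hu, map_mul, map_mul, Module.End.mul_apply, Module.End.mul_apply,
          ← Module.End.mul_apply (ρ g⁻¹) (ρ g), ← map_mul, inv_mul_cancel, map_one, Module.End.one_apply,
          Z.eig_el ρ H20.ab H20.flip H20.span (p := (.long 70, 19)) (by simp [reps20]) hu hv, map_smul,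
          smul_comm]
        simp [opVec, dotV_single])
    rw [finrank_span_singleton hw0] at hf
    obtain ⟨a, ha, ha1⟩ : ∃ a : ↥(invSub (flipOf P11) Z.f), a.1 10 = c.1 ∧
        1 ≤ finrank ℂ (Z.eig ρ (flipOf P11) [] θ reps11 a.1) := by
      by_contra! hall
      rw [Finset.sum_eq_zero fun a ha => by have := hall a (Finset.mem_filter.1 ha).2; omega] at hf
      omega
    obtain ⟨b, hb, hbγ, hbz⟩ := clear (src P11 tb) Z.f (flipOf P11) H.flip (Z.closed_eig ρ H hops 1) (fun _ h => h.1)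
      hclear (a := a.1) ⟨a.2, ha1⟩ (ha ▸ c.2.2)
    have hbs : b = Pi.single 10 c.1 := funext fun m => by
      rcases eq_or_ne m 10 with rfl | hm
      · rw [Pi.single_eq_same, hbγ, ha]
      · rw [Pi.single_eq_of_ne (M := fun _ => K) hm, hbz m (hzero m hm)]
    exact hbs ▸ hb.2
  obtain ⟨p, hp, hp'⟩ := exists_adm_family Z.f (flipOf P11) S.card S.fix low11
  have hops11 : ∀ p ∈ low11, p.1 ∈ ops11 := by decide +kernel
  obtain ⟨fam, hfam⟩ : ∃ fam : Units₀ Z.f × Fin (q ^ (flatOps (flipOf P11) low11).length) → (Fin 11 → K),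
      fam = fun x => multi (src P11 tb) (flatOps (flipOf P11) low11) (p x.2) (Pi.single 10 x.1.1) := ⟨_, rfl⟩
  have htop : ∀ x, fam x 10 = x.1.1 := fun x => by
    rw [hfam]
    exact ((multi_lead _ _ hlead _ (fun m hm => by simp at hm) _).1).trans (Pi.single_eq_same (M := fun _ => K) 10 _)
  have hinj : Function.Injective fam := by
    intro x y e
    have hc : x.1 = y.1 := Subtype.ext (by rw [← htop x, e, htop y])
    refine Prod.ext hc (hp (funext fun l => ?_))
    obtain ⟨b, hb, hv⟩ := (multi_lead _ _ hlead (Pi.single 10 x.1.1) (fun m hm => by simp at hm) (p x.2)).2.2 l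
    obtain ⟨b', hb', hv'⟩ := (multi_lead _ _ hlead (Pi.single 10 x.1.1) (fun m hm => by simp at hm) (p y.2)).2.2 l
    obtain rfl : b = b' := (Prod.ext_iff.1 (Option.some.inj (hb.symm.trans hb'))).2
    have e1 := congrFun e ((flatOps (flipOf P11) low11).get l).2
    rw [hfam] at e1
    beta_reduce at e1
    rw [← hc, hv, hv', Pi.single_eq_same (M := fun _ => K)] at e1
    exact mul_left_cancel₀ (sg_ne_zero b) (mul_right_cancel₀ x.1.2.2 (add_left_cancel e1))
  have hmem : ∀ x, Inv Z.f (flipOf P11) (fam x) ∧ finrank ℂ (Z.eig ρ (flipOf P11) [] θ reps11 (Pi.single 10 x.1.1)) ≤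
      finrank ℂ (Z.eig ρ (flipOf P11) [] θ reps11 (fam x)) := fun x => by
    rw [hfam]
    exact Z.multi_eig ρ H hops hops11 (hp' x.2) (single_inv Z.f _ H.flip hfix10 x.1.2.1)
  have hu71 : unit (.long 71) = true := by decide +kernel
  have hfam' := Z.family_fix_le ρ H (m := 10) (s := 71) (by simp [reps11]) fam hinj
    (fun x => ⟨(htop x).symm ▸ x.1.2.2, (hmem x).1⟩) (W := Z.Fix ρ [71]) (by rw [Z.Fix_nil]; exact le_top)
    (fun v hv u hu => hv _ (Z.el_mem_X hu71 hu (by simp [Op.roots])))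
  rw [Z.Fix_nil, finrank_top] at hfam'
  refine le_trans (Nat.add_le_add_right ?_ _) hfam'
  refine le_trans ?_ (Finset.card_nsmul_le_sum _ _ 1 fun x _ => (hsingle x.1).trans (hmem x).2)
  rw [Finset.card_univ, Fintype.card_prod, card_units₀ Z.f S.fix, Fintype.card_fin, lengths_ok.2.2, smul_eq_mul,
    mul_one]

/-- Below the target the single coordinates of the level 20 have multiplicity one. -/
theorem single_eq_one {c : K} (hcf : Z.f c = c) (hc : c ≠ 0) : E20 (Pi.single 0 c) = 1 := by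
  obtain ⟨a, ha0, hainv, ha⟩ := exists_char20 S
  refine le_antisymm ?_ (singles20 S le_rfl ha0 hainv ha (i := 0) (by decide) hcf hc)
  by_contra h2
  push Not at h2
  have h0 : (Pi.single 0 c : Fin 20 → K) ≠ 0 := fun e => hc (by simpa using congrFun e 0)
  obtain ⟨H, -⟩ := hyp S lev20_ok
  have hinv := single_inv Z.f (flipOf P20) H.flip (moves20_ok 0 (by decide)).2.2 hcf
  have h3 := level20_le S (d := 2) fun i hi e he he0 => singles20 S one_le_two h0 hinv h2 hi he he0
  have h4 := level11_le S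
  have h5 := twice_le S.two
  have := S.small
  omega

/-- The first characters of the level 20 are fixed by all other positive roots. -/
theorem bot_fixed {c : K} (hcf : Z.f c = c) (hc : c ≠ 0) :
    Z.eig ρ (flipOf P20) [71] θ reps20 (Pi.single 0 c) ≤ Z.eig ρ (flipOf P46) pos46 θ reps46 (Pi.single 0 c) := by
  classical
  intro v hv
  obtain ⟨H, hops⟩ := hyp S lev20_ok
  obtain ⟨H46, -⟩ := hyp S lev46_ok
  have hone := single_eq_one S hcf hc
  have scalar : ∀ p ∈ triples, ∀ op ∈ [p.2.1, p.2.2], ∀ u, op.adm Z.f u → ∃ l : ℂ, ρ (Z.el op u) v = l • v := by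
    intro p hp op hop u hu
    rcases eq_or_ne v 0 with rfl | hv0
    · exact ⟨1, by simp⟩
    obtain ⟨hmem, hsrc⟩ := stab20_ok p hp op hop
    have hops' := hops
    simp only [opsOK, List.all_eq_true, Bool.and_eq_true] at hops'
    obtain ⟨⟨h1, h2⟩, h3⟩ := hops' op hmem
    have h := Tw.Mover.eig_map Z ρ P20 (flipOf P20) [71] θ H.flip
      (Z.opMover P20 (flipOf P20) [71] H.ab H.flip h1 (List.all_eq_true.2 h2) h3 hu) H.span _ hv
    have e : opTau (src P20 tb) Z.f op u (Pi.single 0 c) = Pi.single 0 c := by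
      have key : ∀ s ∈ op.roots, ∀ w : K, tau (src P20 tb) s w (Pi.single 0 c) = Pi.single 0 c := fun s hs w =>
        funext fun m => tau_zero_src _ fun j b hj => Pi.single_eq_of_ne (M := fun _ => K)
          (fun e => hsrc s hs m (by rw [hj, ← e]; rfl)) _
      cases op with
      | long s => exact key s (by simp [Op.roots]) u
      | pair s s' e => rw [opTau, key s' (by simp [Op.roots]), key s (by simp [Op.roots])]
    rw [show (Z.opMover P20 (flipOf P20) [71] H.ab H.flip h1 (List.all_eq_true.2 h2) h3 hu).dual (Pi.single 0 c) =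
      Pi.single 0 c from e] at h
    obtain ⟨l, hl⟩ := (finrank_eq_one_iff_of_nonzero'
      (⟨v, hv⟩ : Z.eig ρ (flipOf P20) [71] θ reps20 (Pi.single 0 c)) (fun e => hv0 (congrArg Subtype.val e))).1 hone
      ⟨_, h⟩
    exact ⟨l, (congrArg Subtype.val hl).symm⟩
  obtain ⟨hlist, hlu⟩ : closedOK tb rt es pos unit pos46L = true ∧ pos46L.all unit = true := by
    have := lists_ok.2.1
    simpa [listChk] using this
  have hfix : v ∈ Z.Fix ρ pos46 := by
    refine Z.mem_Fix ρ hlist fun op hop u hu => ?_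
    have hne : op ≠ .long 46 := by
      have : Op.long 46 ∉ pos46L := by decide +kernel
      exact fun e => this (e ▸ hop)
    rcases triples_ok op hop with hq | ⟨p, hp, rfl⟩
    · have hsp := split20_ok.1
      simp only [splitAt, decide_eq_true_eq] at hsp
      have hunit : unit op = true := List.all_eq_true.1 hlu op hop
      rcases hsp op (List.mem_filter.2 ⟨hq, decide_eq_true hne⟩) with hQ | ⟨m, hm, hk, hk'⟩
      · exact hv.1 _ (Z.el_mem_X hunit hu hQ)
      · rw [Z.eig_el ρ H.ab H.flip H.span hm hu hv]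
        have h0 := Pi.single_eq_of_ne (M := fun _ => K) (by simpa using hk) c
        have h0' := Pi.single_eq_of_ne (M := fun _ => K) (by simpa using hk') c
        cases op <;> simp [opVec, dotV_add, dotV_single, h0, h0']
    · exact Z.fix_of_scalar ρ S.moves (comm_ok p hp) (scalar p hp _ (by simp)) (scalar p hp _ (by simp)) hu
  refine Z.mem_eig ρ H46.flip H46.span hfix fun p hp u hu => ?_
  obtain rfl : p = (Op.long 46, 0) := by simpa [reps46] using hp
  have := Z.eig_el ρ H.ab H.flip H.span (p := (.long 46, 0)) (by simp [reps20]) hu hv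
  rw [this]
  simp [opVec, dotV_single]

/-- All positive roots but 39 leave room for the characters of 39. -/
theorem level39_le : q - 1 ≤ ∑ c : Units₀ Z.f, finrank ℂ (Z.eig ρ (flipOf P39) pos39 θ reps39 (Pi.single 0 c.1)) := by
  classical
  obtain ⟨H46, -⟩ := hyp S lev46_ok
  obtain ⟨H39, -⟩ := hyp S lev39_ok
  obtain ⟨hlp, hl46, hl39, -, -⟩ := lists_ok
  simp only [listChk, Bool.and_eq_true] at hlp hl46 hl39
  have g0 : ∀ (P : Fin 1 → ℕ), (flipOf P).g 0 = 0 := fun P => Subsingleton.elim _ _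
  have zero_eq : ∀ (P : Fin 1 → ℕ) (Q : List ℕ) (reps : List (Op × Fin 1)), Z.LevelHyp P (flipOf P) Q θ reps →
      (∀ r ∈ Q, r ∈ posL.flatMap Op.roots) → P 0 ∈ posL.flatMap Op.roots →
      (∀ op ∈ posL, (∀ r ∈ op.roots, r ∈ Q) ∨ (op, (0 : Fin 1)) ∈ reps) →
      Z.eig ρ (flipOf P) Q θ reps 0 = Z.Fix ρ (posL.flatMap Op.roots) := fun P Q reps H hQ hP hsp => by
    refine le_antisymm (fun v hv => Z.eig_fix ρ H.ab H.flip H.span hlp.1 hlp.2
      (fun op hop => (hsp op hop).imp id fun h => ⟨0, h, rfl, rfl⟩) hv) ?_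
    exact Z.le_eig_zero ρ H.flip H.span hQ fun m => by rw [Subsingleton.elim m 0]; exact hP
  have z46 := zero_eq P46 pos46 reps46 H46 (by decide +kernel) (by decide +kernel) (by decide +kernel)
  have z39 := zero_eq P39 pos39 reps39 H39 (by decide +kernel) (by decide +kernel) (by decide +kernel)
  obtain ⟨hp, hspb, hspa, hu⟩ := pair_ok
  have hpair : finrank ℂ (Z.Fix ρ pos46) = finrank ℂ (Z.Fix ρ pos39) :=
    Z.finrank_long_pair ρ hp hl46.1 hl46.2 hspb hl39.1 hl39.2 hspa hu
  have h46 := Z.family_le ρ H46 (fun c : Units₀ Z.f => (Pi.single 0 c.1 : Fin 1 → K))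
    (fun c d e => Subtype.ext (by simpa using congrFun e 0))
    fun c => ⟨fun e => c.2.2 (by simpa using congrFun e 0), single_inv Z.f _ H46.flip (g0 _) c.2.1⟩
  have h1 : q - 1 ≤ ∑ c : Units₀ Z.f, finrank ℂ (Z.eig ρ (flipOf P46) pos46 θ reps46 (Pi.single 0 c.1)) := by
    rw [← card_units₀ Z.f S.fix, ← Finset.card_univ, Finset.card_eq_sum_ones]
    exact Finset.sum_le_sum fun c _ =>
      (single_eq_one S c.2.1 c.2.2).ge.trans (Submodule.finrank_mono (bot_fixed S c.2.1 c.2.2))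
  have h39 : ∑ a : ↥(invSub (flipOf P39) Z.f), finrank ℂ (Z.eig ρ (flipOf P39) pos39 θ reps39 a.1) ≤
      finrank ℂ (Z.eig ρ (flipOf P39) pos39 θ reps39 0) +
        ∑ c : Units₀ Z.f, finrank ℂ (Z.eig ρ (flipOf P39) pos39 θ reps39 (Pi.single 0 c.1)) := by
    rw [← Finset.sum_erase_add _ _ (Finset.mem_univ (0 : ↥(invSub (flipOf P39) Z.f))), add_comm]
    refine Nat.add_le_add le_rfl ?_
    rw [← Finset.sum_image (g := fun c : Units₀ Z.f => (⟨Pi.single 0 c.1, single_inv Z.f _ H39.flip (g0 _) c.2.1⟩ :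
        ↥(invSub (flipOf P39) Z.f))) (f := fun a => finrank ℂ (Z.eig ρ (flipOf P39) pos39 θ reps39 a.1))
      fun c _ d _ e => Subtype.ext (by simpa using congrFun (congrArg Subtype.val e) 0)]
    refine Finset.sum_le_sum_of_subset fun a ha => ?_
    have hf : Z.f (a.1 0) = a.1 0 := by
      have := a.2 0
      have hI := H39.flip
      simp only [Flip.ok, decide_eq_true_eq] at hI
      rw [g0, (hI 0).2.2 (g0 _), show sg K true = (1 : K) from rfl, one_mul] at this
      exact this.symm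
    have hne : a.1 0 ≠ 0 := fun e => (Finset.mem_erase.1 ha).1 (Subtype.ext (funext fun m => by
      rw [Subsingleton.elim m 0]; exact e))
    refine Finset.mem_image.2 ⟨⟨a.1 0, hf, hne⟩, Finset.mem_univ _, Subtype.ext (funext fun m => ?_)⟩
    rw [Subsingleton.elim m 0]
    exact Pi.single_eq_same (M := fun _ => K) 0 _
  have e39 := Z.sum_finrank ρ P39 (flipOf P39) pos39 θ H39
  rw [z46] at h46
  rw [z39] at h39
  omega

/-- The radical of the Levi part. -/
theorem level9_le : n9 q ≤ finrank ℂ (Z.Fix ρ qc) := by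
  classical
  obtain ⟨H, hops⟩ := hyp S lev9_ok
  obtain ⟨H39, -⟩ := hyp S lev39_ok
  refine le_trans ?_ ((Nat.le_add_right _ _).trans
    (lead_sum Z ρ H hops S.card S.fix longs9 (fun i hi => (moves9_ok i hi).2) lows9 lead9_ok))
  have hin : ∀ c : Units₀ Z.f, Z.eig ρ (flipOf P39) pos39 θ reps39 (Pi.single 0 c.1) ≤
      Z.eig ρ (flipOf P9) qc θ reps9 (Pi.single 0 c.1) := by
    intro c v hv
    have hsub : (∀ r ∈ qc, r ∈ pos39) ∧ ∀ p ∈ reps9, p = (Op.long 39, 0) ∨
        ((∀ r ∈ p.1.roots, r ∈ pos39) ∧ p.2 ≠ 0 ∧ (flipOf P9).g p.2 ≠ 0 ∧ unit p.1 = true) := by decide +kernel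
    refine Z.mem_eig ρ H.flip H.span (Z.Fix_anti ρ hsub.1 hv.1) fun p hp u hu => ?_
    rcases hsub.2 p hp with rfl | ⟨hr, hne, hne', hunit⟩
    · rw [Z.eig_el ρ H39.ab H39.flip H39.span (p := (.long 39, 0)) (by simp [reps39]) hu hv]
      simp [opVec, dotV_single]
    · rw [hv.1 _ (Z.el_mem_X hunit hu hr)]
      obtain ⟨op, m⟩ := p
      cases op <;> simp [opVec, dotV_add, dotV_single, Pi.single_eq_of_ne (M := fun _ => K) hne,
        Pi.single_eq_of_ne (M := fun _ => K) hne']
  have hmove : ∀ i ∈ longs9, q - 1 ≤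
      ∑ c : Units₀ Z.f, finrank ℂ (Z.eig ρ (flipOf P9) qc θ reps9 (Pi.single i c.1)) := by
    intro i hi
    obtain ⟨hmv, -⟩ := moves9_ok i hi
    obtain ⟨σ, hσ⟩ : ∃ σ, σ = (moves9 i).2 := ⟨_, rfl⟩
    let e : Units₀ Z.f ≃ Units₀ Z.f :=
      { toFun := fun c => ⟨sg K σ * c.1, by rw [map_mul, map_sg, c.2.1], mul_ne_zero (sg_ne_zero _) c.2.2⟩
        invFun := fun c => ⟨sg K σ * c.1, by rw [map_mul, map_sg, c.2.1], mul_ne_zero (sg_ne_zero _) c.2.2⟩
        left_inv := fun c => Subtype.ext (show sg K σ * (sg K σ * c.1) = c.1 by rw [← mul_assoc, sg_mul_self, one_mul])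
        right_inv := fun c => Subtype.ext (show sg K σ * (sg K σ * c.1) = c.1 by rw [← mul_assoc, sg_mul_self, one_mul]) }
    rw [← e.sum_comp fun c : Units₀ Z.f => finrank ℂ (Z.eig ρ (flipOf P9) qc θ reps9 (Pi.single i c.1))]
    refine (level39_le S).trans (Finset.sum_le_sum fun c _ => ?_)
    refine (Submodule.finrank_mono (hin c)).trans ?_
    have h0 : (flipOf P9).g 0 = 0 := (moves9_ok 0 (by decide)).2
    have := (zmove (src P9 tb) Z.f (Z.closed_eig ρ H hops _) hmv ⟨single_inv Z.f _ H.flip h0 c.2.1, le_rfl⟩).2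
    rw [← hσ] at this
    exact this
  refine le_trans ?_ (Finset.sum_le_sum fun i hi => Nat.mul_le_mul_left _ (hmove i hi))
  rw [← Finset.sum_mul, Finset.sum_congr rfl fun i hi => by rw [lengths_ok.2.1 i hi]]
  refine le_of_eq ?_
  simp [longs9, n9]
  ring

/-- The degree is within two of the target. -/
theorem near_target : target q ≤ finrank ℂ V + 2 := by
  obtain ⟨a, ha0, hainv, ha⟩ := exists_char20 S
  obtain ⟨H, -⟩ := hyp S lev20_ok
  have h1 := level20_le S (d := 1) fun i hi c hc hc0 => singles20 S le_rfl ha0 hainv ha hi hc hc0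
  have h2 := level11_le S
  have h3 := level9_le S
  have h4 : Z.Fix ρ qc ≤ Z.eig ρ (flipOf P20) [71] θ reps20 0 := by
    refine Z.le_eig_zero ρ H.flip H.span ?_ ?_ <;> decide +kernel
  have h5 := Submodule.finrank_mono h4
  have := levels_sum S.two
  omega

end Cfsg.Lib.Chev.SimpDeg.TwE6
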