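import Cfsg.Agent.Lib.Chev.SimplyDegree.TwLevel
import Cfsg.Agent.Lib.Chev.SimplyDegree.Pair

/-!
# Commutators and pairs of long roots in a twisted group

An element of the twisted group that is a commutator of two elements acting by scalars acts
trivially, and the long roots form a system over the fixed field to which the comparison of the two
radicals of a pair applies.
-/

set_option autoImplicit false
set_option linter.unusedSectionVars false

namespace Cfsg.Lib.Chev.SimpDeg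

open Cfsg.Lib.Linear.MinDegree Module

variable {G A K : Type*} [Group G] [Group A] [Field K] {tr : ℕ → ℕ → Tr} {rt : ℕ → ℕ} {es : ℕ → Bool}
  {pos : ℕ → Bool} {unit : Op → Bool} (Z : Tw G A K tr rt es pos unit)

/-- The checks on an element `C` that is a commutator of two pairs. -/
def commOK (tr : ℕ → ℕ → Tr) (unit : Op → Bool) : Op → Op → Op → Bool
  | C, .pair a a' e, .pair b b' e' =>
    unit (.pair a a' e) && unit (.pair b b' e') && unit C && decide (tr a' b = .comm) && decide (tr a b' = .comm) &&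
      match tr a b, tr a' b', C with
      | .to c k, .to c' k', .pair d d' e'' =>
        decide (c = d) && decide (c' = d') && decide (tr a c' = .comm) && decide (tr b' c = .comm) &&
          decide ((((k' == e') == e) == k) = e'')
      | .to c k, .to c' k', .long d =>
        decide (c = d) && decide (c' = d) && decide (tr a c' = .comm) && decide (tr b' c = .comm) &&
          decide (((k' == e') == e) = k)
      | _, _, _ => false
  | _, _, _ => false

theorem Tw.commutator_el (hω : ∃ ω, Z.f ω ≠ ω) {C A B : Op} (h : commOK tr unit C A B = true) {w : K}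
    (hw : C.adm Z.f w) :
    ∃ u, A.adm Z.f u ∧ B.adm Z.f 1 ∧ Z.el C w = (Z.el B 1)⁻¹ * Z.el A u * Z.el B 1 * (Z.el A u)⁻¹ := by
  cases A with
  | long s => simp [commOK] at h
  | pair a a' e =>
  cases B with
  | long s => simp [commOK] at h
  | pair b b' e' =>
  simp only [commOK, Bool.and_eq_true, decide_eq_true_eq] at h
  obtain ⟨⟨⟨⟨⟨hA, hB⟩, hC⟩, h₁⟩, h₂⟩, h⟩ := h
  rcases hab : tr a b with _ | _ | ⟨c, k⟩ <;> rw [hab] at h <;> try (simp at h; done)
  rcases hab' : tr a' b' with _ | _ | ⟨c', k'⟩ <;> rw [hab'] at h <;> try (simp at h; done)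
  have calc0 : ∀ u, tr a c' = .comm → tr b' c = .comm →
      Z.ι ((Z.el (.pair b b' e') 1)⁻¹ * Z.el (.pair a a' e) u * Z.el (.pair b b' e') 1 *
          (Z.el (.pair a a' e) u)⁻¹) =
        Z.Y.x c (sg K k * u) * Z.Y.x c' (sg K k' * sg K e' * (sg K e * Z.f u)) := by
    intro u h₃ h₄
    rw [map_mul, map_mul, map_mul, map_inv, map_inv, Z.el_pair a a' e hA, Z.el_pair b b' e' hB, map_one, mul_one]
    obtain ⟨u', hu'⟩ : ∃ u', u' = sg K e * Z.f u := ⟨_, rfl⟩
    obtain ⟨v', hv'⟩ : ∃ v', v' = sg K e' := ⟨_, rfl⟩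
    rw [← hu', ← hv']
    have inner : Z.Y.x a' u' * (Z.Y.x b 1 * Z.Y.x b' v') * (Z.Y.x a' u')⁻¹ =
        Z.Y.x b 1 * (Z.Y.x b' v' * Z.Y.x c' (sg K k' * v' * u')) := by
      rw [← conj_mul, Z.Y.comm _ _ h₁, Z.Y.conj _ _ _ _ hab']
    have outer : Z.Y.x a u * (Z.Y.x a' u' * (Z.Y.x b 1 * Z.Y.x b' v') * (Z.Y.x a' u')⁻¹) * (Z.Y.x a u)⁻¹ =
        Z.Y.x b 1 * Z.Y.x b' v' * (Z.Y.x c (sg K k * u) * Z.Y.x c' (sg K k' * v' * u')) := by
      rw [inner, ← conj_mul, ← conj_mul, Z.Y.conj _ _ _ _ hab, Z.Y.comm _ _ h₂, Z.Y.comm _ _ h₃, mul_one]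
      have hsw : Z.Y.x c (sg K k * u) * Z.Y.x b' v' = Z.Y.x b' v' * Z.Y.x c (sg K k * u) := Z.Y.swap_comm h₄ _ _
      simp only [mul_assoc]
      congr 1
      rw [← mul_assoc (Z.Y.x c _), hsw, mul_assoc]
    calc (Z.Y.x b 1 * Z.Y.x b' v')⁻¹ * (Z.Y.x a u * Z.Y.x a' u') * (Z.Y.x b 1 * Z.Y.x b' v') *
          (Z.Y.x a u * Z.Y.x a' u')⁻¹
        = (Z.Y.x b 1 * Z.Y.x b' v')⁻¹ * (Z.Y.x a u * (Z.Y.x a' u' * (Z.Y.x b 1 * Z.Y.x b' v') * (Z.Y.x a' u')⁻¹) *
            (Z.Y.x a u)⁻¹) := by group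
      _ = Z.Y.x c (sg K k * u) * Z.Y.x c' (sg K k' * v' * u') := by rw [outer, inv_mul_cancel_left]
  cases C with
  | long d =>
    simp only [Bool.and_eq_true, decide_eq_true_eq] at h
    obtain ⟨⟨⟨⟨rfl, rfl⟩, h₃⟩, h₄⟩, hk⟩ := h
    obtain ⟨x, hx⟩ : ∃ x, x + Z.f x ≠ 0 := by
      obtain ⟨ω, hω⟩ := hω
      by_contra! h
      exact hω (by
        have h1 := h 1
        have h2 := h ω
        rw [map_one] at h1
        linear_combination h2 - ω * h1)
    have hxf : Z.f (x + Z.f x) = x + Z.f x := by rw [map_add, Z.ff, add_comm]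
    obtain ⟨u, hu⟩ : ∃ u, u = sg K k * w / (x + Z.f x) * x := ⟨_, rfl⟩
    refine ⟨u, trivial, trivial, Z.ι_inj ?_⟩
    rw [calc0 u h₃ h₄, Z.el_long _ hC w hw, ← Z.Y.add]
    congr 1
    have hw' : Z.f w = w := hw
    have hs : sg K k' * sg K e' * sg K e = sg K k := by rw [← sg_xor, ← sg_xor, hk]
    have e1 : u + Z.f u = sg K k * w := by
      rw [hu, map_mul, map_div₀, map_mul, map_sg, hw', hxf, ← mul_add, div_mul_cancel₀ _ hx]
    rw [show sg K k' * sg K e' * (sg K e * Z.f u) = sg K k' * sg K e' * sg K e * Z.f u by ring, hs, ← mul_add, e1,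
      ← mul_assoc, sg_mul_self, one_mul]
  | pair d d' e'' =>
    simp only [Bool.and_eq_true, decide_eq_true_eq] at h
    obtain ⟨⟨⟨⟨rfl, rfl⟩, h₃⟩, h₄⟩, hk⟩ := h
    refine ⟨sg K k * w, trivial, trivial, Z.ι_inj ?_⟩
    rw [calc0 _ h₃ h₄, Z.el_pair _ _ _ hC, ← mul_assoc, sg_mul_self, one_mul, map_mul, map_sg]
    congr 2
    rw [← hk, sg_xor, sg_xor, sg_xor]
    ring

variable {V : Type*} [AddCommGroup V] [Module ℂ V] (ρ : G →* Module.End ℂ V)

/-- A commutator of two elements acting by scalars fixes the vector. -/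
theorem Tw.fix_of_scalar (hω : ∃ ω, Z.f ω ≠ ω) {C A B : Op} (h : commOK tr unit C A B = true) {v : V}
    (hA : ∀ u, A.adm Z.f u → ∃ l : ℂ, ρ (Z.el A u) v = l • v)
    (hB : ∀ u, B.adm Z.f u → ∃ l : ℂ, ρ (Z.el B u) v = l • v) {w : K} (hw : C.adm Z.f w) :
    ρ (Z.el C w) v = v := by
  obtain ⟨u, hu, h1, e⟩ := Z.commutator_el hω h hw
  obtain ⟨l, hl⟩ := hA u hu
  obtain ⟨m, hm⟩ := hB 1 h1
  have key : ∀ (g : G) (l : ℂ), ρ g v = l • v → l • ρ g⁻¹ v = v := fun g l hg => by
    rw [← map_smul, ← hg, ← Module.End.mul_apply, ← map_mul, inv_mul_cancel, map_one, Module.End.one_apply]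
  rcases eq_or_ne v 0 with rfl | hv
  · simp
  have hl0 : l ≠ 0 := fun e0 => hv (by rw [← key _ l hl, e0, zero_smul])
  have hA' : ρ (Z.el A u)⁻¹ v = l⁻¹ • v := by
    conv_rhs => rw [← key _ l hl, smul_smul, inv_mul_cancel₀ hl0, one_smul]
  have hm0 : m ≠ 0 := fun e0 => hv (by rw [← key _ m hm, e0, zero_smul])
  have hB' : ρ (Z.el B 1)⁻¹ v = m⁻¹ • v := by
    conv_rhs => rw [← key _ m hm, smul_smul, inv_mul_cancel₀ hm0, one_smul]
  rw [e]
  simp only [map_mul, Module.End.mul_apply, hA', map_smul, hm, hl, hB', smul_smul]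
  rw [show l⁻¹ * (m * (l * m⁻¹)) = (l⁻¹ * l) * (m * m⁻¹) by ring, inv_mul_cancel₀ hl0, mul_inv_cancel₀ hm0, one_mul,
    one_smul]

/-- The checks on the three roots carrying one long root to another. -/
def swapOK (tr : ℕ → ℕ → Tr) (unit : Op → Bool) (a na r r' : ℕ) : Bool :=
  unit (.long a) && unit (.long na) && unit (.long r) && unit (.long r') && decide (tr na r = .comm) &&
    decide (tr a r' = .comm) && decide (tr r' r = .comm) && match tr a r, tr na r' with
    | .to k b, .to k' b' => decide (k = r') && decide (k' = r) && decide (b = b') && b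
    | _, _ => false

theorem Tw.long_swap {a na r r' : ℕ} (h : swapOK tr unit a na r r' = true) :
    ∃ g : G, ∀ t, Z.f t = t → g * Z.el (.long r) t * g⁻¹ = Z.el (.long r') t := by
  simp only [swapOK, Bool.and_eq_true, decide_eq_true_eq] at h
  obtain ⟨⟨⟨⟨⟨⟨⟨ha, hna⟩, hr⟩, hr'⟩, h₁⟩, h₂⟩, h₀⟩, h⟩ := h
  rcases har : tr a r with _ | _ | ⟨k, b⟩ <;> rw [har] at h <;> try (simp at h; done)
  rcases hnar : tr na r' with _ | _ | ⟨k', b'⟩ <;> rw [hnar] at h <;> try (simp at h; done)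
  simp only [Bool.and_eq_true, decide_eq_true_eq] at h
  obtain ⟨⟨⟨rfl, rfl⟩, rfl⟩, rfl⟩ := h
  refine ⟨Z.el (.long a) 1 * Z.el (.long na) (-1) * Z.el (.long a) 1, fun t ht => Z.ι_inj ?_⟩
  have e1 : ∀ s, unit (.long s) = true → Z.ι (Z.el (.long s) 1) = Z.Y.x s 1 := fun s hs =>
    Z.el_long s hs 1 (map_one Z.f)
  rw [map_mul, map_mul, map_inv, map_mul, map_mul, Z.el_long _ hr t ht, Z.el_long _ hr' t ht, e1 a ha,
    Z.el_long na hna (-1) (by rw [map_neg, map_one])]
  have i1 : Z.Y.x a 1 * Z.Y.x k' t * (Z.Y.x a 1)⁻¹ = Z.Y.x k' t * Z.Y.x k t := by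
    rw [Z.Y.conj _ _ _ _ har]
    simp [sg]
  have i2 : Z.Y.x na (-1) * (Z.Y.x k' t * Z.Y.x k t) * (Z.Y.x na (-1))⁻¹ = Z.Y.x k t := by
    rw [← conj_mul, Z.Y.comm _ _ h₁, Z.Y.conj _ _ _ _ hnar, ← mul_assoc, Z.Y.swap_comm h₀, mul_assoc, ← Z.Y.add]
    simp [sg, Z.Y.zero]
  calc Z.Y.x a 1 * Z.Y.x na (-1) * Z.Y.x a 1 * Z.Y.x k' t * (Z.Y.x a 1 * Z.Y.x na (-1) * Z.Y.x a 1)⁻¹
      = Z.Y.x a 1 * (Z.Y.x na (-1) * (Z.Y.x a 1 * Z.Y.x k' t * (Z.Y.x a 1)⁻¹) * (Z.Y.x na (-1))⁻¹) *
          (Z.Y.x a 1)⁻¹ := by group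
    _ = Z.Y.x k t := by rw [i1, i2, Z.Y.comm _ _ h₂]

/-- The long roots acting on the fixed vectors of a radical. -/
def longTable (tr : ℕ → ℕ → Tr) (unit : Op → Bool) (R : List ℕ) (s r : ℕ) : Tr :=
  if (unit (.long s) && keepsFix tr R s) && (unit (.long r) && keepsFix tr R r) then
    match tr s r with
    | .to k b => if unit (.long k) && keepsFix tr R k then .to k b else .bad
    | x => x
  else .bad

/-- The fixed field. -/
abbrev Tw.F₀ : Subfield K := RingHom.eqLocusField Z.f (RingHom.id K)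

/-- The long root elements normalising a radical. -/
noncomputable def Tw.longSys (R : List ℕ) : Sys ↥((Z.NX R).comap Z.ι) ↥Z.F₀ (longTable tr unit R) where
  x r t := if h : (unit (.long r) && keepsFix tr R r) = true then
      ⟨Z.el (.long r) t, by
        rw [Subgroup.mem_comap, Z.el_long r (Bool.and_eq_true _ _ ▸ h).1 t t.2]
        exact Z.keeps_mem (Bool.and_eq_true _ _ ▸ h).2 _⟩
    else 1
  add r s t := by
    split_ifs with h
    · rw [Bool.and_eq_true] at h
      refine Subtype.ext (Z.ι_inj ?_)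
      show Z.ι (Z.el (.long r) ((s + t : Z.F₀) : K)) = Z.ι (Z.el (.long r) s * Z.el (.long r) t)
      rw [map_mul, Z.el_long r h.1 _ (s + t).2, Z.el_long r h.1 _ s.2, Z.el_long r h.1 _ t.2, Subfield.coe_add, Z.Y.add]
    · rw [one_mul]
  comm s r h t u := by
    unfold longTable at h
    split_ifs at h with hb
    rw [Bool.and_eq_true] at hb
    rcases htr : tr s r with _ | _ | ⟨k, b⟩ <;> rw [htr] at h
    · cases h
    · rw [dif_pos hb.1, dif_pos hb.2]
      simp only [Bool.and_eq_true] at hb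
      refine Subtype.ext (Z.ι_inj ?_)
      show Z.ι (Z.el (.long s) u * Z.el (.long r) t * (Z.el (.long s) u)⁻¹) = _
      rw [map_mul, map_mul, map_inv, Z.el_long s hb.1.1 _ u.2, Z.el_long r hb.2.1 _ t.2, Z.Y.comm _ _ htr]
    · simp only at h
      split_ifs at h
  conj s r k b h t u := by
    unfold longTable at h
    split_ifs at h with hb
    rw [Bool.and_eq_true] at hb
    rcases htr : tr s r with _ | _ | ⟨k', b'⟩ <;> rw [htr] at h
    · cases h
    · cases h
    · simp only at h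
      split_ifs at h with hk
      cases h
      rw [dif_pos hb.1, dif_pos hb.2, dif_pos hk]
      simp only [Bool.and_eq_true] at hb hk
      refine Subtype.ext (Z.ι_inj ?_)
      show Z.ι (Z.el (.long s) u * Z.el (.long r) t * (Z.el (.long s) u)⁻¹) =
        Z.ι (Z.el (.long r) t * Z.el (.long k) ((sg (↥Z.F₀) b * t * u : Z.F₀) : K))
      rw [map_mul, map_mul, map_mul, map_inv, Z.el_long s hb.1.1 _ u.2, Z.el_long r hb.2.1 _ t.2,
        Z.el_long k hk.1 _ (sg (↥Z.F₀) b * t * u).2, Z.Y.conj _ _ _ _ htr]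
      congr 2
      cases b <;> simp [sg]

/-- The radical's fixed vectors as a representation of its normaliser. -/
noncomputable def Tw.restrictHom (R : List ℕ) : ↥((Z.NX R).comap Z.ι) →* Module.End ℂ (Z.Fix ρ R) where
  toFun g := Z.op ρ (h := (g : G)) g.2
  map_one' := LinearMap.ext fun v => Subtype.ext (by
    show ρ ((1 : ↥((Z.NX R).comap Z.ι)) : G) (v : V) = (v : V)
    rw [Subgroup.coe_one, map_one, Module.End.one_apply])
  map_mul' g g' := LinearMap.ext fun v => Subtype.ext (by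
    show ρ ((g * g' : ↥((Z.NX R).comap Z.ι)) : G) (v : V) = ρ (g : G) (ρ (g' : G) (v : V))
    rw [Subgroup.coe_mul, map_mul, Module.End.mul_apply])

/-- A list spans the radical and two long roots. -/
def spanOK (R : List ℕ) (b c : ℕ) (L : List Op) : Bool :=
  decide (∀ r, r ∈ R ++ [b, c] → r ∈ L.flatMap Op.roots) &&
    decide (∀ op ∈ L, (∀ r ∈ op.roots, r ∈ R) ∨ op = .long b ∨ op = .long c)

variable [Fintype K] [FiniteDimensional ℂ V]

/-- The two radicals of a pair of long roots. -/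
theorem Tw.finrank_long_pair {R : List ℕ} {a b c na nb : ℕ}
    (h : pairOK (longTable tr unit R) [] a b c na nb = true) {La Lb : List Op}
    (hLb : closedOK tr rt es pos unit Lb = true) (hLbu : Lb.all unit = true) (hspb : spanOK R b c Lb = true)
    (hLa : closedOK tr rt es pos unit La = true) (hLau : La.all unit = true) (hspa : spanOK R a c La = true)
    (hu : ∀ r ∈ [a, b, c], (unit (.long r) && keepsFix tr R r) = true) :
    finrank ℂ (Z.Fix ρ (Lb.flatMap Op.roots)) = finrank ℂ (Z.Fix ρ (La.flatMap Op.roots)) := by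
  classical
  haveI : Fintype ↥Z.F₀ := Fintype.ofFinite _
  have key : ∀ x ∈ [a, b, c], ∀ L : List Op, closedOK tr rt es pos unit L = true → L.all unit = true →
      spanOK R x c L = true →
      Cfsg.Lib.Chev.SimpDeg.Fix (Z.longSys R) (Z.restrictHom ρ R) ([] ++ [x, c]) =
        (Z.Fix ρ (L.flatMap Op.roots)).comap (Z.Fix ρ R).subtype ∧ Z.Fix ρ (L.flatMap Op.roots) ≤ Z.Fix ρ R := by
    intro x hx L hL hLu hsp
    simp only [spanOK, Bool.and_eq_true, decide_eq_true_eq] at hsp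
    rw [List.all_eq_true] at hLu
    refine ⟨?_, Z.Fix_anti ρ fun r hr => hsp.1 r (List.mem_append_left _ hr)⟩
    ext v
    refine ⟨fun hv => Z.mem_Fix ρ hL fun op hop u hu' => ?_, fun hv r hr t => ?_⟩
    · rcases hsp.2 op hop with hR | rfl | rfl
      · exact v.2 _ (Z.el_mem_X (hLu op hop) hu' hR)
      · have := hv x (by simp) ⟨u, hu'⟩
        have hx' := hu x hx
        simp only [Tw.longSys, dif_pos hx'] at this
        exact congrArg Subtype.val this
      · have := hv c (by simp) ⟨u, hu'⟩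
        have hc' := hu c (by simp)
        simp only [Tw.longSys, dif_pos hc'] at this
        exact congrArg Subtype.val this
    · have hr' : (unit (.long r) && keepsFix tr R r) = true := by
        simp only [List.nil_append, List.mem_cons, List.not_mem_nil, or_false] at hr
        rcases hr with rfl | rfl
        exacts [hu _ hx, hu _ (by simp)]
      simp only [Tw.longSys, dif_pos hr']
      refine Subtype.ext ?_
      show ρ (Z.el (.long r) t) (v : V) = (v : V)
      refine hv _ (Z.el_mem_X (op := .long r) (u := (t : K)) (Bool.and_eq_true _ _ ▸ hr').1 t.2 fun s hs => ?_)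
      simp only [Op.roots, List.mem_singleton] at hs
      exact hsp.1 s (List.mem_append_right _ (by simpa [hs] using hr))
  obtain ⟨eb, leb⟩ := key b (by simp) Lb hLb hLbu hspb
  obtain ⟨ea, lea⟩ := key a (by simp) La hLa hLau hspa
  have e := finrank_pair (Z.longSys R) (Z.restrictHom ρ R) [] h
  rw [eb, ea, LinearEquiv.finrank_eq (Submodule.comapSubtypeEquivOfLe leb),
    LinearEquiv.finrank_eq (Submodule.comapSubtypeEquivOfLe lea)] at e
  exact e

end Cfsg.Lib.Chev.SimpDeg
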