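import Cfsg.Agent.Lib.Chev.SimplyDegree.E6Data
import Cfsg.Agent.Lib.Chev.SimplyDegree.TwPair
import Cfsg.Agent.Lib.Chev.GraphAll

/-!
# The levels of the twisted type E6

The twisted group is fixed by the diagram symmetry of E6 composed with an involution of the field.
Its levels are the radical of the parabolic at the second node modulo its centre, and the radical of
the Levi part at the fourth node.
-/

set_option autoImplicit false
set_option maxRecDepth 100000

namespace Cfsg.Lib.Chev.SimpDeg.TwE6

open Cfsg.Lie

/-- The table. -/
abbrev tb : ℕ → ℕ → Tr := E6.tb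

/-- The root permutation. -/
def rt (r : ℕ) : ℕ := Cfsg.Lib.Chev.symE6_1.root r

/-- The signs. -/
def es (r : ℕ) : Bool := decide (Cfsg.Lib.Chev.symE6_1.eps r = 1)

/-- The positive roots. -/
def pos (r : ℕ) : Bool := decide (36 ≤ r ∧ r < 72)

/-- The elements of the twisted group. -/
def unit : Op → Bool
  | .long s => decide (s < 72) && rt s == s && es s
  | .pair s s' e => decide (s < 72) && decide (s' < 72) && rt s == s' && rt s' == s && s != s' && es s == e &&
      es s' == e && decide (tb s s' = .comm) && decide (tb s' s = .comm)

/-- The involution on the coordinates of a level. -/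
def flipOf {n : ℕ} (P : Fin n → ℕ) : Flip n :=
  ⟨fun m => (posIn P (rt (P m))).getD m, fun m => es (P m)⟩

/-- The roots of the level 20. -/
def P20 : Fin 20 → ℕ :=
  ![46, 47, 48, 49, 50, 51, 52, 53, 54, 55, 61, 62, 63, 64, 65, 66, 67, 68, 69, 70]

/-- The elements spanning the level 20. -/
def reps20 : List (Op × Fin 20) :=
  [(.long 46, 0), (.long 47, 1), (.pair 48 50 true, 2), (.pair 49 61 false, 3), (.long 51, 5), (.pair 52 62 false, 6), (.long 53, 7), (.pair 54 64 false, 8), (.pair 55 67 false, 9), (.long 63, 12), (.long 65, 14), (.pair 66 68 true, 15), (.long 69, 18), (.long 70, 19)]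

/-- The roots of the level 9. -/
def P9 : Fin 9 → ℕ :=
  ![39, 40, 41, 43, 44, 45, 58, 59, 60]

/-- The elements spanning the level 9. -/
def reps9 : List (Op × Fin 9) :=
  [(.long 39, 0), (.pair 40 43 false, 1), (.pair 41 58 true, 2), (.long 44, 4), (.pair 45 59 false, 5), (.long 60, 8)]

/-- The roots of the level 11. -/
def P11 : Fin 11 → ℕ :=
  ![53, 54, 55, 64, 65, 66, 67, 68, 69, 70, 71]

/-- The elements spanning the level 11. -/
def reps11 : List (Op × Fin 11) :=
  [(.long 53, 0), (.pair 54 64 false, 1), (.pair 55 67 false, 2), (.long 65, 4), (.pair 66 68 true, 5), (.long 69, 8), (.long 70, 9), (.long 71, 10)]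

/-- The roots of the level 2. -/
def P2 : Fin 2 → ℕ :=
  ![70, 71]

/-- The elements spanning the level 2. -/
def reps2 : List (Op × Fin 2) :=
  [(.long 70, 0), (.long 71, 1)]

/-- The roots of the level 46. -/
def P46 : Fin 1 → ℕ :=
  ![46]

/-- The elements spanning the level 46. -/
def reps46 : List (Op × Fin 1) :=
  [(.long 46, 0)]

/-- The roots of the level 39. -/
def P39 : Fin 1 → ℕ :=
  ![39]

/-- The elements spanning the level 39. -/
def reps39 : List (Op × Fin 1) :=
  [(.long 39, 0)]

/-- The roots of the level 71. -/
def P71 : Fin 1 → ℕ :=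
  ![71]

/-- The elements spanning the level 71. -/
def reps71 : List (Op × Fin 1) :=
  [(.long 71, 0)]

/-- The elements acting on the level 20. -/
def ops20 : List Op :=
  [.long 11, .pair 12 26 false, .pair 26 12 false, .pair 13 30 true, .pair 30 13 true, .pair 14 33 false, .pair 33 14 false, .pair 15 35 true, .pair 35 15 true, .long 27, .pair 28 31 false, .pair 31 28 false, .pair 29 34 true, .pair 34 29 true, .long 32, .pair 36 56 true, .pair 56 36 true, .pair 37 42 true, .pair 42 37 true, .pair 38 57 false, .pair 57 38 false, .long 39, .pair 40 43 false, .pair 43 40 false, .pair 41 58 true, .pair 58 41 true, .long 44, .pair 45 59 false, .pair 59 45 false, .long 60]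

/-- The elements acting on the level 9. -/
def ops9 : List Op :=
  [.pair 36 56 true, .pair 56 36 true, .pair 37 42 true, .pair 42 37 true, .pair 38 57 false, .pair 57 38 false, .pair 15 35 true, .pair 35 15 true, .pair 29 34 true, .pair 34 29 true, .pair 14 33 false, .pair 33 14 false]

/-- The elements acting on the level 11. -/
def ops11 : List Op :=
  [.long 46, .long 47, .pair 48 50 true, .pair 50 48 true, .pair 49 61 false, .pair 61 49 false, .long 51, .pair 52 62 false, .pair 62 52 false, .long 63]

/-- The elements acting on the level 2. -/
def ops2 : List Op :=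
  [.long 46, .long 25]

/-- The elements lowering the fixed coordinates of the level 20. -/
def lows20 : Fin 20 → List (Op × Fin 20) :=
  ![[],
    [(.long 39, 0)],
    [],
    [],
    [],
    [(.long 44, 0), (.pair 37 42 true, 4)],
    [],
    [(.long 44, 1), (.pair 40 43 false, 4), (.long 39, 5)],
    [],
    [],
    [],
    [],
    [(.long 60, 0), (.pair 38 57 false, 10), (.pair 36 56 true, 11)],
    [],
    [(.long 60, 1), (.pair 41 58 true, 10), (.pair 36 56 true, 13), (.long 39, 12)],
    [],
    [],
    [],
    [(.long 60, 5), (.pair 45 59 false, 11), (.pair 38 57 false, 16), (.long 44, 12), (.pair 37 42 true, 17)],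
    [(.long 60, 7), (.pair 45 59 false, 13), (.pair 41 58 true, 16), (.long 44, 14), (.pair 40 43 false, 17), (.long 39, 18)]]

/-- The elements lowering the fixed coordinates of the level 9. -/
def lows9 : Fin 9 → List (Op × Fin 9) :=
  ![[],
    [],
    [],
    [],
    [(.pair 37 42 true, 3)],
    [],
    [],
    [],
    [(.pair 38 57 false, 6), (.pair 36 56 true, 7)]]

/-- The elements lowering the last coordinate of the level 11. -/
def low11 : List (Op × Fin 11) :=
  [(.long 63, 0), (.pair 52 62 false, 3), (.pair 49 61 false, 6), (.long 51, 4), (.pair 48 50 true, 7), (.long 47, 8), (.long 46, 9)]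

/-- The fixed coordinates of the level 20. -/
def longs20 : Finset (Fin 20) :=
  {0, 1, 5, 7, 12, 14, 18, 19}

/-- The fixed coordinates of the level 9. -/
def longs9 : Finset (Fin 9) :=
  {0, 4, 8}

/-- Moves of the first coordinate of the level 20 to the other fixed ones. -/
def moves20 : Fin 20 → List (Op × Bool) × Bool :=
  ![([], true),
    ([(.long 39, true), (.long 32, false), (.long 39, true)], true),
    ([], true),
    ([], true),
    ([], true),
    ([(.long 44, true), (.long 27, false), (.long 44, true)], false),
    ([], true),
    ([(.pair 40 43 false, true), (.pair 28 31 false, true), (.pair 40 43 false, true)], false),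
    ([], true),
    ([], true),
    ([], true),
    ([], true),
    ([(.long 60, true), (.long 11, false), (.long 60, true)], false),
    ([], true),
    ([(.pair 41 58 true, true), (.pair 13 30 true, false), (.pair 41 58 true, true)], true),
    ([], true),
    ([], true),
    ([], true),
    ([(.pair 45 59 false, true), (.pair 12 26 false, true), (.pair 45 59 false, true)], true),
    ([(.pair 45 59 false, true), (.pair 12 26 false, true), (.pair 45 59 false, true), (.long 39, true), (.long 32, false), (.long 39, true)], true)]

/-- Moves of the fixed coordinates of the level 20 to the first one. -/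
def back20 : Fin 20 → List (Op × Bool) × Bool :=
  ![([], true),
    ([(.long 39, true), (.long 32, false), (.long 39, true)], false),
    ([], true),
    ([], true),
    ([], true),
    ([(.long 44, true), (.long 27, false), (.long 44, true)], true),
    ([], true),
    ([(.pair 40 43 false, true), (.pair 28 31 false, true), (.pair 40 43 false, true)], false),
    ([], true),
    ([], true),
    ([], true),
    ([], true),
    ([(.long 60, true), (.long 11, false), (.long 60, true)], true),
    ([], true),
    ([(.pair 41 58 true, true), (.pair 13 30 true, false), (.pair 41 58 true, true)], true),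
    ([], true),
    ([], true),
    ([], true),
    ([(.pair 45 59 false, true), (.pair 12 26 false, true), (.pair 45 59 false, true)], true),
    ([(.pair 45 59 false, true), (.pair 12 26 false, true), (.pair 45 59 false, true), (.long 39, true), (.long 32, false), (.long 39, true)], false)]

/-- Moves of the first coordinate of the level 9 to the other fixed ones. -/
def moves9 : Fin 9 → List (Op × Bool) × Bool :=
  ![([], true),
    ([], true),
    ([], true),
    ([], true),
    ([(.pair 37 42 true, true), (.pair 29 34 true, false), (.pair 37 42 true, true)], false),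
    ([], true),
    ([], true),
    ([], true),
    ([(.pair 38 57 false, true), (.pair 14 33 false, true), (.pair 38 57 false, true)], true)]

/-- The rank used for climbing in the level 20. -/
def rk20 : Fin 20 → ℕ :=
  ![36, 32, 28, 24, 28, 24, 20, 20, 16, 17, 24, 20, 16, 16, 12, 14, 17, 14, 4, 0]

/-- Elements spreading the coordinates left after clearing. -/
def pick20 : Fin 20 → Op × Fin 20 :=
  ![(.long 32, 0),
    (.pair 14 33 false, 10),
    (.pair 14 33 false, 11),
    (.pair 29 34 true, 6),
    (.pair 33 14 false, 6),
    (.pair 15 35 true, 11),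
    (.pair 42 37 true, 3),
    (.long 32, 0),
    (.long 32, 0),
    (.long 32, 0),
    (.pair 34 29 true, 11),
    (.pair 37 42 true, 10),
    (.pair 36 56 true, 11),
    (.long 32, 0),
    (.long 32, 0),
    (.long 32, 0),
    (.long 32, 0),
    (.long 32, 0),
    (.long 32, 0),
    (.long 32, 0)]

/-- The elements of all positive roots. -/
def posL : List Op :=
  [.pair 36 56 true, .pair 37 42 true, .long 39, .long 46, .pair 38 57 false, .pair 40 43 false, .long 47, .pair 41 58 true, .long 44, .pair 48 50 true, .pair 45 59 false, .pair 49 61 false, .long 51, .pair 52 62 false, .long 53, .long 60, .pair 54 64 false, .long 63, .pair 55 67 false, .long 65, .pair 66 68 true, .long 69, .long 70, .long 71]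

/-- The elements of all positive roots but 46. -/
def pos46L : List Op :=
  [.pair 36 56 true, .pair 37 42 true, .long 39, .pair 38 57 false, .pair 40 43 false, .long 47, .pair 41 58 true, .long 44, .pair 48 50 true, .pair 45 59 false, .pair 49 61 false, .long 51, .pair 52 62 false, .long 53, .long 60, .pair 54 64 false, .long 63, .pair 55 67 false, .long 65, .pair 66 68 true, .long 69, .long 70, .long 71]

/-- The elements of all positive roots but 39. -/
def pos39L : List Op :=
  [.pair 36 56 true, .pair 37 42 true, .long 46, .pair 38 57 false, .pair 40 43 false, .long 47, .pair 41 58 true, .long 44, .pair 48 50 true, .pair 45 59 false, .pair 49 61 false, .long 51, .pair 52 62 false, .long 53, .long 60, .pair 54 64 false, .long 63, .pair 55 67 false, .long 65, .pair 66 68 true, .long 69, .long 70, .long 71]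

/-- The elements of all positive roots but 39, 46 and 47. -/
def radL : List Op :=
  [.pair 36 56 true, .pair 37 42 true, .pair 38 57 false, .pair 40 43 false, .pair 41 58 true, .long 44, .pair 48 50 true, .pair 45 59 false, .pair 49 61 false, .long 51, .pair 52 62 false, .long 53, .long 60, .pair 54 64 false, .long 63, .pair 55 67 false, .long 65, .pair 66 68 true, .long 69, .long 70, .long 71]

/-- The elements of the positive roots involving the second simple root. -/
def qcL : List Op :=
  [.long 46, .long 47, .pair 48 50 true, .pair 49 61 false, .long 51, .pair 52 62 false, .long 53, .pair 54 64 false, .long 63, .pair 55 67 false, .long 65, .pair 66 68 true, .long 69, .long 70, .long 71]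

/-- Each Levi element as a commutator of two elements fixing the first character of the level 20. -/
def triples : List (Op × Op × Op) :=
  [(.pair 36 56 true, .pair 34 29 true, .pair 38 57 false), (.pair 37 42 true, .pair 35 15 true, .pair 38 57 false), (.pair 38 57 false, .pair 36 56 true, .pair 37 42 true), (.long 39, .pair 14 33 false, .pair 58 41 true), (.pair 40 43 false, .pair 14 33 false, .pair 59 45 false), (.pair 41 58 true, .pair 29 34 true, .pair 45 59 false), (.long 44, .pair 15 35 true, .pair 59 45 false), (.pair 45 59 false, .pair 42 37 true, .pair 41 58 true), (.long 60, .pair 36 56 true, .pair 59 45 false)]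

/-- The positive roots involving the second simple root. -/
def qc : List ℕ := qcL.flatMap Op.roots

/-- All positive roots but 46. -/
def pos46 : List ℕ := pos46L.flatMap Op.roots

/-- All positive roots but 39. -/
def pos39 : List ℕ := pos39L.flatMap Op.roots

/-- All positive roots but 39, 46 and 47. -/
def rad3 : List ℕ := radL.flatMap Op.roots

/-- The checks of one level. -/
def levelChk {n : ℕ} (P : Fin n → ℕ) (Q : List ℕ) (reps : List (Op × Fin n)) (ops : List Op) : Bool :=
  (flipOf P).ok && abelianOn P tb Q && repsOK P (flipOf P) unit reps && opsOK P tb Q (flipOf P) unit ops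

theorem lev20_ok : levelChk P20 [71] reps20 ops20 = true := by decide +kernel

theorem lev9_ok : levelChk P9 qc reps9 ops9 = true := by decide +kernel

theorem lev11_ok : levelChk P11 [] reps11 ops11 = true := by decide +kernel

theorem lev2_ok : levelChk P2 [] reps2 ops2 = true := by decide +kernel

theorem lev46_ok : levelChk P46 pos46 reps46 [] = true := by decide +kernel

theorem lev39_ok : levelChk P39 pos39 reps39 [] = true := by decide +kernel

/-- The checks of a list spanning a subgroup. -/
def listChk (L : List Op) : Bool := closedOK tb rt es pos unit L && L.all unit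

theorem lists_ok : listChk posL = true ∧ listChk pos46L = true ∧ listChk pos39L = true ∧ listChk radL = true ∧
    listChk qcL = true := by decide +kernel

theorem lead20_ok : ∀ i, leadOK (src P20 tb) (above i) i (flatOps (flipOf P20) (lows20 i)) = true ∧
    ∀ p ∈ lows20 i, p.1 ∈ ops20 := by decide +kernel

theorem lead9_ok : ∀ i, leadOK (src P9 tb) (above i) i (flatOps (flipOf P9) (lows9 i)) = true ∧
    ∀ p ∈ lows9 i, p.1 ∈ ops9 := by decide +kernel

theorem moves20_ok : ∀ i ∈ longs20, zmoveOK (src P20 tb) ops20 (moves20 i).1 0 i (moves20 i).2 = true ∧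
    zmoveOK (src P20 tb) ops20 (back20 i).1 i 0 (back20 i).2 = true ∧ (flipOf P20).g i = i := by decide +kernel

theorem moves9_ok : ∀ i ∈ longs9, zmoveOK (src P9 tb) ops9 (moves9 i).1 0 i (moves9 i).2 = true ∧
    (flipOf P9).g i = i := by decide +kernel

theorem edge20_ok : edgeOK (src P20 tb) (0 : Fin 20) 1 32 39 = true ∧ Op.long 39 ∈ ops20 ∧ Op.long 32 ∈ ops20 := by
  decide +kernel

theorem climb20_ok : rankClimbOK (src P20 tb) ops20 rk20 19 = true := by decide +kernel

theorem clear20_ok : clearOK (src P20 tb) (flipOf P20) ops20 19 (lows20 19) = true ∧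
    spreadAll (src P20 tb) (flipOf P20) ops20 19 (lows20 19) pick20 0 = true ∧
    shiftOK (src P20 tb) (flipOf P20) ops20 19 (lows20 19) 0 1 32 = true := by decide +kernel

theorem clear11_ok : clearOK (src P11 tb) (flipOf P11) ops11 10 low11 = true ∧
    leadOK (src P11 tb) (fun _ => false) 10 (flatOps (flipOf P11) low11) = true ∧
    ∀ m : Fin 11, m ≠ 10 → zerosOf (flipOf P11) low11 m = true := by decide +kernel

theorem lengths_ok : (∀ i ∈ longs20, (flatOps (flipOf P20) (lows20 i)).length = ![0, 1, 0, 0, 0, 3, 0, 4, 0, 0, 0, 0,
      5, 0, 6, 0, 0, 0, 8, 9] i) ∧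
    (∀ i ∈ longs9, (flatOps (flipOf P9) (lows9 i)).length = ![0, 0, 0, 0, 2, 0, 0, 0, 4] i) ∧
    (flatOps (flipOf P11) low11).length = 10 := by decide +kernel

/-- An element is split between a radical and a level at coordinates where a vector vanishes. -/
def splitAt {n : ℕ} (P : Fin n → ℕ) (Q : List ℕ) (reps : List (Op × Fin n)) (keep : Fin n → Bool) (L : List Op) : Bool :=
  decide (∀ op ∈ L, (∀ r ∈ op.roots, r ∈ Q) ∨
    ∃ m, (op, m) ∈ reps ∧ keep m = true ∧ keep ((flipOf P).g m) = true)

theorem split20_ok : splitAt P20 [71] reps20 (fun m => decide (m ≠ 0)) (qcL.filter fun op => decide (op ≠ .long 46)) = true ∧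
    splitAt P20 [71] reps20 (fun _ => true) qcL = true := by decide +kernel

theorem triples_ok : ∀ op ∈ pos46L, op ∈ qcL ∨ ∃ p ∈ triples, p.1 = op := by decide +kernel

theorem comm_ok : ∀ p ∈ triples, commOK tb unit p.1 p.2.1 p.2.2 = true := by decide +kernel

theorem stab20_ok : ∀ p ∈ triples, ∀ op ∈ [p.2.1, p.2.2], op ∈ ops20 ∧
    ∀ s ∈ op.roots, ∀ m, (src P20 tb s m).map Prod.fst ≠ some 0 := by decide +kernel

theorem swap_ok : swapOK tb unit 46 25 70 71 = true := by decide +kernel

theorem pair_ok : pairOK (longTable tb unit rad3) [] 46 39 47 25 32 = true ∧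
    spanOK rad3 39 47 pos46L = true ∧ spanOK rad3 46 47 pos39L = true ∧
    ∀ r ∈ [46, 39, 47], (unit (.long r) && keepsFix tb rad3 r) = true := by decide +kernel

end Cfsg.Lib.Chev.SimpDeg.TwE6
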