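import Cfsg.Agent.Lib.Chev.SimplyDegree.TwE6Bound
import Cfsg.Agent.Lib.Chev.SimplyDegree.TwE6Arith
import Cfsg.Agent.Lib.Chev.TwE6
import Cfsg.Agent.Lib.Chev.TwBNTools
import Cfsg.Agent.Lib.Chev.FullAll
import Cfsg.Agent.Lib.Char.Central

/-!
# The smallest degree of a representation of the twisted type E6
-/

set_option autoImplicit false
set_option maxRecDepth 100000

namespace Cfsg.Lib.Chev.SimpDeg.TwE6

open Cfsg.Lie Module

variable {K : Type*} [Field K] [Fintype K]

theorem eps_cases : ∀ r < 72, symE6_1.eps r = 1 ∨ symE6_1.eps r = -1 := by decide +kernel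

/-- The twisted group as a group with root elements obeying the table. -/
theorem exists_tw {q : ℕ} (hq : IsPrimePow q) (hK : Fintype.card K = q ^ 2) :
    ∃ Z : Tw ↥(Cfsg.Lie.twistedE6 K q) ↥(chevE6.group K) K tb rt es pos unit,
      (∀ t, Z.f t = t ^ q) ∧ Z.el (.long 71) 1 ≠ 1 := by
  classical
  obtain ⟨f, h, e, -, -, -, -⟩ := twistedE6_facts hq hK
  have hmem : ∀ g, g ∈ Cfsg.Lie.twistedE6 K q ↔ g ∈ chevE6.group K ∧ twSigma symOKE6_gr f g = g := fun g => by
    rw [e]; exact h.mem_fixed certE6C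
  obtain ⟨Y, hY⟩ : ∃ Y : Sys ↥(chevE6.group K) K tb, Y = sysOf certE6C fullCertE6.comm := ⟨_, rfl⟩
  have hYx : ∀ r t, ((Y.x r t : ↥(chevE6.group K)) : GL chevE6.Idx K) = xg certE6C r t := fun r t => by rw [hY]; rfl
  have hsg : ∀ r < 72, ((symE6_1.eps r : ℤ) : K) = sg K (es r) := fun r hr => by
    rcases eps_cases r hr with h1 | h1 <;> simp [es, h1, sg]
  have hσx : ∀ r < 72, ∀ t, twSigma symOKE6_gr f (xg certE6C r t) = xg certE6C (rt r) (sg K (es r) * f t) :=
    fun r hr t => by rw [twSigma_xg certE6C symOKE6_gr f hr, hsg r hr]; rfl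
  have huniq : ∀ (l : List ℕ), l.Nodup → (∀ r ∈ l, pos r = true) → ∀ t u : ℕ → K,
      (l.map fun r => Y.x r (t r)).prod = (l.map fun r => Y.x r (u r)).prod → ∀ r ∈ l, t r = u r := by
    intro l hnd hl t u he r hr
    refine lprod_inj certE6C fullCertE6.comm hnd (fun s hs => ?_) ?_ r hr
    · have := of_decide_eq_true (hl s hs)
      exact ⟨by show 72 / 2 ≤ s; omega, by show s < 72; omega⟩
    · have he' := congrArg (chevE6.group K).subtype he
      simp only [map_list_prod, List.map_map, Function.comp_def, Subgroup.coe_subtype, hYx] at he'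
      exact he'
  -- the map of the field
  have hf : ∀ t, f t = t ^ q := by
    intro t
    have hgen : xg certE6C 56 t * xg certE6C 36 (t ^ q) ∈ Cfsg.Lie.twistedE6 K q :=
      Subgroup.subset_closure ⟨[(56, t), (36, t ^ q)], Or.inr ⟨t, (e6p1, e6p6), by simp, rfl⟩,
        by simp [ChevalleyDatum.wordMat, coe_xg]⟩
    have hfix := ((hmem _).1 hgen).2
    rw [twSigma_mul, hσx 56 (by norm_num), hσx 36 (by norm_num)] at hfix
    obtain ⟨h56, h36, hes, hes'⟩ : rt 56 = 36 ∧ rt 36 = 56 ∧ es 56 = true ∧ es 36 = true := by decide +kernel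
    rw [h56, h36, hes, hes', show sg K true = (1 : K) from rfl, one_mul, one_mul] at hfix
    have hc : tb 36 56 = .comm := by decide +kernel
    have hsw : Y.x 36 (f t) * Y.x 56 (f (t ^ q)) = Y.x 56 (f (t ^ q)) * Y.x 36 (f t) := by
      have hc' : tb 56 36 = .comm := by decide +kernel
      exact Y.swap_comm hc' _ _
    have heq : Y.x 56 (f (t ^ q)) * Y.x 36 (f t) = Y.x 56 t * Y.x 36 (t ^ q) := by
      rw [← hsw]
      refine Subtype.ext ?_
      rw [Subgroup.coe_mul, Subgroup.coe_mul, hYx, hYx, hYx, hYx]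
      exact hfix
    have := huniq [56, 36] (by decide) (by decide +kernel) (Function.update (fun _ => f t) 56 (f (t ^ q)))
      (Function.update (fun _ => t ^ q) 56 t) (by
        simpa using heq) 36 (by simp)
    simpa using this
  have hff : ∀ x, f (f x) = x := fun x => by
    rw [hf, hf, ← pow_mul, ← pow_two, ← hK, FiniteField.pow_card]
  obtain ⟨el₀, hel₀⟩ : ∃ el₀ : Op → K → ↥(chevE6.group K), ∀ op u, el₀ op u =
      match op with
      | .long s => Y.x s u
      | .pair s s' b => Y.x s u * Y.x s' (sg K b * f u) := ⟨fun op u => _, fun _ _ => rfl⟩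
  have hfixed : ∀ op, unit op = true → ∀ u, op.adm f u → (el₀ op u : GL chevE6.Idx K) ∈ Cfsg.Lie.twistedE6 K q := by
    intro op hop u hu
    refine (hmem _).2 ⟨Subtype.prop _, ?_⟩
    rw [hel₀]
    cases op with
    | long s =>
      simp only [unit, Bool.and_eq_true, decide_eq_true_eq, beq_iff_eq] at hop
      show twSigma symOKE6_gr f ((Y.x s u : ↥(chevE6.group K)) : GL chevE6.Idx K) = _
      rw [hYx, hσx s hop.1.1, hop.1.2, hop.2, show f u = u from hu, show sg K true = (1 : K) from rfl, one_mul]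
    | pair s s' b =>
      simp only [unit, Bool.and_eq_true, decide_eq_true_eq, beq_iff_eq, bne_iff_ne] at hop
      obtain ⟨⟨⟨⟨⟨⟨⟨⟨hs, hs'⟩, hr⟩, hr'⟩, -⟩, he⟩, he'⟩, hc⟩, -⟩ := hop
      show twSigma symOKE6_gr f ((Y.x s u * Y.x s' (sg K b * f u) : ↥(chevE6.group K)) : GL chevE6.Idx K) = _
      rw [Subgroup.coe_mul, twSigma_mul, hYx, hYx, hσx s hs, hσx s' hs', hr, hr', he, he', map_mul, map_sg, hff,
        ← mul_assoc, sg_mul_self, one_mul]
      have := congrArg Subtype.val (Y.swap_comm hc (sg K b * f u) u)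
      rwa [Subgroup.coe_mul, Subgroup.coe_mul, hYx, hYx] at this
  let σ : ↥(chevE6.group K) →* ↥(chevE6.group K) :=
    { toFun := fun a => ⟨twSigma symOKE6_gr f a, twSigma_mem certE6C symOKE6_gr f a.2⟩
      map_one' := Subtype.ext (twSigma_one symOKE6_gr f)
      map_mul' := fun a b => Subtype.ext (twSigma_mul symOKE6_gr f a b) }
  let el : Op → K → ↥(Cfsg.Lie.twistedE6 K q) := fun op u =>
    if hu : (el₀ op u : GL chevE6.Idx K) ∈ Cfsg.Lie.twistedE6 K q then ⟨_, hu⟩ else 1
  let Z : Tw ↥(Cfsg.Lie.twistedE6 K q) ↥(chevE6.group K) K tb rt es pos unit :=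
    { Y := Y
      f := f
      ff := hff
      ι := Subgroup.inclusion fun g hg => ((hmem g).1 hg).1
      σ := σ
      σx := fun r t hr => Subtype.ext (by
        show twSigma symOKE6_gr f ((Y.x r t : ↥(chevE6.group K)) : GL chevE6.Idx K) = _
        rw [hYx, hYx, hσx r (of_decide_eq_true hr).2])
      fixed := fun g => Subtype.ext (((hmem g.1).1 g.2).2)
      uniq := huniq
      ι_inj := Subgroup.inclusion_injective _
      el := el
      el_long := fun s hs u hu => Subtype.ext (by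
        show ((el (.long s) u : ↥(Cfsg.Lie.twistedE6 K q)) : GL chevE6.Idx K) = _
        simp only [el, dif_pos (hfixed (.long s) hs u hu)]
        rw [hel₀])
      el_pair := fun s s' b hs u => Subtype.ext (by
        show ((el (.pair s s' b) u : ↥(Cfsg.Lie.twistedE6 K q)) : GL chevE6.Idx K) = _
        simp only [el, dif_pos (hfixed (.pair s s' b) hs u trivial)]
        rw [hel₀]) }
  refine ⟨Z, hf, fun h1 => ?_⟩
  have h71 : unit (.long 71) = true := by decide +kernel
  have e1 := Z.el_long 71 h71 1 (map_one f)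
  rw [h1, map_one] at e1
  have := Z.uniq [71] (by decide) (by decide +kernel) (fun _ => 1) (fun _ => 0)
    (by simpa [Z.Y.zero] using e1.symm) 71 (by simp)
  exact one_ne_zero this

theorem card_fixed_field {q : ℕ} (hq : IsPrimePow q) (hK : Fintype.card K = q ^ 2) {f : K →+* K}
    (hf : ∀ t, f t = t ^ q) : Nat.card {x : K // f x = x} = q := by
  classical
  have hq2 := hq.two_le
  have hu : Nat.card Kˣ = (q + 1) * (q - 1) := by
    rw [Nat.card_units, Nat.card_eq_fintype_card, hK, show q ^ 2 - 1 = (q + 1) * (q - 1) by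
      rw [← Nat.sq_sub_sq, one_pow]]
  have hker : Nat.card ↥(powMonoidHom (q - 1) : Kˣ →* Kˣ).ker = q - 1 := by
    rw [IsCyclic.card_powMonoidHom_ker, hu, Nat.gcd_eq_right (dvd_mul_left _ _)]
  have e : {x : {x : K // f x = x} // x ≠ ⟨0, map_zero f⟩} ≃ ↥(powMonoidHom (q - 1) : Kˣ →* Kˣ).ker :=
    { toFun := fun x => ⟨Units.mk0 x.1.1 (fun h => x.2 (Subtype.ext h)), by
        rw [MonoidHom.mem_ker, powMonoidHom_apply]
        refine Units.ext (mul_right_cancel₀ (fun h => x.2 (Subtype.ext h)) ?_ : _ = (1 : K))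
        rw [Units.val_pow_eq_pow_val, Units.val_mk0, ← pow_succ, Nat.sub_add_cancel (by omega), one_mul, ← hf]
        exact x.1.2⟩
      invFun := fun u => ⟨⟨(u.1 : K), by
        have := u.2
        rw [MonoidHom.mem_ker, powMonoidHom_apply] at this
        have e1 := pow_succ (u.1 : K) (q - 1)
        rw [Nat.sub_add_cancel (by omega : 1 ≤ q), ← Units.val_pow_eq_pow_val _ (q - 1), this, Units.val_one, one_mul] at e1
        rw [hf, e1]⟩, fun h => u.1.ne_zero (congrArg Subtype.val h)⟩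
      left_inv := fun _ => rfl
      right_inv := fun _ => Subtype.ext (Units.ext rfl) }
  have h1 := (Nat.card_congr e).trans hker
  rw [Nat.card_eq_fintype_card, Fintype.card_subtype_compl, Fintype.card_subtype_eq, ← Nat.card_eq_fintype_card] at h1
  have : 0 < Nat.card {x : K // f x = x} := by
    haveI : Nonempty {x : K // f x = x} := ⟨⟨0, map_zero f⟩⟩
    exact Nat.card_pos
  omega

theorem card_dvd_ordE {q : ℕ} (hq : IsPrimePow q) (hK : Fintype.card K = q ^ 2) :
    Nat.card ↥(Cfsg.Lie.twistedE6 K q) ∣ ordE q := by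
  refine ⟨Nat.gcd 3 (q + 1), ?_⟩
  rw [mul_comm, twistedE6_order hq hK, ordE]
  ring

/-- The smallest degree. -/
theorem degree_le {q : ℕ} (hq : IsPrimePow q) (hK : Fintype.card K = q ^ 2) (k : ℕ)
    (ρ : Representation ℂ ↥(Cfsg.Lie.twistedE6 K q) (Fin k → ℂ)) (hρ : ρ.IsIrreducible) (hk : 2 ≤ k) :
    target q ≤ k := by
  classical
  by_contra! hlt
  obtain ⟨Z, hf, h71⟩ := exists_tw hq hK
  have hq2 := hq.two_le
  have hfix := card_fixed_field hq hK hf
  have hmoves : ∃ ω, Z.f ω ≠ ω := by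
    by_contra! h
    have : Nat.card {x : K // Z.f x = x} = Nat.card K := Nat.card_congr (Equiv.subtypeUnivEquiv h)
    rw [hfix, Nat.card_eq_fintype_card, hK] at this
    nlinarith
  obtain ⟨θ, hθ⟩ : ∃ θ : AddChar K ℂ, θ 1 ≠ 1 := by
    obtain ⟨θ₀, hθ₀⟩ := Fintype.exists_ne_of_one_lt_card
      (show 1 < Fintype.card (AddChar K ℂ) by rw [AddChar.card_eq]; exact Fintype.one_lt_card) (1 : AddChar K ℂ)
    obtain ⟨c, hc⟩ : ∃ c, θ₀ c ≠ 1 := by
      by_contra! h
      exact hθ₀ (DFunLike.ext _ _ fun c => by rw [h c, AddChar.one_apply])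
    exact ⟨θ₀.compAddMonoidHom (AddMonoidHom.mulLeft c), by simpa using hc⟩
  obtain ⟨σ, hσ⟩ : ∃ σ : ↥(Cfsg.Lie.twistedE6 K q) →* Module.End ℂ (Fin k → ℂ), ∀ g, σ g = ρ g := ⟨ρ, fun _ => rfl⟩
  have hsimple : IsSimpleGroup ↥(Cfsg.Lie.twistedE6 K q) := by
    obtain ⟨f, h, e, -, -, hp, hwit⟩ := twistedE6_facts hq hK
    rw [e]
    exact (h.simple_of_perfect certE6C fullCertE6 twCombE6 twLinkedE6 (by decide) (by decide) hwit hp).1
  haveI := hρ
  have hfaith : σ (Z.el (.long 71) 1) ≠ 1 := by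
    intro h1
    have htriv : ∀ g, ρ g = 1 := by
      rcases hsimple.eq_bot_or_eq_top_of_normal σ.ker (MonoidHom.normal_ker σ) with h0 | h0
      · exact absurd ((Subgroup.eq_bot_iff_forall _).1 h0 _ (MonoidHom.mem_ker.2 h1)) h71
      · intro g
        rw [← hσ]
        exact MonoidHom.mem_ker.1 (h0 ▸ Subgroup.mem_top g)
    obtain ⟨v, hv⟩ : ∃ v : Fin k → ℂ, v ≠ 0 := by
      haveI : Nonempty (Fin k) := ⟨⟨0, by omega⟩⟩
      exact exists_ne 0
    let W : Subrepresentation ρ := ⟨ℂ ∙ v, fun g w hw => by rw [htriv]; exact hw⟩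
    rcases IsSimpleOrder.eq_bot_or_eq_top W with h0 | h0
    · exact hv (Submodule.span_singleton_eq_bot.mp (congrArg Subrepresentation.toSubmodule h0))
    · have h1 : (ℂ ∙ v) = ⊤ := congrArg Subrepresentation.toSubmodule h0
      have h2 := finrank_span_singleton (K := ℂ) hv
      rw [h1, finrank_top, Module.finrank_fin_fun] at h2
      omega
  have hV : finrank ℂ (Fin k → ℂ) = k := Module.finrank_fin_fun ℂ
  have hnear := near_target (Z := Z) (ρ := σ) (θ := θ)
    { card := hK, fix := hfix, two := hq2, moves := hmoves, char := ⟨1, map_one _, hθ⟩, faithful := hfaith,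
      small := by rw [hV]; exact hlt }
  rw [hV] at hnear
  letI : Fintype ↥(Cfsg.Lie.twistedE6 K q) := Fintype.ofFinite _
  have hd : k ∣ Nat.card ↥(Cfsg.Lie.twistedE6 K q) :=
    Cfsg.Lib.Char.degree_dvd_card (Cfsg.Lib.Char.isIrrCharacter_character ρ)
      (by rw [Representation.char_one, Module.finrank_fin_fun])
  refine ordE_not_dvd hq (j := target q - k) (by omega) (by omega) ?_
  have e : target q - (target q - k) = k := by omega
  rw [target] at e
  rw [show target q - k = q * (q ^ 6 - q ^ 3 + 1) * (q ^ 4 + 1) - k from rfl, e]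
  exact hd.trans (card_dvd_ordE hq hK)

end Cfsg.Lib.Chev.SimpDeg.TwE6
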