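import Cfsg.Agent.Lib.Chev.SimplyDegree.TwBase

/-!
# Moves of coordinate vectors in a twisted group

Clearing the coordinates fed by a fixed one, climbing towards a coordinate along a rank, and moves
with parameters `±1` evaluated over the integers.
-/

set_option autoImplicit false
set_option linter.unusedSectionVars false

namespace Cfsg.Lib.Chev.SimpDeg

variable {K : Type*} [Field K] {n : ℕ} (T : Src n) (f : K →+* K) (I : Flip n)

/-- The translation with parameter `±1` over the integers. -/
def ztau (s : ℕ) (b : Bool) (a : Fin n → ℤ) : Fin n → ℤ := fun m =>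
  match T s m with
  | none => a m
  | some (j, c) => a m + (bif c == b then 1 else -1) * a j

/-- A translation by an element with parameter `±1` over the integers. -/
def zop : Op × Bool → (Fin n → ℤ) → (Fin n → ℤ)
  | (.long s, b), a => ztau T s b a
  | (.pair s s' e, b), a => ztau T s b (ztau T s' (e == b) a)

/-- A list of such translations. -/
def zmoves : List (Op × Bool) → (Fin n → ℤ) → (Fin n → ℤ)
  | [], a => a
  | p :: L, a => zop T p (zmoves L a)

/-- A list of translations carries coordinate `i` to coordinate `j` with a sign. -/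
def zmoveOK (ops : List Op) (L : List (Op × Bool)) (i j : Fin n) (σ : Bool) : Bool :=
  (L.all fun p => decide (p.1 ∈ ops)) &&
    decide (∀ m, zmoves T L (fun k => if k = i then 1 else 0) m = if m = j then (bif σ then 1 else -1) else 0)

theorem tau_ztau (s : ℕ) (b : Bool) (z : Fin n → ℤ) (c : K) :
    tau T s (sg K b) (fun m => (z m : K) * c) = fun m => (ztau T s b z m : K) * c := by
  funext m
  rcases h : T s m with _ | ⟨j, e⟩
  · simp [tau_none T h, ztau, h]
  · cases e <;> cases b <;> simp [tau_some T h, ztau, h, sg] <;> ring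

theorem zmoves_closed {ops : List Op} {P : (Fin n → K) → Prop} (hP : OpClosed T f ops P) :
    ∀ (L : List (Op × Bool)), (∀ p ∈ L, p.1 ∈ ops) → ∀ (z : Fin n → ℤ) (c : K),
      P (fun m => (z m : K) * c) → P (fun m => (zmoves T L z m : K) * c)
  | [], _, _, _, h => h
  | (op, b) :: L, hL, z, c, h => by
    have ih := zmoves_closed hP L (fun p hp => hL p (List.mem_cons_of_mem _ hp)) z c h
    have hop := hP op (hL (op, b) List.mem_cons_self)
    cases op with
    | long s =>
      have := hop (sg K b) (map_sg f b) _ ih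
      rw [opTau, tau_ztau] at this
      exact this
    | pair s s' e =>
      have := hop (sg K b) trivial _ ih
      rw [opTau, map_sg, ← sg_xor, tau_ztau, tau_ztau] at this
      exact this

/-- A checked list of translations moves a single coordinate to another one. -/
theorem zmove {ops : List Op} {P : (Fin n → K) → Prop} (hP : OpClosed T f ops P) {L : List (Op × Bool)}
    {i j : Fin n} {σ : Bool} (h : zmoveOK T ops L i j σ = true) {c : K} (hc : P (Pi.single i c)) :
    P (Pi.single j (sg K σ * c)) := by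
  simp only [zmoveOK, Bool.and_eq_true, List.all_eq_true, decide_eq_true_eq] at h
  have e1 : (Pi.single i c : Fin n → K) = fun m => (((fun k => if k = i then 1 else 0 : Fin n → ℤ) m : ℤ) : K) * c := by
    funext m
    rcases eq_or_ne m i with rfl | hm
    · simp
    · simp [hm]
  rw [e1] at hc
  have := zmoves_closed T f hP L h.1 _ c hc
  have e2 : (Pi.single j (sg K σ * c) : Fin n → K) =
      fun m => ((zmoves T L (fun k => if k = i then 1 else 0) m : ℤ) : K) * c := by
    funext m
    rw [h.2 m]
    rcases eq_or_ne m j with rfl | hm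
    · cases σ <;> simp [sg]
    · simp [hm]
  rwa [e2]

/-- An element carries coordinate `i` to `j` up to coordinates of smaller rank. -/
def feedsRank (rk : Fin n → ℕ) : Op → Fin n → Fin n → Bool
  | .long s, i, j => decide ((T s j).map Prod.fst = some i)
  | .pair s s' _, i, j => decide ((T s j).map Prod.fst = some i ∧ ∀ r ∈ T s' i, rk r.1 < rk i)

/-- An element carries coordinate `i` upwards along a rank. -/
def rankClimbOK (ops : List Op) (rk : Fin n → ℕ) (γ : Fin n) : Bool :=
  decide (∀ i, i ≠ γ → ∃ op ∈ ops, ∃ j, rk j < rk i ∧ feedsRank T rk op i j = true)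

theorem rankClimb {ops : List Op} {P : (Fin n → K) → Prop} (hP : OpClosed T f ops P) {γ : Fin n} {rk : Fin n → ℕ}
    (hω : ∃ ω, f ω ≠ ω) (h : rankClimbOK T ops rk γ = true) {a : Fin n → K} (ha : P a) {i : Fin n} (hne : a i ≠ 0) :
    ∃ b, P b ∧ b γ ≠ 0 := by
  simp only [rankClimbOK, decide_eq_true_eq] at h
  induction hd : rk i using Nat.strong_induction_on generalizing i a with
  | _ d ih =>
    rcases eq_or_ne i γ with rfl | hiγ
    · exact ⟨a, ha, hne⟩
    obtain ⟨op, hop, j, hij, hj⟩ := h i hiγ
    rcases eq_or_ne (a j) 0 with hj0 | hj0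
    · cases op with
      | long s =>
        obtain ⟨⟨i', b⟩, hb, hi'⟩ := Option.map_eq_some_iff.1 (of_decide_eq_true hj)
        obtain rfl : i' = i := hi'
        refine ih _ (hd ▸ hij) (hP _ hop 1 (map_one f) a ha) (i := j) ?_ rfl
        rw [opTau, tau_some T hb, hj0, zero_add, mul_one]
        exact mul_ne_zero (sg_ne_zero b) hne
      | pair s s' e =>
        obtain ⟨hsrc, hlow⟩ := of_decide_eq_true hj
        obtain ⟨⟨i', b⟩, hb, hi'⟩ := Option.map_eq_some_iff.1 hsrc
        obtain rfl : i' = i := hi'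
        by_cases hr : ∀ r ∈ T s' i', a r.1 = 0
        · by_contra hall
          push Not at hall
          obtain ⟨d', hd'⟩ : ∃ d', ∀ u, tau T s' (sg K e * f u) a j = d' * f u := by
            rcases hs : T s' j with _ | ⟨k, c⟩
            · exact ⟨0, fun u => by rw [tau_none T hs, hj0, zero_mul]⟩
            · exact ⟨sg K c * sg K e * a k, fun u => by rw [tau_some T hs, hj0, zero_add]; ring⟩
          refine mul_ne_zero (sg_ne_zero b) hne (eq_zero_of_twist f hω (d := d') fun u => ?_)
          by_contra hu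
          obtain ⟨b', hb', hne'⟩ := ih _ (hd ▸ hij) (hP _ hop u trivial a ha) (i := j) (by
            rw [opTau, tau_some T hb, hd', tau_zero_src T (fun k c hk => hr (k, c) hk)]
            intro e0
            exact hu (by linear_combination e0)) rfl
          exact hne' (hall b' hb')
        · push Not at hr
          obtain ⟨r, hr, hne'⟩ := hr
          exact ih _ (hd ▸ hlow r hr) ha (i := r.1) hne' rfl
    · exact ih _ (hd ▸ hij) ha hj0 rfl

/-- The checks for clearing the coordinates fed by `γ`. -/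
def clearOK (ops : List Op) (γ : Fin n) (L : List (Op × Fin n)) : Bool :=
  decide (I.g γ = γ) && leadOK T (fun _ => false) γ (flatOps I L) && L.all (leadSign T I γ) &&
    L.all fun p => decide (p.1 ∈ ops)

/-- The coordinates named by a list. -/
def zerosOf (L : List (Op × Fin n)) : Fin n → Bool := fun m => decide (m ∈ (flatOps I L).map Prod.snd)

/-- The coordinates fed by a fixed coordinate can be cleared. -/
theorem clear [Finite K] (hI : I.ok = true) {ops : List Op} {P : (Fin n → K) → Prop} (hP : OpClosed T f ops P)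
    (hInv : ∀ a, P a → Inv f I a) {γ : Fin n} {L : List (Op × Fin n)} (h : clearOK T I ops γ L = true)
    {a : Fin n → K} (ha : P a) (hγ : a γ ≠ 0) :
    ∃ b, P b ∧ b γ = a γ ∧ ∀ m, zerosOf I L m = true → b m = 0 := by
  classical
  simp only [clearOK, Bool.and_eq_true, List.all_eq_true, decide_eq_true_eq] at h
  obtain ⟨⟨⟨hg, hlead⟩, hsign⟩, hops⟩ := h
  have hc : f (a γ) = a γ := by
    have := hInv a ha γ
    simp only [Flip.ok, decide_eq_true_eq] at hI
    rw [hg, (hI γ).2.2 hg, show sg K true = (1 : K) from rfl, one_mul] at this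
    exact this.symm
  have hl := hlead
  simp only [leadOK, Bool.and_eq_true, decide_eq_true_eq] at hl
  obtain ⟨u, hu⟩ : ∃ u : Fin (flatOps I L).length → K, u = fun l => a ((flatOps I L).get l).2 /
      (((T ((flatOps I L).get l).1 ((flatOps I L).get l).2).map fun p => sg K p.2).getD 1 * a γ) := ⟨_, rfl⟩
  have hadm : AdmList f I L u := hu ▸ admList_solve T f I hI hγ hc (hInv a ha) L (List.all_eq_true.2 hsign)
  obtain ⟨b, hb, eb⟩ := exists_preimage_op T f I hP L hops (fun p hp => (hl.1 p hp).2.1) hadm ha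
  obtain ⟨e1, -, e3⟩ := multi_lead T (flatOps I L) hlead b (fun m hm => by simp at hm) u
  rw [eb] at e1 e3
  refine ⟨b, hb, e1.symm, fun m hm => ?_⟩
  obtain ⟨p, hp, rfl⟩ := List.mem_map.1 (of_decide_eq_true hm)
  obtain ⟨l, rfl⟩ := List.get_of_mem hp
  obtain ⟨b', hb', hv⟩ := e3 l
  rw [← e1, hu] at hv
  beta_reduce at hv
  rw [hb'] at hv
  simp only [Option.map_some, Option.getD_some] at hv
  have hz : sg K b' * (a ((flatOps I L).get l).2 / (sg K b' * a γ)) * a γ = a ((flatOps I L).get l).2 := by
    field_simp [sg_ne_zero]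
  rw [hz] at hv
  exact add_eq_right.1 hv.symm

/-- The checks for a large family from a vector cleared at the coordinates of `L`. -/
def spreadAll (ops : List Op) (γ : Fin n) (L : List (Op × Fin n)) (pick : Fin n → Op × Fin n) (i₀ : Fin n) : Bool :=
  decide (∀ i, zerosOf I L i = false → i ≠ γ → i ≠ i₀ →
    (pick i).1 ∈ ops ∧ spreadsTo T (zerosOf I L) (zerosOf I L) γ (pick i).1 i (pick i).2 = true)

/-- The check that a long element moves the exceptional coordinate to another one. -/
def shiftOK (ops : List Op) (γ : Fin n) (L : List (Op × Fin n)) (i₀ j : Fin n) (s : ℕ) : Bool :=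
  decide (Op.long s ∈ ops ∧ zerosOf I L j = false ∧ j ≠ γ ∧ j ≠ i₀ ∧ (T s j).map Prod.fst = some i₀ ∧
    ∀ m, (zerosOf I L m = true ∨ m = γ) → ∀ r ∈ T s m, r.1 ≠ i₀ ∧ r.1 ≠ γ)

/-- A vector with a non-zero fixed coordinate gives that single coordinate or a large family. -/
theorem clear_dichotomy [Fintype K] (hI : I.ok = true) {q : ℕ} (hK : Fintype.card K = q ^ 2)
    (hfix : Nat.card {x : K // f x = x} = q) {ops : List Op} {P : (Fin n → K) → Prop} (hP : OpClosed T f ops P)
    (hInv : ∀ a, P a → Inv f I a) {γ : Fin n} {L : List (Op × Fin n)} (h : clearOK T I ops γ L = true)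
    {pick : Fin n → Op × Fin n} {i₀ j₀ : Fin n} {s₀ : ℕ} (hpick : spreadAll T I ops γ L pick i₀ = true)
    (hshift : shiftOK T I ops γ L i₀ j₀ s₀ = true) {a : Fin n → K} (ha : P a) (hγ : a γ ≠ 0) :
    P (Pi.single γ (a γ)) ∨ ∃ g : Fin (q ^ ((flatOps I L).length + 2)) → (Fin n → K),
      Function.Injective g ∧ ∀ x, P (g x) ∧ g x ≠ 0 := by
  classical
  obtain ⟨b, hb, hbγ, hbz⟩ := clear T f I hI hP hInv h ha hγ
  by_cases hr : ∀ m, zerosOf I L m = false → m ≠ γ → b m = 0
  · left
    have hbs : b = Pi.single γ (a γ) := funext fun m => by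
      rcases eq_or_ne m γ with rfl | hm
      · rw [Pi.single_eq_same, hbγ]
      · rw [Pi.single_eq_of_ne (M := fun _ => K) hm]
        cases hz : zerosOf I L m
        · exact hr m hz hm
        · exact hbz m hz
    exact hbs ▸ hb
  right
  simp only [spreadAll, decide_eq_true_eq] at hpick
  simp only [shiftOK, decide_eq_true_eq] at hshift
  obtain ⟨hs₀, hj₀z, hj₀γ, hj₀i, hj₀s, hkeep⟩ := hshift
  obtain ⟨b₁, hb₁, hb₁γ, hb₁z, i, hiz, hiγ, hi₀, hi⟩ : ∃ b₁, P b₁ ∧ b₁ γ = a γ ∧
      (∀ m, zerosOf I L m = true → b₁ m = 0) ∧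
      ∃ i, zerosOf I L i = false ∧ i ≠ γ ∧ i ≠ i₀ ∧ b₁ i ≠ 0 := by
    by_cases hr' : ∀ m, zerosOf I L m = false → m ≠ γ → m ≠ i₀ → b m = 0
    · push Not at hr
      obtain ⟨m, hmz, hmγ, hm⟩ := hr
      obtain rfl : m = i₀ := by_contra fun e => hm (hr' m hmz hmγ e)
      have hzero : ∀ r, r ≠ m → r ≠ γ → b r = 0 := fun r h1 h2 => by
        cases hz : zerosOf I L r
        · exact hr' r hz h2 h1
        · exact hbz r hz
      refine ⟨opTau T f (.long s₀) 1 b, hP _ hs₀ 1 (map_one f) b hb, ?_, fun r hr => ?_, j₀, hj₀z, hj₀γ, hj₀i, ?_⟩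
      · rw [opTau, tau_zero_src T fun k c hk => hzero k (hkeep γ (Or.inr rfl) (k, c) hk).1
          (hkeep γ (Or.inr rfl) (k, c) hk).2, hbγ]
      · rw [opTau, tau_zero_src T fun k c hk => hzero k (hkeep r (Or.inl hr) (k, c) hk).1
          (hkeep r (Or.inl hr) (k, c) hk).2, hbz r hr]
      · obtain ⟨⟨i', c⟩, hc, hi'⟩ := Option.map_eq_some_iff.1 hj₀s
        obtain rfl : i' = m := hi'
        rw [opTau, tau_some T hc, hzero j₀ hj₀i hj₀γ, zero_add, mul_one]
        exact mul_ne_zero (sg_ne_zero c) hm
    · push Not at hr'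
      obtain ⟨m, h1, h2, h3, h4⟩ := hr'
      exact ⟨b, hb, hbγ, hbz, m, h1, h2, h3, h4⟩
  obtain ⟨hop, hsp⟩ := hpick i hiz hiγ hi₀
  obtain ⟨hkeep', hinj⟩ := spreads T f hsp (fun _ hm => hm) hb₁z hi
  have hl := h
  simp only [clearOK, Bool.and_eq_true, List.all_eq_true, decide_eq_true_eq] at hl
  obtain ⟨⟨⟨-, hlead⟩, -⟩, hops⟩ := hl
  have hlow : ∀ p ∈ flatOps I L, lowering T p.1 = true := fun p hp => by
    have := hlead
    simp only [leadOK, Bool.and_eq_true, decide_eq_true_eq] at this
    exact (this.1 p hp).2.1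
  obtain ⟨p, hp, hp'⟩ := exists_adm_family f I hK hfix L
  have e : Fin (q ^ ((flatOps I L).length + 2)) ≃ Fin (q ^ (flatOps I L).length) × K :=
    (finCongr (pow_add q _ _)).trans (finProdFinEquiv.symm.trans
      (Equiv.prodCongr (Equiv.refl _) ((finCongr hK.symm).trans (Fintype.equivFin K).symm)))
  refine ⟨fun x => multi T (flatOps I L) (p (e x).1) (opTau T f (pick i).1 (e x).2 b₁), fun x y exy => ?_,
    fun x => ?_⟩
  · beta_reduce at exy
    have hu : p (e x).1 = p (e y).1 := funext fun l => by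
      obtain ⟨b2, hb2, hv1⟩ := (multi_lead T _ hlead (opTau T f (pick i).1 (e x).2 b₁) (fun m hm => by simp at hm)
        (p (e x).1)).2.2 l
      obtain ⟨b3, hb3, hv2⟩ := (multi_lead T _ hlead (opTau T f (pick i).1 (e y).2 b₁) (fun m hm => by simp at hm)
        (p (e y).1)).2.2 l
      obtain rfl : b2 = b3 := (Prod.ext_iff.1 (Option.some.inj (hb2.symm.trans hb3))).2
      have hz : zerosOf I L ((flatOps I L).get l).2 = true :=
        decide_eq_true (List.mem_map_of_mem ((flatOps I L).get_mem l))
      rw [exy, hv2, (hkeep' _).1 _ hz, (hkeep' _).1 _ hz, (hkeep' _).2.1, (hkeep' _).2.1, zero_add, zero_add] at hv1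
      exact (mul_left_cancel₀ (sg_ne_zero b2) (mul_right_cancel₀ (hb₁γ ▸ hγ) hv1)).symm
    rw [hu] at exy
    exact e.injective (Prod.ext (hp hu) (hinj (multi_injective T _ hlow _ exy)))
  · refine ⟨multi_opClosed T f I hP L hops _ (hp' _) _ (hP _ hop _ (hkeep' _).2.2 _ hb₁), fun e0 => hγ ?_⟩
    have := congrFun e0 γ
    beta_reduce at this
    rwa [(multi_lead T _ hlead _ (fun m hm => by simp at hm) _).1, (hkeep' _).2.1, hb₁γ] at this

end Cfsg.Lib.Chev.SimpDeg
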