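import Cfsg.Agent.Lib.Chev.SimplyDegree.TwRep
import Cfsg.Agent.Lib.Chev.SimplyDegree.TwMove

/-!
# Single elements, zero characters and sums over a level of a twisted group
-/

set_option autoImplicit false
set_option linter.unusedSectionVars false

namespace Cfsg.Lib.Chev.SimpDeg

open Cfsg.Lib.Linear.MinDegree Module

variable {G A K : Type*} [Group G] [Group A] [Field K] {tr : ℕ → ℕ → Tr} {rt : ℕ → ℕ} {es : ℕ → Bool}
  {pos : ℕ → Bool} {unit : Op → Bool} (Z : Tw G A K tr rt es pos unit)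
variable {V : Type*} [AddCommGroup V] [Module ℂ V] (ρ : G →* Module.End ℂ V)

theorem Tw.el_mem_X {op : Op} (hu : unit op = true) {u : K} (ha : op.adm Z.f u) {Q : List ℕ}
    (hQ : ∀ r ∈ op.roots, r ∈ Q) : Z.ι (Z.el op u) ∈ Z.X Q := by
  cases op with
  | long s =>
    rw [Z.el_long s hu u ha]
    exact Z.mem_X (hQ s (by simp [Op.roots])) u
  | pair s s' e =>
    rw [Z.el_pair s s' e hu u]
    exact mul_mem (Z.mem_X (hQ s (by simp [Op.roots])) u) (Z.mem_X (hQ s' (by simp [Op.roots])) _)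

section Level

variable {n : ℕ} (P : Fin n → ℕ) (I : Flip n) (Q : List ℕ) (θ : AddChar K ℂ)

/-- The coordinates of one element. -/
def opVec (f : K →+* K) : Op × Fin n → K → (Fin n → K)
  | (.long _, m), u => Pi.single m u
  | (.pair _ _ e, m), u => Pi.single m u + Pi.single (I.g m) (sg K e * f u)

theorem pair_inv (f : K →+* K) (hf : ∀ x, f (f x) = x) (hI : I.ok = true) {m : Fin n} (hg : I.g m ≠ m) (t : K) :
    Inv f I (Pi.single m t + Pi.single (I.g m) (sg K (I.e m) * f t)) := by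
  simp only [Flip.ok, decide_eq_true_eq] at hI
  intro k
  rcases eq_or_ne k m with rfl | hk
  · simp [hg, Ne.symm hg]
  rcases eq_or_ne k (I.g m) with rfl | hk'
  · rw [(hI m).1, (hI m).2.1]
    simp only [Pi.add_apply, Pi.single_eq_same, Pi.single_eq_of_ne (M := fun _ => K) hg,
      Pi.single_eq_of_ne (M := fun _ => K) (Ne.symm hg), zero_add, add_zero, map_mul, map_sg, hf]
    rw [← mul_assoc, sg_mul_self, one_mul]
  · have h1 : I.g k ≠ m := fun e => hk' (by rw [← e, (hI k).1])
    have h2 : I.g k ≠ I.g m := fun e => hk (by rw [← (hI k).1, e, (hI m).1])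
    simp [h1, h2, hk, hk']

variable {P I Q θ}

theorem repsOK_pair {reps : List (Op × Fin n)} (hI : I.ok = true) (hr : repsOK P I unit reps = true) {s s' : ℕ}
    {e : Bool} {m : Fin n} (hp : (Op.pair s s' e, m) ∈ reps) : I.g m ≠ m := by
  simp only [repsOK, Bool.and_eq_true, decide_eq_true_eq] at hr
  have hnd := (hr.2.nodup_iff.2 (List.nodup_finRange n))
  rw [List.nodup_flatMap] at hnd
  have := hnd.1 _ hp
  simp only [cover, List.nodup_cons, List.mem_singleton] at this
  exact fun e' => this.1 e'.symm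

theorem Tw.opVec_quot (h : abelianOn P tr Q = true) (hI : I.ok = true) {reps : List (Op × Fin n)}
    (hr : repsOK P I unit reps = true) {p : Op × Fin n} (hp : p ∈ reps) {u : K} (hadm : p.1.adm Z.f u) :
    Inv Z.f I (opVec I Z.f p u) ∧ ∃ hm : Z.ι (Z.el p.1 u) ∈ Z.NX Q,
      Z.qmk Q ⟨_, hm⟩ = Z.lvlQ P Q h (Multiplicative.ofAdd (opVec I Z.f p u)) := by
  have hr' := hr
  simp only [repsOK, Bool.and_eq_true, List.all_eq_true, decide_eq_true_eq] at hr'
  obtain ⟨op, m⟩ := p
  obtain ⟨hu, hp'⟩ := hr'.1 _ hp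
  cases op with
  | long s =>
    simp only [Bool.and_eq_true, beq_iff_eq] at hp'
    have h1 : Z.ι (Z.el (.long s) u) = Z.Y.x (P m) u := by rw [hp'.1, Z.el_long s hu u hadm]
    refine ⟨single_inv Z.f I hI hp'.2 hadm, by rw [h1]; exact Z.root_mem P Q h m u, ?_⟩
    refine Eq.trans ?_ (Z.lvlQ_single P Q h m u).symm
    exact congrArg (Z.qmk Q) (Subtype.ext h1)
  | pair s s' e =>
    simp only [Bool.and_eq_true, beq_iff_eq] at hp'
    have h1 : Z.ι (Z.el (.pair s s' e) u) = Z.Y.x (P m) u * Z.Y.x (P (I.g m)) (sg K e * Z.f u) := by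
      rw [Z.el_pair s s' e hu, hp'.1.1, hp'.1.2]
    refine ⟨?_, by rw [h1]; exact mul_mem (Z.root_mem P Q h _ _) (Z.root_mem P Q h _ _), ?_⟩
    · rw [← hp'.2]
      exact pair_inv I Z.f Z.ff hI (repsOK_pair hI hr hp) u
    · simp only [opVec]
      rw [ofAdd_add, map_mul, Z.lvlQ_single, Z.lvlQ_single, ← map_mul]
      exact congrArg (Z.qmk Q) (Subtype.ext h1)

/-- A single element on a character. -/
theorem Tw.eig_el (h : abelianOn P tr Q = true) (hI : I.ok = true) {reps : List (Op × Fin n)}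
    (hr : repsOK P I unit reps = true) {p : Op × Fin n} (hp : p ∈ reps) {u : K} (hadm : p.1.adm Z.f u)
    {a : Fin n → K} {v : V} (hv : v ∈ Z.eig ρ I Q θ reps a) :
    ρ (Z.el p.1 u) v = θ (dotV a (opVec I Z.f p u)) • v := by
  obtain ⟨hw, hm, e⟩ := Z.opVec_quot h hI hr hp hadm
  obtain ⟨hm', e'⟩ := Z.eW_quot P I Q h hr hI hw
  rw [Z.congr_act ρ hm hm' (e.trans e'.symm) hv.1, hv.2 _ hw]

/-- A vector is in a level when each element acts by the character. -/
theorem Tw.mem_eig (hI : I.ok = true) {reps : List (Op × Fin n)} (hr : repsOK P I unit reps = true) {a : Fin n → K}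
    {v : V} (hv : v ∈ Z.Fix ρ Q)
    (h : ∀ p ∈ reps, ∀ u, p.1.adm Z.f u → ρ (Z.el p.1 u) v = θ (dotV a (opVec I Z.f p u)) • v) :
    v ∈ Z.eig ρ I Q θ reps a := by
  refine ⟨hv, fun w hw => ?_⟩
  have hr' := hr
  simp only [repsOK, Bool.and_eq_true, List.all_eq_true, decide_eq_true_eq] at hr'
  obtain ⟨hr', hperm⟩ := hr'
  have hI' := hI
  simp only [Flip.ok, decide_eq_true_eq] at hI'
  have key : ∀ L : List (Op × Fin n), (∀ p ∈ L, p ∈ reps) → ρ (Z.eW L w) v =
      θ (dotV a ((L.flatMap (cover I)).map fun i => (Pi.single i (w i) : Fin n → K)).sum) • v := by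
    intro L
    induction L with
    | nil => intro _; simp [Tw.eW, dotV]
    | cons p L ih =>
      intro hL
      have hp := hL p List.mem_cons_self
      have e0 : Z.eW (p :: L) w = Z.el p.1 (w p.2) * Z.eW L w := by simp [Tw.eW]
      have e1 : ((cover I p).map fun i => (Pi.single i (w i) : Fin n → K)).sum = opVec I Z.f p (w p.2) ∧
          p.1.adm Z.f (w p.2) := by
        obtain ⟨op, m⟩ := p
        obtain ⟨-, hp'⟩ := hr' _ hp
        cases op with
        | long s =>
          simp only [Bool.and_eq_true, beq_iff_eq] at hp'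
          have := hw m
          rw [hp'.2, (hI' m).2.2 hp'.2, show sg K true = (1 : K) from rfl, one_mul] at this
          exact ⟨by simp [cover, opVec], this.symm⟩
        | pair s s' e =>
          simp only [Bool.and_eq_true, beq_iff_eq] at hp'
          exact ⟨by simp [cover, opVec, hw m, hp'.2], trivial⟩
      rw [e0, map_mul, Module.End.mul_apply, ih fun x hx => hL x (List.mem_cons_of_mem _ hx), map_smul,
        h p hp _ e1.2, smul_smul, List.flatMap_cons, List.map_append, List.sum_append, e1.1, dotV_add,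
        AddChar.map_add_eq_mul, mul_comm]
  rw [key reps fun _ hp => hp, (hperm.map _).sum_eq, ← List.ofFn_eq_map, List.sum_ofFn, Finset.univ_sum_single]

/-- The zero character is fixed by the elements of the level and the radical. -/
theorem Tw.eig_fix (h : abelianOn P tr Q = true) (hI : I.ok = true) {reps : List (Op × Fin n)}
    (hr : repsOK P I unit reps = true) {L : List Op} (hL : closedOK tr rt es pos unit L = true)
    (hLu : L.all unit = true) {a : Fin n → K}
    (hsplit : ∀ op ∈ L, (∀ r ∈ op.roots, r ∈ Q) ∨ ∃ m, (op, m) ∈ reps ∧ a m = 0 ∧ a (I.g m) = 0) {v : V}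
    (hv : v ∈ Z.eig ρ I Q θ reps a) : v ∈ Z.Fix ρ (L.flatMap Op.roots) := by
  rw [List.all_eq_true] at hLu
  refine Z.mem_Fix ρ hL fun op hop u hu => ?_
  rcases hsplit op hop with hQ | ⟨m, hm, ha, ha'⟩
  · exact hv.1 _ (Z.el_mem_X (hLu op hop) hu hQ)
  · rw [Z.eig_el ρ h hI hr hm hu hv]
    cases op <;> simp [opVec, dotV_add, dotV_single, ha, ha']

/-- Fixed vectors of a larger set have the zero character. -/
theorem Tw.le_eig_zero (hI : I.ok = true) {reps : List (Op × Fin n)}
    (hr : repsOK P I unit reps = true) {Q' : List ℕ} (hQ : ∀ r ∈ Q, r ∈ Q') (hP : ∀ m, P m ∈ Q') :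
    Z.Fix ρ Q' ≤ Z.eig ρ I Q θ reps 0 := by
  intro v hv
  have hr' := hr
  simp only [repsOK, Bool.and_eq_true, List.all_eq_true, decide_eq_true_eq] at hr'
  refine Z.mem_eig ρ hI hr (Z.Fix_anti ρ hQ hv) fun p hp u hu => ?_
  obtain ⟨op, m⟩ := p
  obtain ⟨hunit, hp'⟩ := hr'.1 _ hp
  have hroots : ∀ r ∈ op.roots, r ∈ Q' := by
    cases op with
    | long s =>
      simp only [Bool.and_eq_true, beq_iff_eq] at hp'
      simpa [Op.roots, ← hp'.1] using hP m
    | pair s s' e =>
      simp only [Bool.and_eq_true, beq_iff_eq] at hp'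
      simp [Op.roots, ← hp'.1.1, ← hp'.1.2, hP m, hP (I.g m)]
  rw [hv _ (Z.el_mem_X hunit hu hroots)]
  simp [dotV]

/-- The checks on the elements acting on a level. -/
def opsOK (P : Fin n → ℕ) (tr : ℕ → ℕ → Tr) (Q : List ℕ) (I : Flip n) (unit : Op → Bool) (ops : List Op) : Bool :=
  ops.all fun op => unit op && op.roots.all (actsOn P tr Q) && flipOK (src P tr) I op

variable [Fintype K] [FiniteDimensional ℂ V]

theorem Tw.eig_opTau {reps : List (Op × Fin n)} (H : Z.LevelHyp P I Q θ reps) {ops : List Op}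
    (hops : opsOK P tr Q I unit ops = true) {op : Op} (hop : op ∈ ops) {u : K} (hu : op.adm Z.f u) (a : Fin n → K) :
    finrank ℂ (Z.eig ρ I Q θ reps a) ≤ finrank ℂ (Z.eig ρ I Q θ reps (opTau (src P tr) Z.f op u a)) := by
  simp only [opsOK, List.all_eq_true, Bool.and_eq_true] at hops
  obtain ⟨⟨h1, h2⟩, h3⟩ := hops op hop
  exact Tw.Mover.finrank_le Z ρ P I Q θ H.flip
    (Z.opMover P I Q H.ab H.flip h1 (List.all_eq_true.2 h2) h3 hu) H.span a

/-- The translations keep the fixed vectors of a level with the multiplicity bounded below. -/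
theorem Tw.closed_eig {reps : List (Op × Fin n)} (H : Z.LevelHyp P I Q θ reps) {ops : List Op}
    (hops : opsOK P tr Q I unit ops = true) (d : ℕ) :
    OpClosed (src P tr) Z.f ops fun a => Inv Z.f I a ∧ d ≤ finrank ℂ (Z.eig ρ I Q θ reps a) := by
  intro op hop u hu a ⟨ha, hd⟩
  refine ⟨opTau_inv (src P tr) Z.f I Z.ff H.flip ?_ hu ha, hd.trans (Z.eig_opTau ρ H hops hop hu a)⟩
  simp only [opsOK, List.all_eq_true, Bool.and_eq_true] at hops
  exact (hops op hop).2

theorem Tw.multi_eig {reps : List (Op × Fin n)} (H : Z.LevelHyp P I Q θ reps) {ops : List Op}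
    (hops : opsOK P tr Q I unit ops = true) {L : List (Op × Fin n)} (hL : ∀ p ∈ L, p.1 ∈ ops)
    {u : Fin (flatOps I L).length → K} (hu : AdmList Z.f I L u) {a : Fin n → K} (ha : Inv Z.f I a) :
    Inv Z.f I (multi (src P tr) (flatOps I L) u a) ∧ finrank ℂ (Z.eig ρ I Q θ reps a) ≤
      finrank ℂ (Z.eig ρ I Q θ reps (multi (src P tr) (flatOps I L) u a)) :=
  multi_opClosed (src P tr) Z.f I (Z.closed_eig ρ H hops _) L hL u hu a ⟨ha, le_rfl⟩

/-- Distinct non-zero characters and the zero one. -/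
theorem Tw.family_le [DecidableEq K] {reps : List (Op × Fin n)} (H : Z.LevelHyp P I Q θ reps) {ι : Type*} [Fintype ι]
    (g : ι → (Fin n → K)) (hg : Function.Injective g) (hg' : ∀ x, g x ≠ 0 ∧ Inv Z.f I (g x)) :
    (∑ x, finrank ℂ (Z.eig ρ I Q θ reps (g x))) + finrank ℂ (Z.eig ρ I Q θ reps 0) ≤ finrank ℂ (Z.Fix ρ Q) := by
  classical
  rw [← Z.sum_finrank ρ P I Q θ H, ← Finset.sum_erase_add _ _ (Finset.mem_univ (0 : ↥(invSub I Z.f)))]
  refine Nat.add_le_add_right ?_ _
  rw [← Finset.sum_image (g := fun x => (⟨g x, (hg' x).2⟩ : ↥(invSub I Z.f)))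
    (f := fun a => finrank ℂ (Z.eig ρ I Q θ reps a.1)) fun x _ y _ e => hg (congrArg Subtype.val e)]
  refine Finset.sum_le_sum_of_subset fun a ha => ?_
  obtain ⟨x, -, rfl⟩ := Finset.mem_image.1 ha
  exact Finset.mem_erase.2 ⟨fun e => (hg' x).1 (congrArg Subtype.val e), Finset.mem_univ _⟩

/-- Vectors in a level with a character on one element lie in the characters agreeing with it. -/
theorem Tw.fiber_le [DecidableEq K] {reps : List (Op × Fin n)} (H : Z.LevelHyp P I Q θ reps) {m : Fin n} {s : ℕ}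
    (hm : (Op.long s, m) ∈ reps) {c : K} (hc : Z.f c = c) {W : Submodule ℂ V} (hW : W ≤ Z.Fix ρ Q)
    (h : ∀ v ∈ W, ∀ u, Z.f u = u → ρ (Z.el (.long s) u) v = θ (c * u) • v) :
    finrank ℂ W ≤ ∑ a ∈ (Finset.univ : Finset ↥(invSub I Z.f)).filter (fun a => a.1 m = c),
      finrank ℂ (Z.eig ρ I Q θ reps a.1) := by
  classical
  obtain ⟨E, hE⟩ : ∃ E : ↥(invSub I Z.f) → Module.End ℂ (Z.Fix ρ Q),
      ∀ a, E a = proj (Z.lvl ρ P I Q H.flip H.ab H.span) (chiW I θ Z.f a.1) := ⟨_, fun _ => rfl⟩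
  have hsum : ∑ a, E a = 1 := by
    simp only [hE]
    exact ((chiW_bijective I θ Z.f Z.ff H.flip H.moves H.char).sum_comp fun χ =>
      proj (Z.lvl ρ P I Q H.flip H.ab H.span) χ).trans (sum_proj _)
  have hmg : I.g m = m := by
    have := H.span
    simp only [repsOK, Bool.and_eq_true, List.all_eq_true, decide_eq_true_eq] at this
    have := (this.1 _ hm).2
    simp only [Bool.and_eq_true, beq_iff_eq] at this
    exact this.2
  obtain ⟨c₀, hc₀, hθ⟩ := H.char
  -- the characters that disagree kill the subspace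
  have kill : ∀ a : ↥(invSub I Z.f), a.1 m ≠ c → ∀ v : Z.Fix ρ Q, (v : V) ∈ W → E a v = 0 := by
    intro a ha v hv
    by_contra hne
    have hd : Z.f (a.1 m - c) = a.1 m - c := by
      have := a.2 m
      have hI' := H.flip
      simp only [Flip.ok, decide_eq_true_eq] at hI'
      rw [hmg, (hI' m).2.2 hmg, show sg K true = (1 : K) from rfl, one_mul] at this
      rw [map_sub, ← this, hc]
    obtain ⟨u, hu⟩ : ∃ u, u = c₀ / (a.1 m - c) := ⟨_, rfl⟩
    have huf : Z.f u = u := by rw [hu, map_div₀, hc₀, hd]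
    obtain ⟨w, hw⟩ : ∃ w : ↥(invSub I Z.f), w.1 = Pi.single m u := ⟨⟨_, single_inv Z.f I H.flip hmg huf⟩, rfl⟩
    have hlv : Z.lvl ρ P I Q H.flip H.ab H.span (Multiplicative.ofAdd w) v = θ (c * u) • v := by
      obtain ⟨-, hm1, e1⟩ := Z.opVec_quot H.ab H.flip H.span hm huf
      obtain ⟨hm2, e2⟩ := Z.eW_quot P I Q H.ab H.span H.flip w.2
      refine Subtype.ext ?_
      show ρ (Z.eW reps w.1) (v : V) = θ (c * u) • (v : V)
      rw [← h v hv u huf, Z.congr_act ρ hm2 hm1 (by rw [e1, e2, hw]; rfl) v.2]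
    have e := LinearMap.congr_fun (R_mul_proj (Z.lvl ρ P I Q H.flip H.ab H.span) (chiW I θ Z.f a.1) w) v
    have e' := congrArg (E a) hlv
    have hcomm : Z.lvl ρ P I Q H.flip H.ab H.span (Multiplicative.ofAdd w) * E a =
        E a * Z.lvl ρ P I Q H.flip H.ab H.span (Multiplicative.ofAdd w) := by
      simp only [hE, proj, Algebra.smul_mul_assoc, mul_smul_comm, Finset.sum_mul, Finset.mul_sum, ← map_mul, mul_comm]
    rw [map_smul, ← Module.End.mul_apply, ← hcomm, hE, e, LinearMap.smul_apply, ← hE] at e'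
    have h1 := smul_left_injective ℂ hne e'
    have h2 : chiW I θ Z.f a.1 w = θ (a.1 m * u) := by
      show θ (dotV a.1 w.1) = _
      rw [hw, dotV_single]
    rw [h2, show a.1 m * u = c * u + (a.1 m - c) * u by ring, AddChar.map_add_eq_mul, hu,
      mul_div_cancel₀ _ (sub_ne_zero.2 ha)] at h1
    exact hθ (mul_left_cancel₀ (AddChar.val_isUnit θ _).ne_zero (h1.trans (mul_one _).symm))
  have hrange : W.comap (Z.Fix ρ Q).subtype ≤
      ((Finset.univ : Finset ↥(invSub I Z.f)).filter fun a => a.1 m = c).sup fun a => LinearMap.range (E a) := by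
    intro v hv
    rw [← Module.End.one_apply (R := ℂ) v, ← hsum, LinearMap.sum_apply]
    refine Submodule.sum_mem _ fun a _ => ?_
    by_cases ha : a.1 m = c
    · exact Finset.le_sup (f := fun a => LinearMap.range (E a)) (Finset.mem_filter.2 ⟨Finset.mem_univ a, ha⟩)
        (LinearMap.mem_range_self _ v)
    · rw [kill a ha v hv]
      exact zero_mem _
  have hsup : ∀ S : Finset ↥(invSub I Z.f), finrank ℂ ↥(S.sup fun a => LinearMap.range (E a)) ≤
      ∑ a ∈ S, finrank ℂ (Z.eig ρ I Q θ reps a.1) := by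
    intro S
    induction S using Finset.induction_on with
    | empty => simp
    | insert x S hx ih =>
      rw [Finset.sup_insert, Finset.sum_insert hx]
      refine le_trans ?_ (Nat.add_le_add le_rfl ih)
      refine le_trans (Submodule.finrank_add_le_finrank_add_finrank _ _) (Nat.add_le_add ?_ le_rfl)
      rw [hE, Z.range_prj ρ P I Q θ H,
        LinearEquiv.finrank_eq (Submodule.comapSubtypeEquivOfLe (Z.eig_le ρ I Q θ reps x.1))]
  rw [← LinearEquiv.finrank_eq (Submodule.comapSubtypeEquivOfLe hW)]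
  exact (Submodule.finrank_mono hrange).trans (hsup _)

/-- Characters moving one fixed coordinate and the vectors fixed by that element. -/
theorem Tw.family_fix_le [DecidableEq K] {reps : List (Op × Fin n)} (H : Z.LevelHyp P I Q θ reps) {m : Fin n} {s : ℕ}
    (hm : (Op.long s, m) ∈ reps) {ι : Type*} [Fintype ι] (g : ι → (Fin n → K)) (hg : Function.Injective g)
    (hg' : ∀ x, g x m ≠ 0 ∧ Inv Z.f I (g x)) {W : Submodule ℂ V} (hW : W ≤ Z.Fix ρ Q)
    (h : ∀ v ∈ W, ∀ u, Z.f u = u → ρ (Z.el (.long s) u) v = v) :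
    (∑ x, finrank ℂ (Z.eig ρ I Q θ reps (g x))) + finrank ℂ W ≤ finrank ℂ (Z.Fix ρ Q) := by
  classical
  have hW' := Z.fiber_le ρ H hm (map_zero Z.f) hW fun v hv u hu => by
    rw [h v hv u hu, zero_mul, AddChar.map_zero_eq_one, one_smul]
  rw [← Z.sum_finrank ρ P I Q θ H,
    ← Finset.sum_filter_add_sum_filter_not Finset.univ (fun a : ↥(invSub I Z.f) => a.1 m = 0), add_comm]
  refine Nat.add_le_add hW' ?_
  rw [← Finset.sum_image (g := fun x => (⟨g x, (hg' x).2⟩ : ↥(invSub I Z.f)))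
    (f := fun a => finrank ℂ (Z.eig ρ I Q θ reps a.1)) fun x _ y _ e => hg (congrArg Subtype.val e)]
  refine Finset.sum_le_sum_of_subset fun a ha => ?_
  obtain ⟨x, -, rfl⟩ := Finset.mem_image.1 ha
  exact Finset.mem_filter.2 ⟨Finset.mem_univ _, (hg' x).1⟩

end Level

end Cfsg.Lib.Chev.SimpDeg
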