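import Cfsg.Agent.Lib.Chev.SimplyDegree.TwSys

/-!
# Characters of the levels of a twisted group
-/

set_option autoImplicit false
set_option linter.unusedSectionVars false

namespace Cfsg.Lib.Chev.SimpDeg

open Cfsg.Lib.Linear.MinDegree Module

variable {G A K : Type*} [Group G] [Group A] [Field K] {tr : ℕ → ℕ → Tr} {rt : ℕ → ℕ} {es : ℕ → Bool}
  {pos : ℕ → Bool} {unit : Op → Bool} (Z : Tw G A K tr rt es pos unit)
variable {V : Type*} [AddCommGroup V] [Module ℂ V] (ρ : G →* Module.End ℂ V)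

/-- The vectors fixed by the part of the twisted group in a subgroup of root elements. -/
def Tw.Fix (Q : List ℕ) : Submodule ℂ V where
  carrier := {v | ∀ g, Z.ι g ∈ Z.X Q → ρ g v = v}
  add_mem' ha hb g hg := by rw [map_add, ha g hg, hb g hg]
  zero_mem' g _ := map_zero _
  smul_mem' c v hv g hg := by rw [map_smul, hv g hg]

theorem Tw.Fix_anti {Q Q' : List ℕ} (h : ∀ r ∈ Q, r ∈ Q') : Z.Fix ρ Q' ≤ Z.Fix ρ Q :=
  fun _ hv g hg => hv g (Z.X_mono h hg)

theorem Tw.Fix_congr {Q Q' : List ℕ} (h : ∀ r, r ∈ Q ↔ r ∈ Q') : Z.Fix ρ Q = Z.Fix ρ Q' :=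
  le_antisymm (Z.Fix_anti ρ fun r => (h r).2) (Z.Fix_anti ρ fun r => (h r).1)

theorem Tw.Fix_nil : Z.Fix ρ [] = ⊤ := by
  refine eq_top_iff.2 fun v _ g hg => ?_
  have key : ∀ a ∈ Z.X [], a = 1 := fun a ha => by
    induction ha using Subgroup.closure_induction with
    | mem x hx => obtain ⟨r, hr, -⟩ := hx; simp at hr
    | one => rfl
    | mul a b _ _ ha hb => rw [ha, hb, mul_one]
    | inv a _ ha => rw [ha, inv_one]
  rw [Z.ι_inj ((key _ hg).trans (map_one Z.ι).symm), map_one, Module.End.one_apply]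

/-- Root elements of the twisted group generate its part in such a subgroup. -/
theorem Tw.mem_Fix {L : List Op} (hL : closedOK tr rt es pos unit L = true) {v : V}
    (hv : ∀ op ∈ L, ∀ u, op.adm Z.f u → ρ (Z.el op u) v = v) : v ∈ Z.Fix ρ (L.flatMap Op.roots) := by
  intro g hg
  obtain ⟨g', hg', e⟩ := Z.fixed_mem L hL g hg
  rw [← Z.ι_inj e]
  clear e
  induction hg' using Subgroup.closure_induction with
  | mem x hx =>
    obtain ⟨op, hop, u, hu, rfl⟩ := hx
    exact hv op hop u hu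
  | one => rw [map_one, Module.End.one_apply]
  | mul a b _ _ ha hb => rw [map_mul, Module.End.mul_apply, hb, ha]
  | inv a _ ha =>
    conv_lhs => rw [← ha]
    rw [← Module.End.mul_apply, ← map_mul, inv_mul_cancel, map_one, Module.End.one_apply]

theorem Tw.fix_map {Q : List ℕ} {h : G} (hh : Z.ι h ∈ Z.NX Q) {v : V} (hv : v ∈ Z.Fix ρ Q) :
    ρ h v ∈ Z.Fix ρ Q := by
  intro g hg
  have h1 : Z.ι (h⁻¹ * g * h) ∈ Z.X Q := by
    rw [map_mul, map_mul, map_inv]
    exact ((Subgroup.mem_normalizer_iff'').1 hh _).1 hg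
  rw [← Module.End.mul_apply, ← map_mul, show g * h = h * (h⁻¹ * g * h) by group, map_mul, Module.End.mul_apply,
    hv _ h1]

/-- An element on the fixed vectors. -/
noncomputable def Tw.op {Q : List ℕ} {h : G} (hh : Z.ι h ∈ Z.NX Q) : Module.End ℂ (Z.Fix ρ Q) :=
  (ρ h).restrict fun _ hv => Z.fix_map ρ hh hv

@[simp] theorem Tw.op_coe {Q : List ℕ} {h : G} (hh : Z.ι h ∈ Z.NX Q) (v : Z.Fix ρ Q) :
    (Z.op ρ hh v : V) = ρ h v := rfl

/-- The quotient of the normaliser. -/
abbrev Tw.Quot (Q : List ℕ) : Type _ := ↥(Z.NX Q) ⧸ (Z.X Q).subgroupOf (Z.NX Q)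

/-- The class of an element of the normaliser. -/
noncomputable def Tw.qmk (Q : List ℕ) : ↥(Z.NX Q) →* Z.Quot Q :=
  QuotientGroup.mk' ((Z.X Q).subgroupOf (Subgroup.normalizer (Z.X Q : Set A)))

theorem Tw.qmk_eq_one {Q : List ℕ} {a : ↥(Z.NX Q)} : Z.qmk Q a = 1 ↔ (a : A) ∈ Z.X Q :=
  (QuotientGroup.eq_one_iff a).trans Subgroup.mem_subgroupOf

/-- Congruent elements act alike. -/
theorem Tw.congr_act {Q : List ℕ} {g g' : G} (hg : Z.ι g ∈ Z.NX Q) (hg' : Z.ι g' ∈ Z.NX Q)
    (e : Z.qmk Q ⟨_, hg⟩ = Z.qmk Q ⟨_, hg'⟩) {v : V} (hv : v ∈ Z.Fix ρ Q) : ρ g v = ρ g' v := by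
  have h1 : Z.ι (g'⁻¹ * g) ∈ Z.X Q := by
    have : Z.qmk Q (⟨_, hg'⟩⁻¹ * ⟨_, hg⟩) = 1 := by rw [map_mul, map_inv, e, inv_mul_cancel]
    have h2 := Z.qmk_eq_one.1 this
    rw [map_mul, map_inv]
    exact h2
  calc ρ g v = ρ (g' * (g'⁻¹ * g)) v := by rw [mul_inv_cancel_left]
    _ = ρ g' v := by rw [map_mul, Module.End.mul_apply, hv _ h1]

section Level

variable {n : ℕ} (P : Fin n → ℕ) (I : Flip n) (Q : List ℕ)

theorem Tw.root_mem (h : abelianOn P tr Q = true) (i : Fin n) (t : K) : Z.Y.x (P i) t ∈ Z.NX Q := by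
  simp only [abelianOn, decide_eq_true_eq] at h
  exact Z.keeps_mem (h i).1 t

/-- One root group modulo the radical. -/
noncomputable def Tw.rootQ (h : abelianOn P tr Q = true) (i : Fin n) : Multiplicative K →* Z.Quot Q where
  toFun t := Z.qmk Q ⟨Z.Y.x (P i) t.toAdd, Z.root_mem P Q h i _⟩
  map_one' := by
    rw [← map_one (Z.qmk Q)]
    exact congrArg _ (Subtype.ext (Z.Y.zero _))
  map_mul' a b := by
    rw [← map_mul (Z.qmk Q)]
    exact congrArg _ (Subtype.ext (Z.Y.add _ _ _))

theorem Tw.rootQ_comm (h : abelianOn P tr Q = true) :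
    Pairwise fun i j => ∀ a b, Commute (Z.rootQ P Q h i a) (Z.rootQ P Q h j b) := by
  intro i j hij a b
  have hk := h
  simp only [abelianOn, decide_eq_true_eq] at hk
  have hk' := (hk j).2 i hij.symm
  rcases htr : tr (P j) (P i) with _ | _ | ⟨k, c⟩ <;> rw [htr] at hk' <;>
    simp only [Tr.into, decide_eq_true_eq, Bool.false_eq_true] at hk'
  · show Z.qmk Q _ * Z.qmk Q _ = Z.qmk Q _ * Z.qmk Q _
    rw [← map_mul, ← map_mul]
    exact congrArg _ (Subtype.ext (Z.Y.swap_comm htr _ _))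
  · show Z.qmk Q _ * Z.qmk Q _ = Z.qmk Q _ * Z.qmk Q _
    rw [← map_mul, ← map_mul]
    obtain ⟨w, hw⟩ : ∃ w, w = Z.Y.x k (sg K c * a.toAdd * -b.toAdd) := ⟨_, rfl⟩
    have hwX : w ∈ Z.X Q := hw ▸ Z.mem_X hk' _
    refine Eq.trans (congrArg _ (Subtype.ext (?_ : _ = ((⟨Z.Y.x (P j) b.toAdd, Z.root_mem P Q h j _⟩ *
      ⟨Z.Y.x (P i) a.toAdd, Z.root_mem P Q h i _⟩) * ⟨w, Z.X_le_NX Q hwX⟩ : ↥(Z.NX Q)).1))) ?_
    · show _ = Z.Y.x (P j) b.toAdd * Z.Y.x (P i) a.toAdd * w
      rw [mul_assoc, hw]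
      exact Z.Y.swap_to htr _ _
    · rw [map_mul, show Z.qmk Q ⟨w, Z.X_le_NX Q hwX⟩ = 1 from Z.qmk_eq_one.2 hwX, mul_one]

/-- The level modulo the radical. -/
noncomputable def Tw.lvlQ (h : abelianOn P tr Q = true) : Multiplicative (Fin n → K) →* Z.Quot Q :=
  (MonoidHom.noncommPiCoprod (Z.rootQ P Q h) (Z.rootQ_comm P Q h)).comp
    { toFun := fun w i => Multiplicative.ofAdd (w.toAdd i)
      map_one' := rfl
      map_mul' := fun _ _ => rfl }

theorem Tw.lvlQ_single (h : abelianOn P tr Q = true) (i : Fin n) (t : K) :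
    Z.lvlQ P Q h (Multiplicative.ofAdd (Pi.single i t)) = Z.qmk Q ⟨Z.Y.x (P i) t, Z.root_mem P Q h i t⟩ := by
  have e : (fun j => Multiplicative.ofAdd ((Pi.single i t : Fin n → K) j)) =
      (Pi.mulSingle i (Multiplicative.ofAdd t) : Fin n → Multiplicative K) := by
    funext j
    rcases eq_or_ne j i with rfl | hj
    · rw [Pi.single_eq_same, Pi.mulSingle_eq_same]
    · rw [Pi.single_eq_of_ne (M := fun _ => K) hj, Pi.mulSingle_eq_of_ne (M := fun _ => Multiplicative K) hj, ofAdd_zero]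
  show MonoidHom.noncommPiCoprod (Z.rootQ P Q h) (Z.rootQ_comm P Q h)
    (fun j => Multiplicative.ofAdd ((Pi.single i t : Fin n → K) j)) = _
  rw [e]
  exact (MonoidHom.noncommPiCoprod_mulSingle (Z.rootQ P Q h) i (Multiplicative.ofAdd t)).trans rfl

/-- The pairing of two coordinate vectors. -/
def dotV (a w : Fin n → K) : K := ∑ i, a i * w i

theorem dotV_add (a w w' : Fin n → K) : dotV a (w + w') = dotV a w + dotV a w' := by
  simp [dotV, mul_add, Finset.sum_add_distrib]

theorem dotV_single (a : Fin n → K) (i : Fin n) (t : K) : dotV a (Pi.single i t) = a i * t := by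
  rw [dotV, Finset.sum_eq_single i (fun j _ hj => by simp [Pi.single_eq_of_ne hj]) (by simp)]
  simp

theorem add_inv {f : K →+* K} {a b : Fin n → K} (ha : Inv f I a) (hb : Inv f I b) : Inv f I (a + b) := fun m => by
  rw [Pi.add_apply, Pi.add_apply, ha m, hb m, map_add, mul_add]

/-- The fixed coordinate vectors. -/
def invSub (f : K →+* K) : AddSubgroup (Fin n → K) where
  carrier := {w | Inv f I w}
  add_mem' := add_inv I
  zero_mem' m := by simp
  neg_mem' {a} ha m := by rw [Pi.neg_apply, Pi.neg_apply, ha m, map_neg, mul_neg]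

/-- The coordinates of an element. -/
def cover : Op × Fin n → List (Fin n)
  | (.long _, m) => [m]
  | (.pair _ _ _, m) => [m, I.g m]

/-- The checks on the elements spanning a level. -/
def repsOK (unit : Op → Bool) (reps : List (Op × Fin n)) : Bool :=
  (reps.all fun p => unit p.1 && match p with
    | (.long s, m) => P m == s && I.g m == m
    | (.pair s s' e, m) => P m == s && P (I.g m) == s' && I.e m == e) &&
    decide ((reps.flatMap (cover I)).Perm (List.finRange n))

/-- A product of root elements of the twisted group with given coordinates. -/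
def Tw.eW (reps : List (Op × Fin n)) (w : Fin n → K) : G := (reps.map fun p => Z.el p.1 (w p.2)).prod

theorem Tw.eW_quot (h : abelianOn P tr Q = true) {reps : List (Op × Fin n)} (hr : repsOK P I unit reps = true)
    (hI : I.ok = true) {w : Fin n → K} (hw : Inv Z.f I w) :
    ∃ hm : Z.ι (Z.eW reps w) ∈ Z.NX Q, Z.qmk Q ⟨_, hm⟩ = Z.lvlQ P Q h (Multiplicative.ofAdd w) := by
  classical
  simp only [repsOK, Bool.and_eq_true, List.all_eq_true, decide_eq_true_eq] at hr
  simp only [Flip.ok, decide_eq_true_eq] at hI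
  obtain ⟨hr, hperm⟩ := hr
  have key : ∀ L : List (Op × Fin n), (∀ p ∈ L, p ∈ reps) → ∃ hm : Z.ι (Z.eW L w) ∈ Z.NX Q,
      Z.qmk Q ⟨_, hm⟩ = Z.lvlQ P Q h (Multiplicative.ofAdd
        ((L.flatMap (cover I)).map fun i => (Pi.single i (w i) : Fin n → K)).sum) := by
    intro L
    induction L with
    | nil =>
      intro _
      refine ⟨by simp [Tw.eW], ?_⟩
      simp only [List.flatMap_nil, List.map_nil, List.sum_nil, ofAdd_zero, map_one]
      exact (congrArg _ (Subtype.ext (by simp [Tw.eW]))).trans (map_one _)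
    | cons p L ih =>
      intro hp
      obtain ⟨hm, e⟩ := ih fun x hx => hp x (List.mem_cons_of_mem _ hx)
      obtain ⟨hu, hp'⟩ := hr p (hp p List.mem_cons_self)
      obtain ⟨op, m⟩ := p
      have he : Z.ι (Z.eW ((op, m) :: L) w) = Z.ι (Z.el op (w m)) * Z.ι (Z.eW L w) := by
        simp [Tw.eW]
      cases op with
      | long s =>
        simp only [Bool.and_eq_true, beq_iff_eq] at hp'
        have hwm : Z.f (w m) = w m := by
          have := hw m
          rw [hp'.2, (hI m).2.2 hp'.2, show sg K true = (1 : K) from rfl, one_mul] at this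
          exact this.symm
        have h1 : Z.ι (Z.el (.long s) (w m)) = Z.Y.x (P m) (w m) := by rw [hp'.1, Z.el_long s hu _ hwm]
        have hm' : Z.ι (Z.eW ((Op.long s, m) :: L) w) ∈ Z.NX Q := by
          rw [he, h1]; exact mul_mem (Z.root_mem P Q h m _) hm
        refine ⟨hm', ?_⟩
        rw [List.flatMap_cons,
          show cover I (Op.long s, m) = [m] from rfl, List.singleton_append, List.map_cons, List.sum_cons,
          ofAdd_add, map_mul, ← e, Z.lvlQ_single, ← map_mul]
        exact congrArg (Z.qmk Q) (Subtype.ext (by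
          show Z.ι _ = Z.Y.x (P m) (w m) * Z.ι _
          rw [← h1]
          exact he))
      | pair s s' c =>
        simp only [Bool.and_eq_true, beq_iff_eq] at hp'
        have h1 : Z.ι (Z.el (.pair s s' c) (w m)) = Z.Y.x (P m) (w m) * Z.Y.x (P (I.g m)) (w (I.g m)) := by
          rw [Z.el_pair s s' c hu, hp'.1.1, hp'.1.2, hw m, hp'.2]
        have hm' : Z.ι (Z.eW ((Op.pair s s' c, m) :: L) w) ∈ Z.NX Q := by
          rw [he, h1]; exact mul_mem (mul_mem (Z.root_mem P Q h _ _) (Z.root_mem P Q h _ _)) hm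
        refine ⟨hm', ?_⟩
        rw [List.flatMap_cons, show cover I (Op.pair s s' c, m) = [m, I.g m] from rfl, List.cons_append,
          List.singleton_append, List.map_cons, List.sum_cons, List.map_cons, List.sum_cons, ← add_assoc,
          ofAdd_add, map_mul, ofAdd_add, map_mul, ← e, Z.lvlQ_single, Z.lvlQ_single, ← map_mul, ← map_mul]
        exact congrArg (Z.qmk Q) (Subtype.ext (by
          show Z.ι _ = Z.Y.x (P m) (w m) * Z.Y.x (P (I.g m)) (w (I.g m)) * Z.ι _
          rw [← h1]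
          exact he))
  obtain ⟨hm, e⟩ := key reps fun _ hp => hp
  refine ⟨hm, e.trans (congrArg (fun z => Z.lvlQ P Q h (Multiplicative.ofAdd z)) ?_)⟩
  rw [(hperm.map _).sum_eq, ← List.ofFn_eq_map, List.sum_ofFn, Finset.univ_sum_single]

variable (θ : AddChar K ℂ)

/-- The vectors of a level with a given character. -/
def Tw.eig (reps : List (Op × Fin n)) (a : Fin n → K) : Submodule ℂ V where
  carrier := {v | v ∈ Z.Fix ρ Q ∧ ∀ w, Inv Z.f I w → ρ (Z.eW reps w) v = θ (dotV a w) • v}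
  add_mem' ha hb := ⟨add_mem ha.1 hb.1, fun w hw => by rw [map_add, ha.2 w hw, hb.2 w hw, smul_add]⟩
  zero_mem' := ⟨zero_mem _, fun w hw => by rw [map_zero, smul_zero]⟩
  smul_mem' c v hv := ⟨Submodule.smul_mem _ c hv.1, fun w hw => by rw [map_smul, hv.2 w hw, smul_comm]⟩

theorem Tw.eig_le (reps : List (Op × Fin n)) (a : Fin n → K) : Z.eig ρ I Q θ reps a ≤ Z.Fix ρ Q := fun _ h => h.1

/-- An element of the twisted group moving the characters of a level. -/
structure Tw.Mover (h : abelianOn P tr Q = true) where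
  el : G
  mem : Z.ι el ∈ Z.NX Q
  dual : (Fin n → K) → (Fin n → K)
  map : (Fin n → K) →+ (Fin n → K)
  adj : ∀ a w, dotV a (map w) = dotV (dual a) w
  inv : ∀ w, Inv Z.f I w → Inv Z.f I (map w)
  conj : ∀ w, (Z.qmk Q ⟨_, mem⟩)⁻¹ * Z.lvlQ P Q h (Multiplicative.ofAdd w) * Z.qmk Q ⟨_, mem⟩ =
    Z.lvlQ P Q h (Multiplicative.ofAdd (map w))

theorem Tw.Mover.eig_map (hI : I.ok = true) {h : abelianOn P tr Q = true} (M : Z.Mover P I Q h)
    {reps : List (Op × Fin n)} (hr : repsOK P I unit reps = true) (a : Fin n → K) {v : V}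
    (hv : v ∈ Z.eig ρ I Q θ reps a) : ρ M.el v ∈ Z.eig ρ I Q θ reps (M.dual a) := by
  refine ⟨Z.fix_map ρ M.mem hv.1, fun w hw => ?_⟩
  obtain ⟨hm, e⟩ := Z.eW_quot P I Q h hr hI hw
  obtain ⟨hm', e'⟩ := Z.eW_quot P I Q h hr hI (M.inv w hw)
  have hc : Z.ι (M.el⁻¹ * Z.eW reps w * M.el) ∈ Z.NX Q := by
    rw [map_mul, map_mul, map_inv]; exact mul_mem (mul_mem (inv_mem M.mem) hm) M.mem
  have e'' : Z.qmk Q ⟨_, hc⟩ = Z.qmk Q ⟨_, hm'⟩ := by
    rw [e', ← M.conj w, ← e, ← map_inv, ← map_mul, ← map_mul]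
    exact congrArg _ (Subtype.ext (by simp))
  calc ρ (Z.eW reps w) (ρ M.el v) = ρ M.el (ρ (M.el⁻¹ * Z.eW reps w * M.el) v) := by
        rw [← Module.End.mul_apply, ← Module.End.mul_apply, ← map_mul, ← map_mul]
        group
    _ = θ (dotV (M.dual a) w) • ρ M.el v := by
        rw [Z.congr_act ρ hc hm' e'' hv.1, hv.2 _ (M.inv w hw), map_smul, M.adj]

theorem Tw.Mover.finrank_le [FiniteDimensional ℂ V] (hI : I.ok = true) {h : abelianOn P tr Q = true}
    (M : Z.Mover P I Q h) {reps : List (Op × Fin n)} (hr : repsOK P I unit reps = true) (a : Fin n → K) :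
    finrank ℂ (Z.eig ρ I Q θ reps a) ≤ finrank ℂ (Z.eig ρ I Q θ reps (M.dual a)) := by
  refine LinearMap.finrank_le_finrank_of_injective
    (f := (ρ M.el).restrict fun _ hv => Tw.Mover.eig_map Z ρ P I Q θ hI M hr a hv) fun v w e => Subtype.ext ?_
  have e' := congrArg (fun z => ρ M.el⁻¹ (Subtype.val z)) e
  simp only [LinearMap.coe_restrict_apply] at e'
  rwa [← Module.End.mul_apply, ← Module.End.mul_apply, ← map_mul, inv_mul_cancel, map_one,
    Module.End.one_apply, Module.End.one_apply] at e'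

/-- The column of an element. -/
def colV (T : Src n) (s : ℕ) (u : K) : (Fin n → K) →+ (Fin n → K) where
  toFun w := w + ∑ i, match T s i with
    | some (j, b) => Pi.single j (sg K b * u * w i)
    | none => 0
  map_zero' := by
    rw [zero_add]
    refine Finset.sum_eq_zero fun i _ => ?_
    rcases T s i with _ | ⟨j, b⟩ <;> simp
  map_add' v w := by
    rw [add_add_add_comm, ← Finset.sum_add_distrib]
    refine congrArg _ (Finset.sum_congr rfl fun i _ => ?_)
    rcases T s i with _ | ⟨j, b⟩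
    · simp
    · simp [mul_add, Pi.single_add]

theorem colV_adj (T : Src n) (s : ℕ) (u : K) (a w : Fin n → K) : dotV a (colV T s u w) = dotV (tau T s u a) w := by
  show dotV a (w + _) = _
  rw [dotV_add]
  have e : ∀ (g : Fin n → Fin n → K), dotV a (∑ i, g i) = ∑ i, dotV a (g i) := fun g => by
    simp only [dotV, Finset.sum_apply, Finset.mul_sum]
    exact Finset.sum_comm
  rw [e]
  simp only [dotV, ← Finset.sum_add_distrib]
  refine Finset.sum_congr rfl fun i _ => ?_
  rcases h : T s i with _ | ⟨j, b⟩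
  · simp [tau_none T h]
  · show a i * w i + dotV a (Pi.single j (sg K b * u * w i)) = _
    rw [dotV_single, tau_some T h]
    ring

theorem colV_single (T : Src n) (s : ℕ) (u : K) (i : Fin n) (t : K) : colV T s u (Pi.single i t) =
    Pi.single i t + match T s i with
      | some (j, b) => Pi.single j (sg K b * u * t)
      | none => 0 := by
  show (Pi.single i t : Fin n → K) + _ = _
  rw [Finset.sum_eq_single i (fun j _ hj => by
    rcases T s j with _ | ⟨k, b⟩ <;> simp [Pi.single_eq_of_ne hj]) (by simp), Pi.single_eq_same]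

theorem hom_ext_single {M : Type*} [Monoid M] {φ ψ : Multiplicative (Fin n → K) →* M}
    (h : ∀ (i : Fin n) (t : K), φ (Multiplicative.ofAdd (Pi.single i t : Fin n → K)) =
      ψ (Multiplicative.ofAdd (Pi.single i t : Fin n → K))) : φ = ψ := by
  classical
  refine MonoidHom.ext fun w => ?_
  obtain ⟨w, rfl⟩ := Multiplicative.ofAdd.surjective w
  rw [← Finset.univ_sum_single w]
  induction (Finset.univ : Finset (Fin n)) using Finset.induction_on with
  | empty => rw [Finset.sum_empty, ofAdd_zero, map_one, map_one]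
  | insert i s hi ih => rw [Finset.sum_insert hi, ofAdd_add, map_mul, map_mul, ih, h]

theorem Tw.root_conj (h : abelianOn P tr Q = true) {s : ℕ} (hs : actsOn P tr Q s = true) (u : K) (w : Fin n → K) :
    (Z.qmk Q ⟨Z.Y.x s u, Z.keeps_mem (by simp only [actsOn, Bool.and_eq_true] at hs; exact hs.1) u⟩)⁻¹ *
        Z.lvlQ P Q h (Multiplicative.ofAdd w) *
        Z.qmk Q ⟨Z.Y.x s u, Z.keeps_mem (by simp only [actsOn, Bool.and_eq_true] at hs; exact hs.1) u⟩ =
      Z.lvlQ P Q h (Multiplicative.ofAdd (colV (src P tr) s u w)) := by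
  obtain ⟨x, hx⟩ : ∃ x : Z.Quot Q, x =
      Z.qmk Q ⟨Z.Y.x s u, Z.keeps_mem (by simp only [actsOn, Bool.and_eq_true] at hs; exact hs.1) u⟩ := ⟨_, rfl⟩
  rw [← hx]
  refine DFunLike.congr_fun (hom_ext_single
    (φ := (MulAut.conj x⁻¹).toMonoidHom.comp (Z.lvlQ P Q h))
    (ψ := (Z.lvlQ P Q h).comp (colV (src P tr) s u).toMultiplicative) fun i t => ?_) (Multiplicative.ofAdd w) |>
      (fun e => by simpa [mul_assoc] using e)
  show x⁻¹ * Z.lvlQ P Q h (Multiplicative.ofAdd (Pi.single i t)) * x⁻¹⁻¹ =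
    Z.lvlQ P Q h (Multiplicative.ofAdd (colV (src P tr) s u (Pi.single i t)))
  rw [inv_inv, colV_single, ofAdd_add, map_mul, Z.lvlQ_single, hx, ← map_inv, ← map_mul, ← map_mul]
  simp only [actsOn, Bool.and_eq_true, decide_eq_true_eq] at hs
  rcases eq_or_ne (P i) s with hPs | hPs
  · rw [show src P tr s i = none by rw [src, if_pos hPs], show (0 : Fin n → K) = 0 from rfl]
    show _ = _ * Z.lvlQ P Q h (Multiplicative.ofAdd 0)
    rw [ofAdd_zero, map_one, mul_one]
    refine congrArg _ (Subtype.ext ?_)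
    show (Z.Y.x s u)⁻¹ * Z.Y.x (P i) t * Z.Y.x s u = Z.Y.x (P i) t
    rw [← hPs, mul_assoc, ← Z.Y.comm_self, inv_mul_cancel_left]
  have hk := (hs.2 i).resolve_left hPs
  rcases htr : tr s (P i) with _ | _ | ⟨k, b⟩ <;> rw [htr] at hk <;>
    simp only [Tr.into, decide_eq_true_eq, Bool.false_eq_true, Bool.or_eq_true] at hk
  · rw [show src P tr s i = none by simp [src, hPs, htr]]
    show _ = _ * Z.lvlQ P Q h (Multiplicative.ofAdd 0)
    rw [ofAdd_zero, map_one, mul_one]
    refine congrArg _ (Subtype.ext ?_)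
    show (Z.Y.x s u)⁻¹ * Z.Y.x (P i) t * Z.Y.x s u = Z.Y.x (P i) t
    rw [mul_assoc, Z.Y.swap_comm htr, inv_mul_cancel_left]
  · have e : (Z.Y.x s u)⁻¹ * Z.Y.x (P i) t * Z.Y.x s u = Z.Y.x (P i) t * Z.Y.x k (sg K b * t * -u) := by
      rw [mul_assoc, Z.Y.swap_to htr, inv_mul_cancel_left]
    rcases hp : posIn P k with _ | j
    · have hkQ : k ∈ Q := by simpa [hp] using hk
      rw [show src P tr s i = none by simp [src, hPs, htr, hp]]
      show _ = _ * Z.lvlQ P Q h (Multiplicative.ofAdd 0)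
      rw [ofAdd_zero, map_one, mul_one, show (Z.qmk Q) (_⁻¹ * _ * _) = Z.qmk Q
          (⟨Z.Y.x (P i) t, Z.root_mem P Q h i t⟩ * ⟨Z.Y.x k (sg K b * t * -u), Z.X_le_NX Q (Z.mem_X hkQ _)⟩) from
        congrArg _ (Subtype.ext e), map_mul,
        show Z.qmk Q ⟨Z.Y.x k (sg K b * t * -u), Z.X_le_NX Q (Z.mem_X hkQ _)⟩ = 1 from Z.qmk_eq_one.2 (Z.mem_X hkQ _),
        mul_one]
    · rw [show src P tr s i = some (j, !b) by simp [src, hPs, htr, hp]]
      show _ = _ * Z.lvlQ P Q h (Multiplicative.ofAdd (Pi.single j (sg K (!b) * u * t)))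
      rw [Z.lvlQ_single, ← map_mul]
      refine congrArg _ (Subtype.ext (e.trans ?_))
      show _ = Z.Y.x (P i) t * Z.Y.x (P j) (sg K (!b) * u * t)
      rw [posIn_some P hp, sg_not]
      congr 2
      ring

theorem inv_of_dual (f : K →+* K) (hf : ∀ x, f (f x) = x) (hI : I.ok = true) {D : (Fin n → K) → (Fin n → K)}
    {L : (Fin n → K) → (Fin n → K)} (hadj : ∀ a w, dotV a (L w) = dotV (D a) w)
    (hD : ∀ a, sigV f I (D a) = D (sigV f I a)) {w : Fin n → K} (hw : Inv f I w) : Inv f I (L w) := by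
  refine inv_of_sigV f I hI ?_
  have hI' := hI
  simp only [Flip.ok, decide_eq_true_eq] at hI'
  have hpair : ∀ a w : Fin n → K, f (dotV a w) = dotV (sigV f I a) (sigV f I w) := fun a w => by
    simp only [dotV, map_sum, map_mul]
    refine Fintype.sum_equiv ⟨I.g, I.g, fun m => (hI' m).1, fun m => (hI' m).1⟩ _ _ fun m => ?_
    show _ = sg K (I.e (I.g m)) * f (a (I.g (I.g m))) * (sg K (I.e (I.g m)) * f (w (I.g (I.g m))))
    rw [(hI' m).1]
    linear_combination (-(f (a m) * f (w m))) * sg_mul_self (K := K) (I.e (I.g m))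
  have hinv : ∀ a : Fin n → K, sigV f I (sigV f I a) = a := fun a => funext fun m => by
    rw [sigV, sigV, (hI' m).1, (hI' m).2.1, map_mul, map_sg, hf, ← mul_assoc, sg_mul_self, one_mul]
  funext i
  have h1 : ∀ b, dotV b (sigV f I (L w)) = dotV b (L w) := fun b => by
    conv_lhs => rw [← hinv b]
    rw [← hpair, hadj, hpair, hD, hinv, sigV_eq f I hI hw, ← hadj]
  have := h1 (Pi.single i 1)
  simpa [dotV, Pi.single_apply] using this

/-- The mover of a root element of the twisted group. -/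
noncomputable def Tw.opMover (h : abelianOn P tr Q = true) (hI : I.ok = true) {op : Op} (hu : unit op = true)
    (hs : op.roots.all (actsOn P tr Q) = true) (hflip : flipOK (src P tr) I op = true) {u : K}
    (hadm : op.adm Z.f u) : Z.Mover P I Q h where
  el := Z.el op u
  mem := by
    simp only [List.all_eq_true, actsOn, Bool.and_eq_true] at hs
    cases op with
    | long s => rw [Z.el_long s hu u hadm]; exact Z.keeps_mem (hs s (by simp [Op.roots])).1 u
    | pair s s' e =>
      rw [Z.el_pair s s' e hu u]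
      exact mul_mem (Z.keeps_mem (hs s (by simp [Op.roots])).1 u) (Z.keeps_mem (hs s' (by simp [Op.roots])).1 _)
  dual := opTau (src P tr) Z.f op u
  map := match op with
    | .long s => colV (src P tr) s u
    | .pair s s' e => (colV (src P tr) s' (sg K e * Z.f u)).comp (colV (src P tr) s u)
  adj a w := by
    cases op with
    | long s => exact colV_adj _ s u a w
    | pair s s' e => exact (colV_adj _ s' _ a _).trans (colV_adj _ s u _ w)
  inv w hw := by
    refine inv_of_dual I Z.f Z.ff hI (D := opTau (src P tr) Z.f op u) (fun a v => ?_)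
      (opTau_sigV (src P tr) Z.f I Z.ff hI hflip hadm) hw
    cases op with
    | long s => exact colV_adj _ s u a v
    | pair s s' e => exact (colV_adj _ s' _ a _).trans (colV_adj _ s u _ v)
  conj w := by
    simp only [List.all_eq_true] at hs
    cases op with
    | long s =>
      have hk : Z.Y.x s u ∈ Z.NX Q := by
        have := hs s (by simp [Op.roots])
        simp only [actsOn, Bool.and_eq_true] at this
        exact Z.keeps_mem this.1 u
      have e : ∀ h₁, Z.qmk Q ⟨Z.ι (Z.el (.long s) u), h₁⟩ = Z.qmk Q ⟨Z.Y.x s u, hk⟩ :=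
        fun _ => congrArg (Z.qmk Q) (Subtype.ext (Z.el_long s hu u hadm))
      rw [e]
      exact Z.root_conj P Q h (hs s (by simp [Op.roots])) u w
    | pair s s' e =>
      have hx := fun (r : ℕ) (hr : r ∈ (Op.pair s s' e).roots) (v : K) (z : Fin n → K) => Z.root_conj P Q h (hs r hr) v z
      show _ = Z.lvlQ P Q h (Multiplicative.ofAdd (colV (src P tr) s' (sg K e * Z.f u) (colV (src P tr) s u w)))
      rw [← hx s' (by simp [Op.roots]), ← hx s (by simp [Op.roots])]
      have hm : ∀ (r : ℕ), r ∈ (Op.pair s s' e).roots → ∀ v, Z.Y.x r v ∈ Z.NX Q := fun r hr v => by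
        have := hs r hr
        simp only [actsOn, Bool.and_eq_true] at this
        exact Z.keeps_mem this.1 v
      rw [show Z.qmk Q ⟨Z.ι (Z.el (.pair s s' e) u), _⟩ = Z.qmk Q ⟨Z.Y.x s u, hm s (by simp [Op.roots]) u⟩ *
          Z.qmk Q ⟨Z.Y.x s' (sg K e * Z.f u), hm s' (by simp [Op.roots]) _⟩ by
        rw [← map_mul]; exact congrArg _ (Subtype.ext (Z.el_pair s s' e hu u))]
      group

variable [Fintype K]

noncomputable instance (f : K →+* K) : Fintype ↥(invSub I f) := Fintype.ofFinite _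

/-- The level on the fixed vectors. -/
noncomputable def Tw.lvl (hI : I.ok = true) (h : abelianOn P tr Q = true) {reps : List (Op × Fin n)}
    (hr : repsOK P I unit reps = true) : Multiplicative ↥(invSub I Z.f) →* Module.End ℂ (Z.Fix ρ Q) where
  toFun w := Z.op ρ (Z.eW_quot P I Q h hr hI w.toAdd.2).1
  map_one' := LinearMap.ext fun v => Subtype.ext (by
    obtain ⟨hm, e⟩ := Z.eW_quot P I Q h hr hI (invSub I Z.f).zero_mem
    have := Z.congr_act ρ (g' := 1) hm (by rw [map_one]; exact one_mem _) (by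
      rw [e, ofAdd_zero, map_one]
      exact ((congrArg _ (Subtype.ext (map_one Z.ι))).trans (map_one _)).symm) v.2
    rw [Z.op_coe]
    exact this.trans (by rw [map_one]; rfl))
  map_mul' w w' := LinearMap.ext fun v => Subtype.ext (by
    obtain ⟨h1, e1⟩ := Z.eW_quot P I Q h hr hI w.toAdd.2
    obtain ⟨h2, e2⟩ := Z.eW_quot P I Q h hr hI w'.toAdd.2
    obtain ⟨h3, e3⟩ := Z.eW_quot P I Q h hr hI (w * w').toAdd.2
    show ρ (Z.eW reps _) (v : V) = ρ _ (ρ _ (v : V))
    rw [← Module.End.mul_apply, ← map_mul]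
    refine Z.congr_act ρ h3 (by rw [map_mul]; exact mul_mem h1 h2) ?_ v.2
    rw [e3, show Multiplicative.ofAdd ((w * w').toAdd : Fin n → K) =
      Multiplicative.ofAdd (w.toAdd : Fin n → K) * Multiplicative.ofAdd (w'.toAdd : Fin n → K) from rfl, map_mul,
      ← e1, ← e2, ← map_mul]
    exact congrArg _ (Subtype.ext (map_mul Z.ι _ _).symm))

/-- The character of the level with the given coordinates. -/
noncomputable def chiW (f : K →+* K) (a : Fin n → K) : AddChar ↥(invSub I f) ℂ :=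
  θ.compAddMonoidHom
    { toFun := fun w => dotV a w.1
      map_zero' := by simp [dotV]
      map_add' := fun v w => dotV_add a v.1 w.1 }

theorem chiW_injective (f : K →+* K) (hf : ∀ x, f (f x) = x) (hI : I.ok = true) (hω : ∃ ω, f ω ≠ ω)
    (hθ : ∃ c, f c = c ∧ θ c ≠ 1) : ∀ a b : Fin n → K, Inv f I a → Inv f I b → chiW I θ f a = chiW I θ f b → a = b := by
  intro a b ha hb e
  have hI' := hI
  simp only [Flip.ok, decide_eq_true_eq] at hI'
  funext m
  by_contra hne
  obtain ⟨c, hc, hθc⟩ := hθ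
  obtain ⟨d, hd⟩ : ∃ d, d = a m - b m := ⟨_, rfl⟩
  have hd0 : d ≠ 0 := hd ▸ sub_ne_zero.2 hne
  have hdd : ∀ w, Inv f I w → dotV a w - dotV b w = c → False := fun w hw h1 => by
    have h2 : θ (dotV a w) = θ (dotV b w) := DFunLike.congr_fun e (⟨w, hw⟩ : ↥(invSub I f))
    rw [show dotV a w = dotV b w + c by rw [← h1]; ring, AddChar.map_add_eq_mul] at h2
    exact hθc (mul_left_cancel₀ (AddChar.val_isUnit θ (dotV b w)).ne_zero (h2.trans (mul_one _).symm))
  by_cases hg : I.g m = m
  · have he := (hI' m).2.2 hg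
    have hfix : f d = d := by
      have h1 := ha m
      have h2 := hb m
      rw [hg, he, show sg K true = (1 : K) from rfl, one_mul] at h1 h2
      rw [hd, map_sub, ← h1, ← h2]
    refine hdd (Pi.single m (c / d)) (single_inv f I hI hg (by rw [map_div₀, hc, hfix])) ?_
    rw [dotV_single, dotV_single, ← sub_mul, ← hd, mul_div_cancel₀ _ hd0]
  · obtain ⟨ω, hω⟩ := hω
    obtain ⟨x, hx⟩ : ∃ x, x + f x ≠ 0 := by
      by_contra! h
      exact hω (by
        have h1 := h 1
        have h2 := h ω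
        rw [map_one] at h1
        linear_combination h2 - ω * h1)
    have hxf : f (x + f x) = x + f x := by rw [map_add, hf, add_comm]
    obtain ⟨t, ht⟩ : ∃ t, t = c / (x + f x) * x / d := ⟨_, rfl⟩
    refine hdd (Pi.single m t + Pi.single (I.g m) (sg K (I.e m) * f t)) ?_ ?_
    · intro k
      rcases eq_or_ne k m with rfl | hk
      · simp [hg, Ne.symm hg]
      rcases eq_or_ne k (I.g m) with rfl | hk'
      · rw [(hI' m).1, (hI' m).2.1]
        simp only [Pi.add_apply, Pi.single_eq_same, Pi.single_eq_of_ne (M := fun _ => K) hg,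
          Pi.single_eq_of_ne (M := fun _ => K) (Ne.symm hg), zero_add, add_zero, map_mul, map_sg, hf]
        rw [← mul_assoc, sg_mul_self, one_mul]
      · have h1 : I.g k ≠ m := fun e => hk' (by rw [← e, (hI' k).1])
        have h2 : I.g k ≠ I.g m := fun e => hk (by rw [← (hI' k).1, e, (hI' m).1])
        simp [h1, h2, hk, hk']
    · rw [dotV_add, dotV_add, dotV_single, dotV_single, dotV_single, dotV_single, ha m, hb m]
      have h1 : d * t = c / (x + f x) * x := by rw [ht, mul_div_cancel₀ _ hd0]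
      have h2 : f d * f t = c / (x + f x) * f x := by rw [← map_mul, h1, map_mul, map_div₀, hc, hxf]
      have h3 : c / (x + f x) * x + c / (x + f x) * f x = c := by rw [← mul_add, div_mul_cancel₀ _ hx]
      rw [hd, map_sub] at h2
      rw [hd] at h1
      linear_combination h1 + h2 + h3 + (f (a m) * f t - f (b m) * f t) * sg_mul_self (K := K) (I.e m)

theorem chiW_bijective (f : K →+* K) (hf : ∀ x, f (f x) = x) (hI : I.ok = true) (hω : ∃ ω, f ω ≠ ω)
    (hθ : ∃ c, f c = c ∧ θ c ≠ 1) : Function.Bijective fun a : ↥(invSub I f) => chiW I θ f a.1 := by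
  classical
  exact (Fintype.bijective_iff_injective_and_card _).2
    ⟨fun a b e => Subtype.ext (chiW_injective I θ f hf hI hω hθ a.1 b.1 a.2 b.2 e), AddChar.card_eq.symm⟩

variable [FiniteDimensional ℂ V]

/-- The hypotheses shared by the decompositions of a level. -/
structure Tw.LevelHyp (reps : List (Op × Fin n)) : Prop where
  flip : I.ok = true
  ab : abelianOn P tr Q = true
  span : repsOK P I unit reps = true
  moves : ∃ ω, Z.f ω ≠ ω
  char : ∃ c, Z.f c = c ∧ θ c ≠ 1

theorem Tw.range_prj {reps : List (Op × Fin n)} (H : Z.LevelHyp P I Q θ reps) (a : Fin n → K) :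
    LinearMap.range (proj (Z.lvl ρ P I Q H.flip H.ab H.span) (chiW I θ Z.f a)) =
      (Z.eig ρ I Q θ reps a).comap (Z.Fix ρ Q).subtype := by
  classical
  ext v
  constructor
  · rintro ⟨u, rfl⟩
    refine ⟨Subtype.prop _, fun w hw => ?_⟩
    have e := LinearMap.congr_fun (R_mul_proj (Z.lvl ρ P I Q H.flip H.ab H.span) (chiW I θ Z.f a) ⟨w, hw⟩) u
    rw [Module.End.mul_apply, LinearMap.smul_apply] at e
    exact congrArg Subtype.val e
  · intro hv
    refine ⟨v, ?_⟩
    have he : ∀ w : ↥(invSub I Z.f), Z.lvl ρ P I Q H.flip H.ab H.span (Multiplicative.ofAdd w) v =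
        chiW I θ Z.f a w • v := fun w => Subtype.ext (hv.2 w.1 w.2)
    simp only [proj, LinearMap.smul_apply, LinearMap.sum_apply, he, smul_smul, ← AddChar.map_add_eq_mul,
      neg_add_cancel, AddChar.map_zero_eq_one, one_smul, Finset.sum_const, Finset.card_univ,
      ← Nat.cast_smul_eq_nsmul ℂ, inv_mul_cancel₀ cardW_ne_zero]

theorem Tw.trace_prj {reps : List (Op × Fin n)} (H : Z.LevelHyp P I Q θ reps) (a : Fin n → K) :
    LinearMap.trace ℂ _ (proj (Z.lvl ρ P I Q H.flip H.ab H.span) (chiW I θ Z.f a)) =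
      (finrank ℂ (Z.eig ρ I Q θ reps a) : ℂ) := by
  rw [((LinearMap.isProj_range_iff_isIdempotentElem (proj (Z.lvl ρ P I Q H.flip H.ab H.span) (chiW I θ Z.f a))).2
    (proj_mul_self _ _)).trace, Z.range_prj ρ P I Q θ H,
    LinearEquiv.finrank_eq (Submodule.comapSubtypeEquivOfLe (Z.eig_le ρ I Q θ reps a))]

theorem Tw.sum_finrank [DecidableEq K] {reps : List (Op × Fin n)} (H : Z.LevelHyp P I Q θ reps) :
    ∑ a : ↥(invSub I Z.f), finrank ℂ (Z.eig ρ I Q θ reps a.1) = finrank ℂ (Z.Fix ρ Q) := by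
  classical
  have e0 : ∑ a : ↥(invSub I Z.f), proj (Z.lvl ρ P I Q H.flip H.ab H.span) (chiW I θ Z.f a.1) = 1 :=
    ((chiW_bijective I θ Z.f Z.ff H.flip H.moves H.char).sum_comp fun χ =>
      proj (Z.lvl ρ P I Q H.flip H.ab H.span) χ).trans (sum_proj _)
  have e := congrArg (LinearMap.trace ℂ (Z.Fix ρ Q)) e0
  rw [map_sum, LinearMap.trace_one, Finset.sum_congr rfl fun a _ => Z.trace_prj ρ P I Q θ H a.1] at e
  exact_mod_cast e

/-- Distinct characters add up. -/
theorem Tw.finset_le [DecidableEq K] {reps : List (Op × Fin n)} (H : Z.LevelHyp P I Q θ reps) {d : ℕ}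
    (A' : Finset (Fin n → K)) (hA : ∀ a ∈ A', a ≠ 0 ∧ Inv Z.f I a ∧ d ≤ finrank ℂ (Z.eig ρ I Q θ reps a)) :
    d * A'.card + finrank ℂ (Z.eig ρ I Q θ reps 0) ≤ finrank ℂ (Z.Fix ρ Q) := by
  classical
  rw [← Z.sum_finrank ρ P I Q θ H, ← Finset.sum_erase_add _ _ (Finset.mem_univ (0 : ↥(invSub I Z.f)))]
  refine Nat.add_le_add_right ?_ _
  refine le_trans ?_ (Finset.sum_le_sum_of_subset
    (s := A'.subtype (fun a => a ∈ invSub I Z.f)) fun a ha =>
      Finset.mem_erase.2 ⟨fun e => (hA a.1 (Finset.mem_subtype.1 ha)).1 (congrArg Subtype.val e), Finset.mem_univ _⟩)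
  have hc : (A'.subtype fun a => a ∈ invSub I Z.f).card = A'.card := by
    rw [Finset.card_subtype, Finset.filter_true_of_mem (p := fun a => a ∈ invSub I Z.f) fun a ha => (hA a ha).2.1]
  rw [← hc, mul_comm]
  exact Finset.card_nsmul_le_sum _ _ d fun a ha => (hA a.1 (Finset.mem_subtype.1 ha)).2.2

end Level

end Cfsg.Lib.Chev.SimpDeg
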