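import Cfsg.Agent.Lib.Chev.SimplyDegree.Sys
import Cfsg.Agent.Lib.Chev.SimplyDegree.TwBase

/-!
# Representations of a twisted group with simply laced root elements

The twisted group lives inside an ambient group with root elements obeying a table and is fixed by
an automorphism permuting them. A set of roots of positive sign whose root elements normalise the
ones after them meets the twisted group in the subgroup generated by its root elements there.
-/

set_option autoImplicit false
set_option linter.unusedSectionVars false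

namespace Cfsg.Lib.Chev.SimpDeg

open Cfsg.Lib.Linear.MinDegree Module

/-- A twisted group inside an ambient group. -/
structure Tw (G A K : Type*) [Group G] [Group A] [Field K] (tr : ℕ → ℕ → Tr) (rt : ℕ → ℕ) (es : ℕ → Bool)
    (pos : ℕ → Bool) (unit : Op → Bool) where
  Y : Sys A K tr
  f : K →+* K
  ff : ∀ x, f (f x) = x
  ι : G →* A
  σ : A →* A
  σx : ∀ r t, pos r = true → σ (Y.x r t) = Y.x (rt r) (sg K (es r) * f t)
  fixed : ∀ g, σ (ι g) = ι g
  uniq : ∀ (l : List ℕ), l.Nodup → (∀ r ∈ l, pos r = true) → ∀ t u : ℕ → K,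
    (l.map fun r => Y.x r (t r)).prod = (l.map fun r => Y.x r (u r)).prod → ∀ r ∈ l, t r = u r
  ι_inj : Function.Injective ι
  el : Op → K → G
  el_long : ∀ s, unit (.long s) = true → ∀ u, f u = u → ι (el (.long s) u) = Y.x s u
  el_pair : ∀ s s' e, unit (.pair s s' e) = true → ∀ u,
    ι (el (.pair s s' e) u) = Y.x s u * Y.x s' (sg K e * f u)

variable {G A K : Type*} [Group G] [Group A] [Field K] {tr : ℕ → ℕ → Tr} {rt : ℕ → ℕ} {es : ℕ → Bool}
  {pos : ℕ → Bool} {unit : Op → Bool} (Z : Tw G A K tr rt es pos unit)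

/-- The subgroup of some roots. -/
def Tw.X (Q : List ℕ) : Subgroup A := Subgroup.closure {g | ∃ r ∈ Q, ∃ t, g = Z.Y.x r t}

theorem Tw.mem_X {Q : List ℕ} {r : ℕ} (hr : r ∈ Q) (t : K) : Z.Y.x r t ∈ Z.X Q :=
  Subgroup.subset_closure ⟨r, hr, t, rfl⟩

theorem Tw.X_mono {Q Q' : List ℕ} (h : ∀ r ∈ Q, r ∈ Q') : Z.X Q ≤ Z.X Q' :=
  (Subgroup.closure_le _).2 fun _ ⟨r, hr, t, e⟩ => e ▸ Z.mem_X (h r hr) t

/-- The normaliser of the subgroup of some roots. -/
abbrev Tw.NX (Q : List ℕ) : Subgroup A := Subgroup.normalizer (Z.X Q : Set A)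

theorem Tw.keeps_mem {Q : List ℕ} {s : ℕ} (h : keepsFix tr Q s = true) (u : K) : Z.Y.x s u ∈ Z.NX Q := by
  simp only [keepsFix, List.all_eq_true, Bool.or_eq_true, beq_iff_eq] at h
  have key : ∀ u, ∀ g ∈ Z.X Q, Z.Y.x s u * g * (Z.Y.x s u)⁻¹ ∈ Z.X Q := by
    intro u g hg
    induction hg using Subgroup.closure_induction with
    | mem g hg =>
      obtain ⟨r, hr, t, rfl⟩ := hg
      rcases h r hr with rfl | hk
      · rw [Z.Y.comm_self, mul_inv_cancel_right]
        exact Z.mem_X hr t
      · rcases htr : tr s r with _ | _ | ⟨k, b⟩ <;> rw [htr] at hk <;>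
          simp only [Tr.into, decide_eq_true_eq, Bool.false_eq_true] at hk
        · rw [Z.Y.comm _ _ htr]
          exact Z.mem_X hr t
        · rw [Z.Y.conj _ _ _ _ htr]
          exact mul_mem (Z.mem_X hr t) (Z.mem_X hk _)
    | one => simp
    | mul a b _ _ ha hb => simpa [mul_assoc] using mul_mem ha hb
    | inv a _ ha => simpa [mul_assoc] using inv_mem ha
  refine Subgroup.mem_normalizer_iff.2 fun g => ⟨key u g, fun hg => ?_⟩
  have := key (-u) _ hg
  rw [← Z.Y.inv] at this
  simpa [mul_assoc] using this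

theorem Tw.X_le_NX (Q : List ℕ) : Z.X Q ≤ Z.NX Q := Subgroup.le_normalizer

/-- The checks on a list of elements spanning a subgroup. -/
def closedOK (tr : ℕ → ℕ → Tr) (rt : ℕ → ℕ) (es : ℕ → Bool) (pos : ℕ → Bool) (unit : Op → Bool) :
    List Op → Bool
  | [] => true
  | op :: L =>
    unit op && (op.roots.all fun s => pos s && keepsFix tr (L.flatMap Op.roots) s && !((L.flatMap Op.roots).contains s)) &&
      ((L.flatMap Op.roots).all fun r => (L.flatMap Op.roots).contains (rt r)) &&
      (match op with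
        | .long s => rt s == s && es s
        | .pair s s' e => rt s == s' && rt s' == s && s != s' && es s == e && es s' == e &&
            decide (tr s s' = .comm) && decide (tr s' s = .comm)) &&
      closedOK tr rt es pos unit L

theorem Tw.exists_lprod : ∀ (L : List Op), closedOK tr rt es pos unit L = true →
    (L.flatMap Op.roots).Nodup ∧ (∀ r ∈ L.flatMap Op.roots, pos r = true) ∧
      ∀ g ∈ Z.X (L.flatMap Op.roots), ∃ t : ℕ → K, g = ((L.flatMap Op.roots).map fun r => Z.Y.x r (t r)).prod
  | [], _ => by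
    refine ⟨List.nodup_nil, by simp, fun g hg => ⟨fun _ => 0, ?_⟩⟩
    have : g = 1 := by
      induction hg using Subgroup.closure_induction with
      | mem x hx => obtain ⟨r, hr, -⟩ := hx; simp at hr
      | one => rfl
      | mul a b _ _ ha hb => rw [ha, hb, mul_one]
      | inv a _ ha => rw [ha, inv_one]
    simp [this]
  | op :: L, h => by
    classical
    simp only [closedOK, Bool.and_eq_true, List.all_eq_true, Bool.not_eq_true', List.contains_eq_mem,
      decide_eq_false_iff_not, decide_eq_true_eq] at h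
    obtain ⟨⟨⟨⟨-, hroots⟩, -⟩, hshape⟩, hrest⟩ := h
    obtain ⟨hnd, hpos, hrep⟩ := Tw.exists_lprod L hrest
    obtain ⟨Q, hQ⟩ : ∃ Q, Q = L.flatMap Op.roots := ⟨_, rfl⟩
    rw [← hQ] at hnd hpos hrep hroots
    -- one root in front of a normalised subgroup
    have step : ∀ s Q', keepsFix tr Q' s = true → ∀ g ∈ Z.X (s :: Q'), ∃ t, ∃ b ∈ Z.X Q', g = Z.Y.x s t * b := by
      intro s Q' hs g hg
      induction hg using Subgroup.closure_induction with
      | mem x hx =>
        obtain ⟨r, hr, t, rfl⟩ := hx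
        rcases List.mem_cons.1 hr with rfl | hr
        · exact ⟨t, 1, one_mem _, (mul_one _).symm⟩
        · exact ⟨0, _, Z.mem_X hr t, by rw [Z.Y.zero, one_mul]⟩
      | one => exact ⟨0, 1, one_mem _, by rw [Z.Y.zero, mul_one]⟩
      | mul a b _ _ ha hb =>
        obtain ⟨t, c, hc, rfl⟩ := ha
        obtain ⟨t', c', hc', rfl⟩ := hb
        refine ⟨t + t', (Z.Y.x s t')⁻¹ * c * Z.Y.x s t' * c', mul_mem ?_ hc', by rw [Z.Y.add]; group⟩
        exact ((Subgroup.mem_normalizer_iff'').1 (Z.keeps_mem hs t') c).1 hc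
      | inv a _ ha =>
        obtain ⟨t, c, hc, rfl⟩ := ha
        refine ⟨-t, Z.Y.x s t * c⁻¹ * (Z.Y.x s t)⁻¹, ?_, by rw [← Z.Y.inv]; group⟩
        exact ((Subgroup.mem_normalizer_iff).1 (Z.keeps_mem hs t) _).1 (inv_mem hc)
    cases op with
    | long s =>
      obtain ⟨⟨hs, hks⟩, hsn⟩ := hroots s (by simp [Op.roots])
      have e : ((Op.long s :: L).flatMap Op.roots) = s :: Q := by simp [Op.roots, hQ]
      rw [e]
      refine ⟨List.nodup_cons.2 ⟨hsn, hnd⟩, fun r hr => ?_, fun g hg => ?_⟩
      · rcases List.mem_cons.1 hr with rfl | hr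
        exacts [hs, hpos r hr]
      · obtain ⟨t, b, hb, rfl⟩ := step s Q hks g hg
        obtain ⟨u, rfl⟩ := hrep b hb
        refine ⟨Function.update u s t, ?_⟩
        rw [List.map_cons, List.prod_cons, Function.update_self]
        congr 2
        exact List.map_congr_left fun r hr => by rw [Function.update_of_ne (fun e => hsn (by rw [← e]; exact hr))]
    | pair s s' c =>
      obtain ⟨⟨hs, hks⟩, hsn⟩ := hroots s (by simp [Op.roots])
      obtain ⟨⟨hs', hks'⟩, hsn'⟩ := hroots s' (by simp [Op.roots])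
      simp only [Bool.and_eq_true, beq_iff_eq, bne_iff_ne, decide_eq_true_eq] at hshape
      have e : ((Op.pair s s' c :: L).flatMap Op.roots) = s :: s' :: Q := by simp [Op.roots, hQ]
      have hk : keepsFix tr (s' :: Q) s = true := by
        simp only [keepsFix, List.all_cons, Bool.and_eq_true, Bool.or_eq_true, beq_iff_eq] at hks ⊢
        refine ⟨Or.inr (by rw [hshape.1.2]; rfl), List.all_eq_true.2 fun r hr => ?_⟩
        have := List.all_eq_true.1 hks r hr
        simp only [Bool.or_eq_true, beq_iff_eq] at this ⊢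
        refine this.imp id fun h => ?_
        rcases htr : tr s r with _ | _ | ⟨k, b⟩ <;> rw [htr] at h <;> simp_all [Tr.into]
      rw [e]
      refine ⟨List.nodup_cons.2 ⟨?_, List.nodup_cons.2 ⟨hsn', hnd⟩⟩, fun r hr => ?_, fun g hg => ?_⟩
      · rw [List.mem_cons, not_or]
        exact ⟨hshape.1.1.1.1.2, hsn⟩
      · simp only [List.mem_cons] at hr
        rcases hr with rfl | rfl | hr
        exacts [hs, hs', hpos r hr]
      · obtain ⟨t, b, hb, rfl⟩ := step s (s' :: Q) hk g hg
        obtain ⟨t', b', hb', rfl⟩ := step s' Q hks' b hb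
        obtain ⟨u, rfl⟩ := hrep b' hb'
        refine ⟨Function.update (Function.update u s' t') s t, ?_⟩
        have hne : s' ≠ s := fun e => hshape.1.1.1.1.2 e.symm
        rw [List.map_cons, List.prod_cons, List.map_cons, List.prod_cons, Function.update_self,
          Function.update_of_ne hne, Function.update_self]
        congr 3
        exact List.map_congr_left fun r hr => by
          rw [Function.update_of_ne (fun e => hsn (by rw [← e]; exact hr)),
            Function.update_of_ne (fun e => hsn' (by rw [← e]; exact hr))]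

theorem Tw.σ_X {Q : List ℕ} (hQ : ∀ r ∈ Q, pos r = true ∧ rt r ∈ Q) {g : A} (hg : g ∈ Z.X Q) : Z.σ g ∈ Z.X Q := by
  induction hg using Subgroup.closure_induction with
  | mem x hx =>
    obtain ⟨r, hr, t, rfl⟩ := hx
    rw [Z.σx r t (hQ r hr).1]
    exact Z.mem_X (hQ r hr).2 _
  | one => simp
  | mul a b _ _ ha hb => rw [map_mul]; exact mul_mem ha hb
  | inv a _ ha => rw [map_inv]; exact inv_mem ha

/-- A fixed element of such a subgroup is a product of the root elements of the twisted group. -/
theorem Tw.fixed_mem : ∀ (L : List Op), closedOK tr rt es pos unit L = true → ∀ g : G,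
    Z.ι g ∈ Z.X (L.flatMap Op.roots) →
      ∃ g' ∈ Subgroup.closure {h | ∃ op ∈ L, ∃ u, op.adm Z.f u ∧ h = Z.el op u}, Z.ι g' = Z.ι g
  | [], _, g, hg => by
    have key : ∀ a ∈ Z.X (([] : List Op).flatMap Op.roots), a = 1 := fun a ha => by
      induction ha using Subgroup.closure_induction with
      | mem x hx => obtain ⟨r, hr, -⟩ := hx; simp at hr
      | one => rfl
      | mul a b _ _ ha hb => rw [ha, hb, mul_one]
      | inv a _ ha => rw [ha, inv_one]
    exact ⟨1, one_mem _, by rw [map_one, key _ hg]⟩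
  | op :: L, h, g, hg => by
    classical
    obtain ⟨hnd, hpos, hrep⟩ := Z.exists_lprod (op :: L) h
    obtain ⟨t, ht⟩ := hrep _ hg
    simp only [closedOK, Bool.and_eq_true, List.all_eq_true, List.contains_eq_mem, decide_eq_true_eq] at h
    obtain ⟨⟨⟨⟨hunit, -⟩, hinv⟩, hshape⟩, hrest⟩ := h
    obtain ⟨Q, hQ⟩ : ∃ Q, Q = L.flatMap Op.roots := ⟨_, rfl⟩
    rw [← hQ] at hinv
    obtain ⟨-, hpos', hrep'⟩ := Z.exists_lprod L hrest
    rw [← hQ] at hpos' hrep'
    obtain ⟨b, hb⟩ : ∃ b, b = (Q.map fun r => Z.Y.x r (t r)).prod := ⟨_, rfl⟩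
    have hbX : b ∈ Z.X Q := by
      rw [hb]
      refine list_prod_mem fun x hx => ?_
      obtain ⟨r, hr, rfl⟩ := List.mem_map.1 hx
      exact Z.mem_X hr _
    obtain ⟨u, hu⟩ := hrep' _ (Z.σ_X (fun r hr => ⟨hpos' r hr, hinv r hr⟩) hbX)
    have hclose : ∀ (h₀ : G), Z.ι h₀⁻¹ * Z.ι g ∈ Z.X Q → h₀ ∈ Subgroup.closure
        {h | ∃ op' ∈ op :: L, ∃ u, op'.adm Z.f u ∧ h = Z.el op' u} →
        ∃ g' ∈ Subgroup.closure {h | ∃ op' ∈ op :: L, ∃ u, op'.adm Z.f u ∧ h = Z.el op' u}, Z.ι g' = Z.ι g := by
      intro h₀ h₀X h₀m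
      obtain ⟨g', hg', e⟩ := Tw.fixed_mem L hrest (h₀⁻¹ * g) (by rw [map_mul, ← hQ]; exact h₀X)
      have hsub : {h | ∃ op' ∈ L, ∃ u, op'.adm Z.f u ∧ h = Z.el op' u} ⊆
          {h | ∃ op' ∈ op :: L, ∃ u, op'.adm Z.f u ∧ h = Z.el op' u} :=
        fun x ⟨op', ho, v, hv, e⟩ => ⟨op', List.mem_cons_of_mem _ ho, v, hv, e⟩
      refine ⟨h₀ * g', mul_mem h₀m (Subgroup.closure_mono hsub hg'), ?_⟩
      rw [map_mul, e, ← map_mul]
      group
    have hfix := Z.fixed g
    cases op with
    | long s =>
      simp only [List.flatMap_cons, Op.roots, List.singleton_append, ← hQ] at hnd hpos ht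
      simp only [Bool.and_eq_true, beq_iff_eq] at hshape
      rw [List.map_cons, List.prod_cons, ← hb] at ht
      rw [ht, map_mul, Z.σx s (t s) (hpos s List.mem_cons_self), hshape.1, hshape.2,
        show sg K true = (1 : K) from rfl, one_mul, hu, hb] at hfix
      have hsn := (List.nodup_cons.1 hnd).1
      have h1 := Z.uniq (s :: Q) hnd hpos (Function.update u s (Z.f (t s))) t (by
        rw [List.map_cons, List.prod_cons, List.map_cons, List.prod_cons, Function.update_self]
        refine Eq.trans ?_ hfix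
        congr 2
        exact List.map_congr_left fun r hr => by
          rw [Function.update_of_ne (fun e => hsn (by rw [← e]; exact hr))]) s List.mem_cons_self
      rw [Function.update_self] at h1
      have he := Z.el_long s hunit (t s) h1
      refine hclose (Z.el (.long s) (t s)) ?_ (Subgroup.subset_closure ⟨_, List.mem_cons_self, t s, h1, rfl⟩)
      rw [map_inv, he, ht, inv_mul_cancel_left]
      exact hbX
    | pair s s' c =>
      simp only [List.flatMap_cons, Op.roots, List.cons_append, List.nil_append, ← hQ] at hnd hpos ht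
      simp only [Bool.and_eq_true, beq_iff_eq, bne_iff_ne, decide_eq_true_eq] at hshape
      obtain ⟨⟨⟨⟨⟨⟨hr1, hr2⟩, hne⟩, he1⟩, he2⟩, hc1⟩, hc2⟩ := hshape
      rw [List.map_cons, List.prod_cons, List.map_cons, List.prod_cons, ← hb] at ht
      have hsw : Z.Y.x s' (sg K c * Z.f (t s)) * Z.Y.x s (sg K c * Z.f (t s')) =
          Z.Y.x s (sg K c * Z.f (t s')) * Z.Y.x s' (sg K c * Z.f (t s)) := Z.Y.swap_comm hc1 _ _
      rw [ht, map_mul, map_mul, Z.σx s (t s) (hpos s (by simp)), Z.σx s' (t s') (hpos s' (by simp)), hr1, hr2, he1,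
        he2, ← mul_assoc, hsw, mul_assoc, hu, hb] at hfix
      obtain ⟨hsn, hnd'⟩ := List.nodup_cons.1 hnd
      have hsn' := (List.nodup_cons.1 hnd').1
      have h1 := Z.uniq (s :: s' :: Q) hnd hpos
        (Function.update (Function.update u s' (sg K c * Z.f (t s))) s (sg K c * Z.f (t s'))) t (by
        rw [List.map_cons, List.prod_cons, List.map_cons, List.prod_cons, List.map_cons, List.prod_cons,
          List.map_cons, List.prod_cons, Function.update_self, Function.update_of_ne hne.symm, Function.update_self]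
        refine Eq.trans ?_ hfix
        congr 3
        exact List.map_congr_left fun r hr => by
          rw [Function.update_of_ne (fun e => hsn (List.mem_cons_of_mem _ (by rw [← e]; exact hr))),
            Function.update_of_ne (fun e => hsn' (by rw [← e]; exact hr))]) s' (by simp)
      rw [Function.update_of_ne hne.symm, Function.update_self] at h1
      have he := Z.el_pair s s' c hunit (t s)
      rw [h1] at he
      refine hclose (Z.el (.pair s s' c) (t s)) ?_ (Subgroup.subset_closure ⟨_, List.mem_cons_self, t s, trivial, rfl⟩)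
      rw [map_inv, he, ht, ← mul_assoc (Z.Y.x s (t s)), inv_mul_cancel_left]
      exact hbX

end Cfsg.Lib.Chev.SimpDeg
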